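import Cfsg.Agent.Lib.LocalEven.OnePointFront.Nonfull.Linear.TowerClasses
import Cfsg.Agent.Lib.LocalEven.OnePointFront.Nonfull.Orbit

/-!
# Linear lines: the translations of `x`

`moveGroup x K R` consists of the elements of `K` normalising `R` which send `x` into `x R`;
`shift x k` is the translation they induce.  A 2-subgroup of it of largest order, normalised by a given
2-group, realises every translation and meets the centraliser of `x` in `R`.
-/

set_option autoImplicit false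
set_option linter.style.haveILetI false
set_option linter.unusedSectionVars false

namespace CfsgLib.LocalEven.OnePointFront.Nonfull

open MulAction CfsgLib.LocalEven.TIEndgame CfsgLib.Involution

universe u

variable {G Ω : Type u} [Group G] [MulAction G Ω]

/-- The element by which `k` moves the involution `x`. -/
def shift (x k : G) : G := x * (k * x * k⁻¹)

theorem conj_eq_mul_shift {x : G} (hx : x * x = 1) (k : G) : k * x * k⁻¹ = x * shift x k := by
  rw [shift, ← mul_assoc, hx, one_mul]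

theorem shift_one {x : G} (hx : x * x = 1) : shift x 1 = 1 := by
  simp [shift, hx]

theorem shift_mul {x : G} (hx : x * x = 1) (k k' : G) :
    shift x (k * k') = shift x k * (k * shift x k' * k⁻¹) :=
  calc shift x (k * k') = x * k * (k' * x * k'⁻¹) * k⁻¹ := by rw [shift]; group
    _ = x * k * (x * x) * (k' * x * k'⁻¹) * k⁻¹ := by rw [hx, mul_one]
    _ = _ := by simp only [shift]; group

theorem shift_inv {x : G} (hx : x * x = 1) (k : G) :
    shift x k⁻¹ = (k⁻¹ * shift x k * k)⁻¹ := by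
  rw [eq_inv_iff_mul_eq_one]
  have h := shift_mul hx k⁻¹ k
  rwa [inv_mul_cancel, shift_one hx, inv_inv, eq_comm] at h

theorem shift_eq_one {x k : G} (hx : x * x = 1) : shift x k = 1 ↔ Commute x k := by
  constructor
  · intro h
    have h1 := conj_eq_mul_shift hx k
    rw [h, mul_one, mul_inv_eq_iff_eq_mul] at h1
    exact h1.symm
  · intro h
    rw [shift, ← h.eq, mul_assoc x k, mul_inv_cancel, mul_one, hx]

theorem shift_eq_iff {x k k' : G} (hx : x * x = 1) :
    shift x k = shift x k' ↔ Commute x (k⁻¹ * k') := by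
  rw [← shift_eq_one hx, shift_mul hx, shift_inv hx, inv_inv, mul_inv_rev, mul_inv_rev, inv_inv]
  constructor
  · intro h; rw [h]; group
  · intro h
    have h1 : (shift x k)⁻¹ * shift x k' = 1 := by
      calc (shift x k)⁻¹ * shift x k'
          = k * (k⁻¹ * ((shift x k)⁻¹ * k) * (k⁻¹ * shift x k' * k)) * k⁻¹ := by group
        _ = k * 1 * k⁻¹ := by rw [h]
        _ = 1 := by group
    exact inv_mul_eq_one.1 h1

theorem shift_conj {x g : G} (hg : Commute x g) (k : G) :
    shift x (g * k * g⁻¹) = g * shift x k * g⁻¹ := by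
  have h1 : g⁻¹ * x * g = x := by rw [mul_assoc, hg.eq, inv_mul_cancel_left]
  calc shift x (g * k * g⁻¹) = x * g * (k * (g⁻¹ * x * g) * k⁻¹) * g⁻¹ := by rw [shift]; group
    _ = _ := by rw [h1, hg.eq, shift]; group

/-- The elements of `K` normalising `R` which move `x` inside `x R`. -/
def moveGroup (x : G) (K R : Subgroup G) (hx : x * x = 1) : Subgroup G where
  carrier := {k | k ∈ K ∧ k ∈ Subgroup.normalizer (R : Set G) ∧ shift x k ∈ R}
  one_mem' := ⟨one_mem _, one_mem _, by rw [shift_one hx]; exact one_mem _⟩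
  mul_mem' := by
    rintro k k' ⟨h1, h2, h3⟩ ⟨h1', h2', h3'⟩
    refine ⟨mul_mem h1 h1', mul_mem h2 h2', ?_⟩
    rw [shift_mul hx]
    exact mul_mem h3 ((Subgroup.mem_normalizer_iff.1 h2 _).1 h3')
  inv_mem' := by
    rintro k ⟨h1, h2, h3⟩
    refine ⟨inv_mem h1, inv_mem h2, ?_⟩
    rw [shift_inv hx]
    refine inv_mem ?_
    have := (Subgroup.mem_normalizer_iff.1 (inv_mem h2) _).1 h3
    rwa [inv_inv] at this

theorem mem_moveGroup {x : G} {K R : Subgroup G} {hx : x * x = 1} {k : G} :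
    k ∈ moveGroup x K R hx ↔
      k ∈ K ∧ k ∈ Subgroup.normalizer (R : Set G) ∧ shift x k ∈ R := Iff.rfl

/-- A 2-group normalising `N` normalises a 2-subgroup of `N` of odd index. -/
theorem exists_invariant [Finite G] {N V : Subgroup G} (hV : IsPGroup 2 V)
    (hVN : V ≤ Subgroup.normalizer (N : Set G)) :
    ∃ P ≤ N, IsPGroup 2 P ∧ Odd (P.relIndex N) ∧ V ≤ Subgroup.normalizer (P : Set G) := by
  haveI : Fact (Nat.Prime 2) := ⟨Nat.prime_two⟩
  set L := N ⊔ V with hL
  obtain ⟨W, hW⟩ := (hV.of_equiv (Subgroup.subgroupOfEquivOfLe (le_sup_right : V ≤ L)).symm).exists_le_sylow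
  set P := (W : Subgroup ↥L).map L.subtype ⊓ N with hP
  have hP2 : IsPGroup 2 P := (W.2.map _).to_le inf_le_left
  have hLN : L ≤ Subgroup.normalizer (N : Set G) := sup_le Subgroup.le_normalizer hVN
  refine ⟨P, inf_le_right, hP2, ?_, ?_⟩
  · obtain ⟨Q⟩ : Nonempty (Sylow 2 ↥N) := inferInstance
    -- a conjugate of `Q` lies in `W`
    let Q' : Subgroup ↥L := (Q : Subgroup ↥N).map (Subgroup.inclusion le_sup_left)
    obtain ⟨g, hg⟩ := Involution.Basic.exists_conj_le W (Q.2.map _ : IsPGroup 2 Q')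
    have hle : Nat.card Q ≤ Nat.card P := by
      refine Nat.card_le_card_of_injective (fun y : Q =>
        (⟨(g : G) * ((y : ↥N) : G) * (g : G)⁻¹, ?_, ?_⟩ : ↥P)) ?_
      · exact ⟨_, hg _ ⟨(y : ↥N), y.2, rfl⟩, rfl⟩
      · exact (Subgroup.mem_normalizer_iff.1 (hLN g.2) _).1 (y : ↥N).2
      · intro y y' hyy
        have h1 : (g : G) * ((y : ↥N) : G) * (g : G)⁻¹ = (g : G) * ((y' : ↥N) : G) * (g : G)⁻¹ :=
          congrArg Subtype.val hyy
        exact Subtype.ext (Subtype.ext (mul_left_cancel (mul_right_cancel h1)))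
    obtain ⟨Q₁, hQ₁⟩ := (hP2.of_equiv
      (Subgroup.subgroupOfEquivOfLe (inf_le_right : P ≤ N)).symm).exists_le_sylow
    have hPN : P.subgroupOf N = (Q₁ : Subgroup ↥N) := Subgroup.eq_of_le_of_card_ge hQ₁ (by
      rw [Nat.card_congr (Subgroup.subgroupOfEquivOfLe (inf_le_right : P ≤ N)).toEquiv,
        show Nat.card ↥(Q₁ : Subgroup ↥N) = Nat.card Q from Nat.card_congr (Q₁.equiv Q).toEquiv]
      exact hle)
    have h := Q₁.not_dvd_index
    rw [← hPN] at h
    exact Nat.not_even_iff_odd.1 fun he => h (even_iff_two_dvd.1 he)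
  · have key : ∀ v ∈ V, ∀ p ∈ P, v * p * v⁻¹ ∈ P := by
      intro v hv p hp
      obtain ⟨w, hw, hwp⟩ := hp.1
      have hvW : (⟨v, le_sup_right (a := N) hv⟩ : ↥L) ∈ (W : Subgroup ↥L) := hW hv
      refine ⟨⟨_, mul_mem (mul_mem hvW hw) (inv_mem hvW), ?_⟩,
        (Subgroup.mem_normalizer_iff.1 (hVN hv) _).1 hp.2⟩
      rw [← hwp]; rfl
    intro v hv
    refine Subgroup.mem_normalizer_iff.2 fun p => ⟨key v hv p, fun hp => ?_⟩
    have := key v⁻¹ (inv_mem hv) _ hp
    simpa [mul_assoc] using this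

variable {D : Set G} {a : Ω} {x : G} {K R J : Subgroup G}

namespace LinearLine

variable (L : LinearLine D a x K R J)
include L

theorem exists_other : ∃ b : Ω, x • b = b ∧ b ≠ a := by
  obtain ⟨-, p, q, hpq, hp, hq⟩ := L.bad
  by_cases hpa : p = a
  · exact ⟨q, hq, fun e => hpq (hpa.trans e.symm)⟩
  · exact ⟨p, hp, hpa⟩

theorem le_K : R ≤ K := fun r hr => by
  rcases eq_or_ne r 1 with rfl | h
  · exact one_mem _
  · exact L.point.dat_le r (L.member r hr h)

theorem le_stab : R ≤ stabilizer G a := L.le_K.trans L.point.le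

theorem pgroup : IsPGroup 2 R := fun r => ⟨1, Subtype.ext (by simpa [pow_two] using L.sq r r.2)⟩

theorem comm_R {r s : G} (hr : r ∈ R) (hs : s ∈ R) : Commute r s := by
  have h := L.sq _ (mul_mem hr hs)
  show r * s = s * r
  calc r * s = (r * s)⁻¹ := (inv_eq_of_mul_eq_one_right h).symm
    _ = s⁻¹ * r⁻¹ := mul_inv_rev r s
    _ = s * r := by rw [inv_eq_of_mul_eq_one_right (L.sq r hr),
        inv_eq_of_mul_eq_one_right (L.sq s hs)]

theorem conj_R {r s : G} (hr : r ∈ R) (hs : s ∈ R) : r * s * r⁻¹ = s := by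
  rw [(L.comm_R hr hs).eq, mul_inv_cancel_right]

theorem le_moveGroup : R ≤ moveGroup x K R L.sq_x := fun r hr =>
  mem_moveGroup.2 ⟨L.le_K hr, Subgroup.le_normalizer hr,
    by rw [(shift_eq_one L.sq_x).2 (L.comm r hr)]; exact one_mem _⟩

theorem exists_pair [Finite G] : ∃ r ∈ R, ∃ s ∈ R, r ≠ 1 ∧ s ≠ 1 ∧ r ≠ s := by
  obtain ⟨r, hr⟩ : ∃ r : R, r ≠ 1 := by
    haveI : Nontrivial R := Finite.one_lt_card_iff_nontrivial.1 (by have := L.four; omega)
    exact exists_ne _
  by_contra hno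
  push Not at hno
  haveI := Fintype.ofFinite R
  classical
  have hsub : (Finset.univ : Finset R) ⊆ {1, r} := fun s _ => by
    rcases eq_or_ne s 1 with h | h
    · simp [h]
    · simp [Subtype.ext (hno r r.2 s s.2 (fun e => hr (Subtype.ext e))
        (fun e => h (Subtype.ext e))).symm]
  have := Finset.card_le_card hsub
  rw [Finset.card_univ, ← Nat.card_eq_fintype_card] at this
  have := Finset.card_le_two (a := (1 : R)) (b := r)
  have := L.four
  omega

variable [Finite G] [Finite Ω]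

/-- A bad involution centralising `R` and fixing the fixed points of `x` fixes no others. -/
theorem fixed_eq (hmax : MaxLine Ω R x) {y : G} (hy : orderOf y = 2) (hyR : ∀ r ∈ R, Commute y r)
    (hfix : ∀ c : Ω, x • c = c → y • c = c) : ∀ c : Ω, y • c = c ↔ x • c = c := by
  obtain ⟨b, hb, hba⟩ := L.exists_other
  have hbad : IsBad Ω y := ⟨hy, a, b, hba.symm, hfix a L.fix, hfix b hb⟩
  have hle := hmax y hbad hyR
  have heq : fixedBy Ω x = fixedBy Ω y := by
    refine Set.eq_of_subset_of_ncard_le (fun c hc => hfix c hc) ?_ (Set.toFinite _)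
    rwa [← Nat.card_coe_set_eq, ← Nat.card_coe_set_eq]
  exact fun c => by
    show c ∈ fixedBy Ω y ↔ c ∈ fixedBy Ω x
    rw [heq]

variable (h : ClosedSetting D Ω)
include h

/-- A 2-element of `K` fixes only `a`. -/
theorem eq_one_of_fix {k : G} (hk : k ∈ K) (h2 : ∃ n : ℕ, k ^ 2 ^ n = 1) {b : Ω} (hb : k • b = b)
    (hba : b ≠ a) : k = 1 := by
  obtain ⟨n, hn⟩ := h2
  induction n generalizing k with
  | zero => simpa using hn
  | succ n ih =>
    have h1 : k ^ 2 = 1 := by
      refine ih (pow_mem hk 2) (by rw [pow_two, mul_smul, hb, hb]) ?_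
      rw [← pow_mul, ← pow_succ']
      exact hn
    by_contra hne
    have hd := L.point.invol_mem k hk (orderOf_eq_prime h1 hne)
    exact hba (h.fixed_unique k hd.1 b a hb hd.2)

/-- An element of `R` fixing another point is trivial. -/
theorem eq_one_of_mem {r : G} (hr : r ∈ R) {b : Ω} (hb : r • b = b) (hba : b ≠ a) : r = 1 :=
  L.eq_one_of_fix h (L.le_K hr) ⟨1, by rw [pow_one, pow_two, L.sq r hr]⟩ hb hba

/-- The 2-subgroups of `K` containing `R` and commuting with `y` are `R`, if `y` has the fixed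
points of `x`. -/
theorem mem_R {U : Subgroup G} (hU : IsPGroup 2 U) (hUK : U ≤ K) (hRU : R ≤ U) {y : G}
    (hfix : ∀ c : Ω, y • c = c ↔ x • c = c) {u : G} (hu : u ∈ U) (hyu : Commute y u) : u ∈ R := by
  obtain ⟨b, hb, hba⟩ := L.exists_other
  have hua : u • a = a := mem_stabilizer_iff.1 (L.point.le (hUK hu))
  have hxub : x • (u • b) = u • b := (hfix _).1 (by
    rw [← mul_smul, hyu.eq, mul_smul, (hfix b).2 hb])
  obtain ⟨r, hr, hrb⟩ := L.trans b (u • b) hb hxub hba
    (fun e => hba (smul_left_cancel u (by rw [e, hua])))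
  have hmem : r⁻¹ * u ∈ U := mul_mem (inv_mem (hRU hr)) hu
  obtain ⟨n, hn⟩ := hU ⟨_, hmem⟩
  have h1 := L.eq_one_of_fix h (hUK hmem) ⟨n, congrArg Subtype.val hn⟩
    (by rw [mul_smul, ← hrb, inv_smul_smul]) hba
  rwa [← inv_mul_eq_one.1 h1]

/-- A 2-group of the centraliser of `x` at `a` containing `R` meets `K` in `R`. -/
theorem inf_K {V : Subgroup G} (hV : IsPGroup 2 V) (hVC : V ≤ Subgroup.centralizer ({x} : Set G))
    (hRV : R ≤ V) : V ⊓ K = R := le_antisymm
  (fun v hv => L.mem_R h (hV.to_le inf_le_left) inf_le_right (le_inf hRV L.le_K) (fun _ => Iff.rfl)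
    hv (Subgroup.mem_centralizer_singleton_iff.1 (hVC hv.1)).symm)
  (le_inf hRV L.le_K)

/-- Such a group normalises `R`. -/
theorem le_normalizer {V : Subgroup G} (hV : IsPGroup 2 V)
    (hVC : V ≤ stabilizer G a ⊓ Subgroup.centralizer ({x} : Set G)) (hRV : R ≤ V) :
    V ≤ Subgroup.normalizer (R : Set G) := by
  have key : ∀ v ∈ V, ∀ r ∈ R, v * r * v⁻¹ ∈ R := fun v hv r hr => by
    rw [← L.inf_K h hV (hVC.trans inf_le_right) hRV]
    exact Subgroup.mem_inf.2
      ⟨mul_mem (mul_mem hv (hRV hr)) (inv_mem hv), L.point.conj v (hVC hv).1 r (L.le_K hr)⟩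
  intro v hv
  refine Subgroup.mem_normalizer_iff.2 fun r => ⟨key v hv r, fun hr => ?_⟩
  have := key v⁻¹ (inv_mem hv) _ hr
  simpa [mul_assoc] using this

/-- Every translation is realised in `moveGroup`. -/
theorem exists_shift (hnf : NoFull D Ω) {r : G} (hr : r ∈ R) :
    ∃ k ∈ moveGroup x K R L.sq_x, shift x k = r := by
  have hcard : IsPGroup 2 ↥(R ⊔ Subgroup.zpowers x) := L.pgroup.to_sup_of_normal_left'
    (Involution.Basic.isPGroup_zpowers_of_two L.bad.1)
    (Subgroup.zpowers_le.2 (Subgroup.centralizer_le_normalizer _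
      (Subgroup.mem_centralizer_iff.2 fun r hr => (L.comm r hr).eq.symm)))
  obtain ⟨S, hS, hle⟩ := exists_top_two hcard
    (sup_le L.le_stab (Subgroup.zpowers_le.2 (mem_stabilizer_iff.2 L.fix)))
  have hxS : x ∈ S := hle (Subgroup.mem_sup_right (Subgroup.mem_zpowers x))
  have hRS : R ≤ S := le_sup_left.trans hle
  have hR : ∀ d : G, d ∈ R ↔ d = 1 ∨ (d ∈ D ∧ d ∈ S ∧ Commute x d) := by
    intro d
    constructor
    · intro hd
      rcases eq_or_ne d 1 with h1 | h1
      · exact Or.inl h1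
      · exact Or.inr ⟨(L.member d hd h1).1, hRS hd, L.comm d hd⟩
    · rintro (rfl | ⟨hdD, hdS, hxd⟩)
      · exact one_mem _
      · exact L.mem_R h (hS.1.to_le inf_le_left : IsPGroup 2 ↥(S ⊓ K)) inf_le_right
          (le_inf hRS L.le_K) (fun _ => Iff.rfl)
          ⟨hdS, L.point.dat_le d ⟨hdD, mem_stabilizer_iff.1 (hS.2.1 hdS)⟩⟩ hxd
  have hmove : ∃ d ∈ D, d ∈ S ∧ ¬ Commute x d := by
    by_contra hno
    push Not at hno
    exact hnf x ⟨L.bad, a, S, hS, hxS, hno⟩
  obtain ⟨⟨k, hkK, hkR, -, hk⟩, -⟩ := orbit h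
    (fun g hg k hk => L.point.conj g (mem_stabilizer_iff.2 hg) k hk)
    (fun k hk h2 => (L.point.invol_mem k hk h2).1)
    (fun d hd hda => L.point.dat_le d ⟨hd, hda⟩) L.bad hS.1 hS.2.1 hxS hR hmove
    (fun r hr hr1 s hs hs1 => by
      obtain ⟨j, hj, hjr⟩ := L.trans_J r hr s hs hr1 hs1
      exact ⟨j, L.fix_J j hj, L.comm_J j hj, L.norm_J hj, hjr⟩) r hr
  have hsh : shift x k = r := by rw [shift, hk, ← mul_assoc, L.sq_x, one_mul]
  exact ⟨k, mem_moveGroup.2 ⟨hkK, hkR, hsh.symm ▸ hr⟩, hsh⟩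

end LinearLine

/-- A 2-group realising all translations of `x`. -/
structure Translations (x : G) (R N V P : Subgroup G) : Prop where
  le : P ≤ N
  pgroup : IsPGroup 2 P
  R_le : R ≤ P
  inv : V ≤ Subgroup.normalizer (P : Set G)
  sylow : Odd (P.relIndex N)
  eq_R : ∀ p ∈ P, Commute x p → p ∈ R
  onto : ∀ r ∈ R, ∃ p ∈ P, shift x p = r

namespace LinearLine

variable (L : LinearLine D a x K R J) [Finite G] [Finite Ω] (h : ClosedSetting D Ω)
include L h

theorem exists_translations {N V : Subgroup G} (hV : IsPGroup 2 V)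
    (hN : N ≤ moveGroup x K R L.sq_x) (hRN : R ≤ N) (hVN : V ≤ Subgroup.normalizer (N : Set G))
    (honto : ∀ r ∈ R, ∃ k ∈ N, shift x k = r) : ∃ P, Translations x R N V P := by
  haveI : Fact (Nat.Prime 2) := ⟨Nat.prime_two⟩
  obtain ⟨P, hPN, hP, hodd, hinv⟩ := exists_invariant hV hVN
  have hNK : N ≤ K := fun k hk => (mem_moveGroup.1 (hN hk)).1
  have hRP : R ≤ P := by
    have hsup : IsPGroup 2 ↥(P ⊔ R) := by
      rw [sup_comm]
      exact L.pgroup.to_sup_of_normal_left' hP (fun p hp => (mem_moveGroup.1 (hN (hPN hp))).2.1)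
    have h1 : (P.subgroupOf N) ≤ ((P ⊔ R).subgroupOf N) := fun p hp => Subgroup.mem_sup_left hp
    have hle : P ⊔ R ≤ N := sup_le hPN hRN
    let Q : Sylow 2 ↥N := (hP.of_equiv (Subgroup.subgroupOfEquivOfLe hPN).symm).toSylow
      (fun hd => Nat.not_even_iff_odd.2 hodd (even_iff_two_dvd.2 hd))
    have h2 := Q.3 (hsup.of_equiv (Subgroup.subgroupOfEquivOfLe hle).symm) h1
    intro r hr
    have h3 : (⟨r, hRN hr⟩ : ↥N) ∈ (P ⊔ R).subgroupOf N := Subgroup.mem_sup_right hr
    rw [h2] at h3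
    exact h3
  have heq : ∀ p ∈ P, Commute x p → p ∈ R := fun p hp hxp =>
    L.mem_R h hP (hPN.trans hNK) hRP (fun _ => Iff.rfl) hp hxp
  refine ⟨P, hPN, hP, hRP, hinv, hodd, heq, ?_⟩
  -- the orders
  set C := N ⊓ Subgroup.centralizer ({x} : Set G) with hC
  have hRC : R ≤ C := le_inf hRN fun r hr =>
    Subgroup.mem_centralizer_singleton_iff.2 (L.comm r hr).eq.symm
  have hquot : ∀ (U : Subgroup G), U ≤ N →
      ∃ f : ↥U ⧸ (U ⊓ Subgroup.centralizer ({x} : Set G)).subgroupOf U → ↥R,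
        Function.Injective f ∧ ∀ u : ↥U, ((f (QuotientGroup.mk u) : ↥R) : G) = shift x u := by
    intro U hU
    refine ⟨Quotient.lift (fun u : ↥U => (⟨shift x u, (mem_moveGroup.1 (hN (hU u.2))).2.2⟩ : ↥R))
      (fun u u' huu => Subtype.ext ((shift_eq_iff L.sq_x).2 ?_)), ?_, fun u => rfl⟩
    · have h1 := QuotientGroup.leftRel_apply.1 huu
      exact (Subgroup.mem_centralizer_singleton_iff.1 (Subgroup.mem_subgroupOf.1 h1).2).symm
    · intro q q'
      induction q using QuotientGroup.induction_on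
      induction q' using QuotientGroup.induction_on
      rename_i u u'
      intro huu
      have h1 := (shift_eq_iff L.sq_x).1 (congrArg Subtype.val huu)
      refine QuotientGroup.eq.2 (Subgroup.mem_subgroupOf.2 ⟨(u⁻¹ * u').2, ?_⟩)
      exact Subgroup.mem_centralizer_singleton_iff.2 h1.symm.eq
  obtain ⟨f, hf, hfv⟩ := hquot N le_rfl
  obtain ⟨g, hg, hgv⟩ := hquot P hPN
  have hfs : Function.Surjective f := fun r => by
    obtain ⟨k, hk, hkr⟩ := honto r r.2
    exact ⟨QuotientGroup.mk ⟨k, hk⟩, Subtype.ext ((hfv _).trans hkr)⟩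
  have hNcard : Nat.card ↥N = Nat.card ↥R * Nat.card ↥C := by
    rw [Subgroup.card_eq_card_quotient_mul_card_subgroup (C.subgroupOf N),
      Nat.card_congr (Subgroup.subgroupOfEquivOfLe (inf_le_left : C ≤ N)).toEquiv,
      Nat.card_eq_of_bijective f ⟨hf, hfs⟩]
  have hPC : P ⊓ Subgroup.centralizer ({x} : Set G) = R := le_antisymm
    (fun p hp => heq p hp.1 (Subgroup.mem_centralizer_singleton_iff.1 hp.2).symm)
    (le_inf hRP (hRC.trans inf_le_right))
  have hgs : Function.Surjective g := by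
    refine (hg.bijective_of_nat_card_le ?_).2
    by_contra hlt
    push Not at hlt
    obtain ⟨i, hi⟩ := hP.exists_card_eq
    obtain ⟨n, hn⟩ := L.pgroup.exists_card_eq
    have hd1 : Nat.card ↥R * Nat.card ↥R ∣ Nat.card ↥N := by
      rw [hNcard]; exact Nat.mul_dvd_mul dvd_rfl (Subgroup.card_dvd_of_le hRC)
    have hd2 : Nat.card ↥N = Nat.card ↥P * P.relIndex N := by
      rw [← Subgroup.card_mul_index (P.subgroupOf N),
        Nat.card_congr (Subgroup.subgroupOfEquivOfLe hPN).toEquiv]; rfl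
    have hP2 : Nat.card ↥R * Nat.card ↥R ∣ Nat.card ↥P := by
      refine Nat.Coprime.dvd_of_dvd_mul_right ?_ (hd2 ▸ hd1)
      rw [hn, ← pow_add]
      exact (Nat.coprime_two_left.2 hodd).pow_left _
    have hPcard : Nat.card ↥P =
        Nat.card (↥P ⧸ (P ⊓ Subgroup.centralizer ({x} : Set G)).subgroupOf P) * Nat.card ↥R := by
      rw [Subgroup.card_eq_card_quotient_mul_card_subgroup
        ((P ⊓ Subgroup.centralizer ({x} : Set G)).subgroupOf P),
        Nat.card_congr (Subgroup.subgroupOfEquivOfLe (inf_le_left :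
          P ⊓ Subgroup.centralizer ({x} : Set G) ≤ P)).toEquiv, hPC]
    have := Nat.le_of_dvd Nat.card_pos hP2
    rw [hPcard] at this
    exact absurd (Nat.le_of_mul_le_mul_right this Nat.card_pos) (not_le.2 hlt)
  intro r hr
  obtain ⟨q, hq⟩ := hgs ⟨r, hr⟩
  induction q using QuotientGroup.induction_on
  rename_i p
  exact ⟨p, p.2, ((hgv p).symm.trans (congrArg Subtype.val hq))⟩

end LinearLine

end CfsgLib.LocalEven.OnePointFront.Nonfull
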