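import Mathlib.GroupTheory.QuotientGroup.Basic
import Mathlib.Algebra.Group.End
import Mathlib.Data.Fintype.EquivFin
import Mathlib.Data.Fintype.Pi
import Mathlib.Tactic

/-!
# Linear lines of bad involutions: the algebra of a commutative transitive group

`R` is a finite elementary abelian 2-group and `J` a commutative group of automorphisms, transitive on
its non-trivial elements (a one-dimensional space over a finite field with its scalars).

* `phi`: a biadditive, alternating, `J`-equivariant pairing is trivial (lemma PHI of the notes);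
* `eq_one_or_mem`: a map commuting with `J` and fixing `1` is trivial or a member of `J`, so it is
  additive (`map_mul`), trivial or bijective, and commutes with every map commuting with `J`.
-/

set_option autoImplicit false

namespace CfsgLib.LocalEven.OnePointFront.Nonfull.LinearAlgebra

universe u

variable {R : Type u} [CommGroup R]

/-- `J` is commutative and transitive on the non-trivial elements. -/
structure Scalars (J : Subgroup (MulAut R)) : Prop where
  sq : ∀ r : R, r * r = 1
  comm : ∀ i ∈ J, ∀ j ∈ J, i * j = j * i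
  trans : ∀ r s : R, r ≠ 1 → s ≠ 1 → ∃ j ∈ J, j r = s

namespace Scalars

variable {J : Subgroup (MulAut R)} (hJ : Scalars J)
include hJ

theorem inv_eq (r : R) : r⁻¹ = r := inv_eq_of_mul_eq_one_right (hJ.sq r)

theorem apply_comm {i j : MulAut R} (hi : i ∈ J) (hj : j ∈ J) (r : R) : i (j r) = j (i r) := by
  rw [← MulAut.mul_apply, hJ.comm i hi j hj, MulAut.mul_apply]

/-- The action is regular. -/
theorem eq_one_of_fixed {k : MulAut R} (hk : k ∈ J) {e : R} (he : e ≠ 1) (h : k e = e) : k = 1 := by
  refine MulEquiv.ext fun r => ?_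
  rw [MulAut.one_apply]
  by_cases hr : r = 1
  · rw [hr, map_one]
  obtain ⟨j, hj, rfl⟩ := hJ.trans e r he hr
  rw [hJ.apply_comm hk hj, h]

/-- No element of `J` has order two. -/
theorem eq_one_of_sq {k : MulAut R} (hk : k ∈ J) (h : k * k = 1) : k = 1 := by
  refine MulEquiv.ext fun r => ?_
  rw [MulAut.one_apply]
  by_cases ht : r * k r = 1
  · rw [eq_inv_of_mul_eq_one_right ht, hJ.inv_eq]
  · have hfix : k (r * k r) = r * k r := by
      rw [map_mul, ← MulAut.mul_apply, h, MulAut.one_apply, mul_comm]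
    rw [hJ.eq_one_of_fixed hk ht hfix, MulAut.one_apply]

/-- Every element of `J` is a square. -/
theorem exists_sq [Finite R] {j : MulAut R} (hj : j ∈ J) : ∃ k ∈ J, k * k = j := by
  haveI : Finite (MulAut R) := Finite.of_injective _ DFunLike.coe_injective
  have hinj : Function.Injective fun k : J => k * k := by
    intro a b hab
    have hab' : (a : MulAut R) * a = b * b := congrArg Subtype.val hab
    refine Subtype.ext (mul_inv_eq_one.mp (hJ.eq_one_of_sq (mul_mem a.2 (inv_mem b.2)) ?_))
    rw [mul_assoc, ← mul_assoc ((b : MulAut R)⁻¹), hJ.comm _ (inv_mem b.2) _ a.2, mul_assoc,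
      ← mul_assoc (a : MulAut R) a, hab', ← mul_inv_rev, mul_inv_cancel]
  obtain ⟨k, hk⟩ := Finite.injective_iff_surjective.mp hinj ⟨j, hj⟩
  exact ⟨k, k.2, congrArg Subtype.val hk⟩

/-- LEMMA PHI: a biadditive alternating equivariant pairing is trivial. -/
theorem phi [Finite R] (B : R → R → R) (hl : ∀ u v w, B (u * v) w = B u w * B v w)
    (hr : ∀ u v w, B u (v * w) = B u v * B u w) (halt : ∀ u, B u u = 1)
    (heq : ∀ j ∈ J, ∀ u v, B (j u) (j v) = j (B u v)) : ∀ u v, B u v = 1 := by
  classical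
  have h1l : ∀ w, B 1 w = 1 := fun w => mul_eq_left.mp ((hl 1 1 w).symm.trans (by rw [one_mul]))
  have hswap : ∀ u v, B u v = B v u := fun u v => by
    have h := halt (u * v)
    rw [hl, hr, hr, halt, halt, one_mul, mul_one] at h
    rw [eq_inv_of_mul_eq_one_left h, hJ.inv_eq]
  by_cases htriv : ∀ e : R, e = 1
  · exact fun u v => htriv _
  push Not at htriv
  obtain ⟨e, he⟩ := htriv
  have hflip : ∀ j ∈ J, B e (j e) = j (B e (j⁻¹ e)) := fun j hj => by
    rw [← heq j hj, ← MulAut.mul_apply, mul_inv_cancel, MulAut.one_apply, hswap]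
  have hsq : ∀ j ∈ J, B e (j (j e)) = 1 := by
    intro j hj
    by_cases hje : j e = e
    · rw [hje, hje, halt]
    -- `k` is the scalar `j + 1`
    have hne : j e * e ≠ 1 := fun h => hje (by rw [eq_inv_of_mul_eq_one_left h, hJ.inv_eq])
    obtain ⟨k, hk, hke⟩ := hJ.trans e (j e * e) he hne
    have hkall : ∀ r, k r = j r * r := fun r => by
      by_cases hr1 : r = 1
      · subst hr1; rw [map_one, map_one, one_mul]
      obtain ⟨i, hi, rfl⟩ := hJ.trans e r he hr1
      rw [hJ.apply_comm hk hi, hke, map_mul, hJ.apply_comm hj hi]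
    have hinv : (j * k)⁻¹ e = j⁻¹ e * k⁻¹ e := by
      refine (j * k).injective ?_
      rw [← MulAut.mul_apply, mul_inv_cancel, MulAut.one_apply, map_mul, ← MulAut.mul_apply,
        ← MulAut.mul_apply, hJ.comm j hj k hk, mul_assoc, mul_inv_cancel, mul_one,
        ← hJ.comm j hj k hk, mul_assoc, mul_inv_cancel, mul_one, hkall, mul_comm (j e) e,
        mul_assoc, hJ.sq, mul_one]
    have e1 : B e ((j * k) e) = B e (j (j e)) * B e (j e) := by
      rw [MulAut.mul_apply, hkall, map_mul, hr]
    have hBk : B e (k e) = B e (j e) := by rw [hke, hr, halt, mul_one]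
    have e2 : B e ((j * k) e) = B e (j e) := by
      rw [hflip _ (mul_mem hj hk), hinv, hr, map_mul, MulAut.mul_apply, MulAut.mul_apply,
        ← hflip k hk, hBk, hJ.apply_comm hj hk, ← hflip j hj, hkall, mul_right_comm, hJ.sq, one_mul]
    exact mul_eq_right.mp (e1.symm.trans e2)
  have hf : ∀ v, B e v = 1 := fun v => by
    by_cases hv : v = 1
    · exact hv ▸ mul_eq_left.mp ((hr e 1 1).symm.trans (by rw [one_mul]))
    obtain ⟨j, hj, rfl⟩ := hJ.trans e v he hv
    obtain ⟨i, hi, rfl⟩ := hJ.exists_sq hj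
    rw [MulAut.mul_apply]
    exact hsq i hi
  intro u v
  by_cases hu : u = 1
  · rw [hu, h1l]
  obtain ⟨j, hj, rfl⟩ := hJ.trans e u he hu
  rw [show v = j (j⁻¹ v) by rw [← MulAut.mul_apply, mul_inv_cancel, MulAut.one_apply], heq j hj, hf,
    map_one]

/-- A map commuting with `J` fixes `1`, when there are at least three elements. -/
theorem apply_one {f : R → R} (hf : ∀ j ∈ J, ∀ r, f (j r) = j (f r)) {r s : R} (hr : r ≠ 1)
    (hs : s ≠ 1) (hrs : r ≠ s) : f 1 = 1 := by
  by_contra h
  obtain ⟨j, hj, hjr⟩ := hJ.trans r s hr hs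
  have h1 := hf j hj 1
  rw [map_one] at h1
  rw [hJ.eq_one_of_fixed hj h h1.symm, MulAut.one_apply] at hjr
  exact hrs hjr

/-- A map commuting with `J` is trivial or lies in `J`. -/
theorem eq_one_or_mem {f : R → R} (hf : ∀ j ∈ J, ∀ r, f (j r) = j (f r)) (h1 : f 1 = 1) :
    (∀ r, f r = 1) ∨ ∃ i ∈ J, ∀ r, f r = i r := by
  by_cases htriv : ∀ r, f r = 1
  · exact Or.inl htriv
  push Not at htriv
  obtain ⟨e, hfe⟩ := htriv
  have he : e ≠ 1 := fun h => hfe (h ▸ h1)
  obtain ⟨i, hi, hie⟩ := hJ.trans e (f e) he hfe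
  refine Or.inr ⟨i, hi, fun r => ?_⟩
  by_cases hr : r = 1
  · subst hr; rw [h1, map_one]
  obtain ⟨j, hj, rfl⟩ := hJ.trans e r he hr
  rw [hf j hj, ← hie, hJ.apply_comm hj hi]

/-- A map commuting with `J` is additive. -/
theorem map_mul' {f : R → R} (hf : ∀ j ∈ J, ∀ r, f (j r) = j (f r)) (h1 : f 1 = 1) (r s : R) :
    f (r * s) = f r * f s := by
  rcases hJ.eq_one_or_mem hf h1 with h | ⟨i, -, h⟩
  · simp [h]
  · rw [h, h, h, map_mul]

/-- An additive map commuting with `J` is trivial or bijective. -/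
theorem eq_one_or_bijective (f : R →* R) (hf : ∀ j ∈ J, ∀ r, f (j r) = j (f r)) :
    (∀ r, f r = 1) ∨ Function.Bijective f := by
  rcases hJ.eq_one_or_mem hf (map_one f) with h | ⟨i, -, h⟩
  · exact Or.inl h
  · refine Or.inr ?_
    rw [show ⇑f = ⇑i from funext h]
    exact i.bijective

/-- A map commuting with `J` commutes with every map commuting with `J`. -/
theorem commute_of_commute {f g : R → R} (hf : ∀ j ∈ J, ∀ r, f (j r) = j (f r)) (hf1 : f 1 = 1)
    (hg : ∀ j ∈ J, ∀ r, g (j r) = j (g r)) (hg1 : g 1 = 1) (r : R) : f (g r) = g (f r) := by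
  rcases hJ.eq_one_or_mem hf hf1 with h | ⟨i, hi, h⟩
  · rw [h, h, hg1]
  · rw [h, h, hg i hi]

end Scalars

end CfsgLib.LocalEven.OnePointFront.Nonfull.LinearAlgebra
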