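import Cfsg.Agent.Lib.LocalEven.OnePointFront.Nonfull.Linear.TowerClasses
import Cfsg.Agent.Lib.LocalEven.OnePointFront.Nonfull.Linear.Algebra
import Mathlib.GroupTheory.Subgroup.Centralizer

/-!
# Exponent at least eight: no involution outside a level

An involution `g` of a level of exponent at least eight that centralises `R` acts on the elements
of order four by `q ↦ q * F (kap g) (q ^ 2)`.  The pairing `F` is biadditive, `J`-equivariant,
idempotent in the second argument and the identity on the diagonal; by LEMMA PHI it is symmetric,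
so it would make `R` a Boolean ring without identity element and with one orbit: impossible.
-/

set_option autoImplicit false
set_option linter.style.haveILetI false
set_option linter.unusedSectionVars false

namespace CfsgLib.LocalEven.OnePointFront.Nonfull

open MulAction CfsgLib.LocalEven.TIEndgame CfsgLib.Involution

namespace LinearAlgebra.Scalars

/-- An equivariant biadditive pairing with idempotent left multiplications that fix their element
does not exist with two non-trivial elements. -/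
theorem false_of_idempotent {R : Type*} [CommGroup R] [Finite R] {J : Subgroup (MulAut R)}
    (hJ : Scalars J) (F : R → R → R) (hl : ∀ u v w, F (u * v) w = F u w * F v w)
    (hr : ∀ u v w, F u (v * w) = F u v * F u w) (hdiag : ∀ u, F u u = u)
    (hid : ∀ u v, F u (F u v) = F u v) (heq : ∀ j ∈ J, ∀ u v, F (j u) (j v) = j (F u v))
    {a b : R} (ha : a ≠ 1) (hb : b ≠ 1) (hab : a ≠ b) : False := by
  have hsymm : ∀ u v, F u v = F v u := fun u v => by
    have h := hJ.phi (fun u v => F u v * F v u) (fun u v w => by rw [hl, hr]; ac_rfl)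
      (fun u v w => by rw [hl, hr]; ac_rfl) (fun u => hJ.sq _)
      (fun j hj u v => by rw [heq j hj, heq j hj, map_mul]) u v
    rw [eq_inv_of_mul_eq_one_left h, hJ.inv_eq]
  -- the left multiplications commute
  have hswap : ∀ u v w, F u (F v w) = F v (F u w) := fun u v w => by
    have h := hid (u * v) w
    rw [hl u v w, hl u v (F u w * F v w), hr, hr, hid, hid] at h
    have h1 : F u w * F v w * (F u (F v w) * F v (F u w)) = F u w * F v w :=
      Eq.trans (by ac_rfl) h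
    rw [eq_inv_of_mul_eq_one_left (mul_eq_left.1 h1), hJ.inv_eq]
  have hsub : ∀ u v r, F (F u v) r = r → F u r = r := fun u v r h => by
    rw [hsymm, hswap, hsymm r v] at h
    rw [← h, hid]
  -- a product different from `1` has the fixed elements of both factors
  have heqfix : ∀ u v, u ≠ 1 → F u v ≠ 1 → ∀ r, F u r = r → F (F u v) r = r := by
    intro u v hu hw r hr
    obtain ⟨j, hj, hju⟩ := hJ.trans u (F u v) hu hw
    have hmap : Set.MapsTo j {r | F u r = r} {r | F u r = r} := fun s hs => by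
      refine hsub u v (j s) ?_
      show F (F u v) (j s) = j s
      rw [← hju, heq j hj, show F u s = s from hs]
    obtain ⟨s, hs, rfl⟩ := Set.SurjOn.mono (Set.Subset.refl _) (Set.Subset.refl _)
      ((Set.toFinite {r | F u r = r}).surjOn_iff_bijOn_of_mapsTo hmap |>.2
        ((Set.toFinite {r | F u r = r}).injOn_iff_bijOn_of_mapsTo hmap |>.1 j.injective.injOn)) hr
    rw [← hju, heq j hj, show F u s = s from hs]
  -- products of different elements vanish
  have hzero : ∀ u v, u ≠ 1 → v ≠ 1 → u ≠ v → F u v = 1 := by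
    intro u v hu hv huv
    by_contra hw
    have h1 := hsub u v v (hsymm u v ▸ heqfix v u hv (hsymm u v ▸ hw) v (hdiag v))
    have h2 := hsub v u u (hsymm v u ▸ heqfix u v hu hw u (hdiag u))
    exact huv (h2 ▸ hsymm v u ▸ h1)
  have hne : a ≠ a * b := fun h => hb (left_eq_mul.1 h)
  have hne1 : a * b ≠ 1 := fun h => hab (by rw [eq_inv_of_mul_eq_one_left h, hJ.inv_eq])
  have h := hzero a (a * b) ha hne1 hne
  rw [hr, hdiag, hzero a b ha hb hab, mul_one] at h
  exact ha h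

end LinearAlgebra.Scalars

universe u v

variable {G : Type u} {Ω : Type v} [Group G] [MulAction G Ω] [Finite G] {D : Set G} {a : Ω} {x : G}
  {K R J A : Subgroup G} {i : ℕ}

namespace Level

variable (L : Level D a x K R J A i)
include L

/-- An element of the point group moving `x` inside `x A`, fixing the trivial class and
centralising `R` centralises the elements of order four of `A`. -/
theorem commute_four (h : ClosedSetting D Ω) {g q : G} (hg : g ∈ L.moves ⊓ K)
    (hgR : ∀ r ∈ R, Commute g r) (hk : kap x i g = 1) (hq : q ∈ A) (hqq : q * q ∈ R) :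
    g * q * g⁻¹ = q := by
  obtain ⟨w, hw, hc⟩ := L.exists_comm hg.1 hk
  set z := w * g with hz
  have hzK : z ∈ K := mul_mem (L.le hw) hg.2
  have hzA : z ∈ Subgroup.normalizer (A : Set G) := mul_mem (Subgroup.le_normalizer hw) hg.1.2.1
  have hzR : ∀ r ∈ R, Commute z r := fun r hr =>
    (L.comm w hw r (L.R_le hr)).mul_left (hgR r hr)
  have hzq : z * q * z⁻¹ ∈ A := (Subgroup.mem_normalizer_iff.1 hzA q).1 hq
  set t := q⁻¹ * (z * q * z⁻¹) with ht
  have htR : t ∈ R := L.invol _ (mul_mem (inv_mem hq) hzq) (by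
    rw [ht, (L.comm _ hzq _ (inv_mem hq)).mul_mul_mul_comm, ← mul_inv_rev,
      show z * q * z⁻¹ * (z * q * z⁻¹) = z * (q * q) * z⁻¹ by group, (hzR _ hqq).eq,
      mul_inv_cancel_right, inv_mul_cancel])
  have hpow : ∀ n : ℕ, z ^ n * q * (z ^ n)⁻¹ = q * t ^ n := by
    intro n
    induction n with
    | zero => simp
    | succ n ih =>
      calc z ^ (n + 1) * q * (z ^ (n + 1))⁻¹ = z * (z ^ n * q * (z ^ n)⁻¹) * z⁻¹ := by
            rw [pow_succ']; group
        _ = (z * q * z⁻¹) * (z * t ^ n * z⁻¹) := by rw [ih]; group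
        _ = q * t ^ (n + 1) := by
            rw [((hzR t htR).pow_right n).eq, mul_inv_cancel_right,
              show z * q * z⁻¹ = q * t by rw [ht, mul_inv_cancel_left], mul_assoc, pow_succ']
  obtain ⟨e, m, hm, hord⟩ := Nat.exists_eq_two_pow_mul_odd (orderOf_pos z).ne'
  set y := z ^ m with hy
  have hy2 : IsPGroup 2 (Subgroup.zpowers y) := fun p => by
    refine ⟨e, Subtype.ext ?_⟩
    obtain ⟨n, hn⟩ := Subgroup.mem_zpowers_iff.1 p.2
    rw [Subgroup.coe_pow, Subgroup.coe_one, ← hn, ← zpow_natCast, ← zpow_mul, mul_comm, zpow_mul,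
      zpow_natCast, hy, ← pow_mul, mul_comm, ← hord, pow_orderOf_eq_one, one_zpow]
  have hyR : ∀ r ∈ R, Commute y r := fun r hr => (hzR r hr).pow_left m
  have hyn : Subgroup.zpowers y ≤ Subgroup.normalizer (R : Set G) :=
    Subgroup.zpowers_le.2 (Subgroup.mem_normalizer_iff.2 fun r => ⟨fun hr => by
      rwa [(hyR r hr).eq, mul_inv_cancel_right], fun hr => by
      rwa [show r = y⁻¹ * (y * r * y⁻¹) * y by group, (hyR _ hr).inv_left.eq,
        inv_mul_cancel_right]⟩)
  have hymem : y ∈ R := by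
    refine L.line.mem_of_commute h (L.line.R_pgroup.to_sup_of_normal_left' hy2 hyn)
      (sup_le (L.R_le.trans L.le) (Subgroup.zpowers_le.2 (pow_mem hzK m))) le_sup_left
      (Subgroup.mem_sup_right (Subgroup.mem_zpowers y)) (hc.pow_right m)
  have htm : t ^ m = t := by
    obtain ⟨l, rfl⟩ := hm
    rw [pow_succ, pow_mul, pow_two, L.line.sq t htR, one_pow, one_mul]
  have h1 := hpow m
  rw [← hy, (L.comm y (L.R_le hymem) q hq).eq, mul_inv_cancel_right, htm, left_eq_mul,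
    ht, inv_mul_eq_one] at h1
  calc g * q * g⁻¹ = w⁻¹ * (z * q * z⁻¹) * w := by rw [hz]; group
    _ = w⁻¹ * q * w := by rw [← h1]
    _ = q := by rw [mul_assoc, (L.comm q hq w hw).eq, inv_mul_cancel_left]

/-- At exponent at least eight no involution of the point group centralising `R` moves the trivial
class. -/
theorem kap_eq_one_of_invol (h : ClosedSetting D Ω) (hi : 2 ≤ i) {d : G} (hd : d ∈ L.moves ⊓ K)
    (hdd : d * d = 1) (hdR : ∀ r ∈ R, Commute d r) : kap x i d = 1 := by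
  by_contra hs
  obtain ⟨k, rfl⟩ : ∃ k, i = k + 2 := ⟨i - 2, by omega⟩
  have hR2 : ∀ r ∈ R, r⁻¹ = r := fun r hr => inv_eq_of_mul_eq_one_right (L.line.sq r hr)
  have hdbl : ∀ (u : G) (n : ℕ), u ^ 2 ^ n * u ^ 2 ^ n = u ^ 2 ^ (n + 1) := fun u n => by
    rw [← pow_add, ← two_mul, ← pow_succ']
  let H0 : Subgroup G := (L.moves ⊓ K) ⊓ Subgroup.centralizer (R : Set G)
  have hH0 : ∀ g ∈ H0, g ∈ L.moves ⊓ K ∧ ∀ r ∈ R, Commute g r := fun g hg =>
    ⟨hg.1, fun r hr => (Subgroup.mem_centralizer_iff.1 hg.2 r hr).symm⟩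
  have hdH : d ∈ H0 := ⟨hd, Subgroup.mem_centralizer_iff.2 fun r hr => (hdR r hr).symm.eq⟩
  -- the torus, and its conjugates of `d`
  have htor : ∀ j ∈ J, ∃ g₀ : G, Commute x g₀ ∧ g₀ ∈ Subgroup.normalizer (A : Set G) ∧
      (∀ r ∈ R, g₀ * r * g₀⁻¹ = j * r * j⁻¹) ∧ ∀ g ∈ H0, g₀ * g * g₀⁻¹ ∈ H0 := by
    intro j hj
    obtain ⟨g₀, hga, hgx, hgn, hgK, hgj⟩ := L.torus j hj
    have hm := (L.commute_mem hga hgn hgx).1
    refine ⟨g₀, hgx, hgn, hgj, fun g hg => Subgroup.mem_inf.2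
      ⟨Subgroup.mem_inf.2 ⟨mul_mem (mul_mem hm (hH0 g hg).1.1) (inv_mem hm),
      (Subgroup.mem_normalizer_iff.1 hgK g).1 (hH0 g hg).1.2⟩,
      Subgroup.mem_centralizer_iff.2 fun r hr => ?_⟩⟩
    have h1 : g₀⁻¹ * r * g₀ ∈ R := by
      have := L.normal_R (inv_mem hgn) hr
      rwa [inv_inv] at this
    calc r * (g₀ * g * g₀⁻¹) = g₀ * ((g₀⁻¹ * r * g₀) * g) * g₀⁻¹ := by group
      _ = g₀ * (g * (g₀⁻¹ * r * g₀)) * g₀⁻¹ := by rw [← ((hH0 g hg).2 _ h1).eq]
      _ = g₀ * g * g₀⁻¹ * r := by group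
  have honto : ∀ t ∈ R, ∃ g ∈ H0, g * g = 1 ∧ kap x (k + 2) g = t := by
    intro t ht
    by_cases ht1 : t = 1
    · exact ⟨1, one_mem _, one_mul 1, by rw [ht1, L.kap_one]⟩
    obtain ⟨j, hj, hjr⟩ := L.line.trans_J _ (L.kap_mem hd.1) t ht hs ht1
    obtain ⟨g₀, hgx, -, hgj, hgH⟩ := htor j hj
    exact ⟨g₀ * d * g₀⁻¹, hgH d hdH,
      by rw [show g₀ * d * g₀⁻¹ * (g₀ * d * g₀⁻¹) = g₀ * (d * d) * g₀⁻¹ by group, hdd]; group,
      by rw [L.kap_conj hgx, hgj _ (L.kap_mem hd.1), hjr]⟩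
  -- roots
  have hroot : ∀ r ∈ R, ∃ o ∈ A, (o * o) * (o * o) = r := by
    intro r hr
    obtain ⟨u, hu, hur⟩ := L.root r hr
    exact ⟨u ^ 2 ^ k, pow_mem hu _, by rw [hdbl, hdbl, hur]⟩
  -- the pairing
  have hF : ∀ t r : R, ∃ f : R, ∀ g ∈ H0, kap x (k + 2) g = t → ∀ q ∈ A, q * q = r →
      g * q * g⁻¹ = q * f := by
    rintro ⟨t, ht⟩ ⟨r, hr⟩
    obtain ⟨g₁, hg₁, -, hk₁⟩ := honto t ht
    obtain ⟨o, ho, hor⟩ := hroot r hr
    have hq₁ : o * o ∈ A := mul_mem ho ho
    have hc₁ : g₁ * (o * o) * g₁⁻¹ ∈ A := (Subgroup.mem_normalizer_iff.1 hg₁.1.1.2.1 _).1 hq₁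
    refine ⟨⟨(o * o)⁻¹ * (g₁ * (o * o) * g₁⁻¹), L.invol _ (mul_mem (inv_mem hq₁) hc₁) ?_⟩,
      fun g hg hgk q hq hqr => ?_⟩
    · rw [(L.comm _ hc₁ _ (inv_mem hq₁)).mul_mul_mul_comm, ← mul_inv_rev, hor,
        show ∀ q : G, g₁ * q * g₁⁻¹ * (g₁ * q * g₁⁻¹) = g₁ * (q * q) * g₁⁻¹ from fun q => by group,
        hor, ((hH0 g₁ hg₁).2 r hr).eq, mul_inv_cancel_right, inv_mul_cancel]
    have hv : (o * o)⁻¹ * q ∈ R := L.invol _ (mul_mem (inv_mem hq₁) hq) (by
      rw [(L.comm _ hq _ (inv_mem hq₁)).mul_mul_mul_comm, ← mul_inv_rev, hqr, hor]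
      exact inv_mul_cancel r)
    have hk : kap x (k + 2) (g₁⁻¹ * g) = 1 :=
      (L.kap_eq_iff h hg₁.1.1 hg.1.1).1 (hk₁.trans hgk.symm)
    have h4 := L.commute_four h (hH0 _ (mul_mem (inv_mem hg₁) hg)).1
      (hH0 _ (mul_mem (inv_mem hg₁) hg)).2 hk hq₁ (hor.symm ▸ hr)
    calc g * q * g⁻¹ = (g₁ * ((g₁⁻¹ * g) * (o * o) * (g₁⁻¹ * g)⁻¹) * g₁⁻¹)
          * (g * ((o * o)⁻¹ * q) * g⁻¹) := by group
      _ = g₁ * (o * o) * g₁⁻¹ * ((o * o)⁻¹ * q) := by
          rw [h4, ((hH0 g hg).2 _ hv).eq, mul_inv_cancel_right]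
      _ = q * ((o * o)⁻¹ * (g₁ * (o * o) * g₁⁻¹)) := by
          rw [(L.comm _ hc₁ _ (mul_mem (inv_mem hq₁) hq)).eq, (L.comm _ (inv_mem hq₁) q hq).eq,
            mul_assoc]
  choose F hF using hF
  letI : CommGroup R :=
    { (inferInstance : Group R) with
      mul_comm := fun r s => Subtype.ext (L.comm r (L.R_le r.2) s (L.R_le s.2)).eq }
  have hl : ∀ t t' r : R, F (t * t') r = F t r * F t' r := by
    intro t t' r
    obtain ⟨g, hg, -, hgk⟩ := honto t t.2
    obtain ⟨g', hg', -, hgk'⟩ := honto t' t'.2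
    obtain ⟨o, ho, hor⟩ := hroot r r.2
    have hgg : kap x (k + 2) (g * g') = ((t * t' : R) : G) := by
      rw [L.kap_mul hg.1.1 hg'.1.1, hgk', ((hH0 g hg).2 _ t'.2).eq, mul_inv_cancel_right, hgk]
      rfl
    have h1 := hF (t * t') r _ (mul_mem hg hg') hgg _ (mul_mem ho ho) hor
    refine Subtype.ext (mul_left_cancel (h1.symm.trans ?_))
    calc g * g' * (o * o) * (g * g')⁻¹ = g * (g' * (o * o) * g'⁻¹) * g⁻¹ := by group
      _ = (g * (o * o) * g⁻¹) * (g * F t' r * g⁻¹) := by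
          rw [hF t' r g' hg' hgk' _ (mul_mem ho ho) hor]; group
      _ = _ := by
          rw [hF t r g hg hgk _ (mul_mem ho ho) hor, ((hH0 g hg).2 _ (F t' r).2).eq,
            mul_inv_cancel_right, mul_assoc]
          rfl
  have hr : ∀ t r r' : R, F t (r * r') = F t r * F t r' := by
    intro t r r'
    obtain ⟨g, hg, -, hgk⟩ := honto t t.2
    obtain ⟨o, ho, hor⟩ := hroot r r.2
    obtain ⟨o', ho', hor'⟩ := hroot r' r'.2
    have hq := mul_mem ho ho
    have hq' := mul_mem ho' ho'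
    have h1 := hF t (r * r') g hg hgk _ (mul_mem hq hq') (by
      rw [(L.comm _ hq' _ hq).mul_mul_mul_comm, hor, hor']; rfl)
    refine Subtype.ext (mul_left_cancel (h1.symm.trans ?_))
    calc g * (o * o * (o' * o')) * g⁻¹ = (g * (o * o) * g⁻¹) * (g * (o' * o') * g⁻¹) := by group
      _ = _ := by
        rw [hF t r g hg hgk _ hq hor, hF t r' g hg hgk _ hq' hor',
          (L.comm _ (L.R_le (F t r).2) _ hq').mul_mul_mul_comm]
        rfl
  -- an involution inverts its classes of order four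
  have hinvert : ∀ t : R, ∀ g ∈ H0, g * g = 1 → kap x (k + 2) g = t → ∀ e ∈ A,
      g * e * g⁻¹ = e⁻¹ → ∀ r : R, e * e = r → F t r = r := by
    intro t g hg _ hgk e he hge r her
    have h1 := hF t r g hg hgk e he her
    rw [hge, ← inv_mul_eq_iff_eq_mul, ← mul_inv_rev, her, hR2 r r.2] at h1
    exact Subtype.ext h1.symm
  have hdiag : ∀ t : R, F t t = t := by
    intro t
    obtain ⟨g, hg, hgg, hgk⟩ := honto t t.2
    refine hinvert t g hg hgg hgk (disp x g ^ 2 ^ (k + 1)) (pow_mem hg.1.1.2.2 _) ?_ t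
      (by rw [hdbl]; exact hgk)
    rw [← conj_pow, ← inv_pow]
    congr 1
    have hg' : g⁻¹ = g := inv_eq_of_mul_eq_one_right hgg
    simp only [disp, mul_inv_rev, L.line.x_inv, hg']
    calc g * (x * g * x * g) * g = g * x * g * x * (g * g) := by group
      _ = _ := by rw [hgg, mul_one]; group
  have hid : ∀ t r : R, F t (F t r) = F t r := by
    intro t r
    obtain ⟨g, hg, hgg, hgk⟩ := honto t t.2
    obtain ⟨o, ho, hor⟩ := hroot r r.2
    have hgo : g * o * g⁻¹ ∈ A := (Subgroup.mem_normalizer_iff.1 hg.1.1.2.1 o).1 ho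
    refine hinvert t g hg hgg hgk (o⁻¹ * (g * o * g⁻¹)) (mul_mem (inv_mem ho) hgo) ?_ _ ?_
    · have hg' : g⁻¹ = g := inv_eq_of_mul_eq_one_right hgg
      simp only [mul_inv_rev, inv_inv, hg']
      calc g * (o⁻¹ * (g * o * g)) * g = g * o⁻¹ * g * o * (g * g) := by group
        _ = _ := by rw [hgg, mul_one]; group
    · rw [(L.comm _ hgo _ (inv_mem ho)).mul_mul_mul_comm, ← mul_inv_rev,
        show g * o * g⁻¹ * (g * o * g⁻¹) = g * (o * o) * g⁻¹ by group,
        hF t r g hg hgk _ (mul_mem ho ho) hor, inv_mul_cancel_left]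
  -- the scalars
  let J' : Subgroup (MulAut R) :=
    ((Subgroup.normalizerMonoidHom R).comp (Subgroup.inclusion L.line.norm_J)).range
  have hmem : ∀ f ∈ J', ∃ j ∈ J, ∀ r : R, (f r : G) = j * r * j⁻¹ := by
    rintro _ ⟨j, rfl⟩
    exact ⟨j, j.2, fun r => rfl⟩
  have hJ : LinearAlgebra.Scalars J' := by
    refine ⟨fun r => Subtype.ext (L.line.sq r r.2), fun f hf f' hf' => ?_, fun r s hr1 hs1 => ?_⟩
    · obtain ⟨j, hj, hfj⟩ := hmem f hf
      obtain ⟨j', hj', hfj'⟩ := hmem f' hf'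
      refine MulEquiv.ext fun r => Subtype.ext ?_
      rw [MulAut.mul_apply, MulAut.mul_apply, hfj, hfj', hfj', hfj]
      exact L.line.abel_J j hj j' hj' r r.2
    · obtain ⟨j, hj, hjs⟩ := L.line.trans_J r r.2 s s.2
        (fun e => hr1 (Subtype.ext e)) (fun e => hs1 (Subtype.ext e))
      exact ⟨_, ⟨⟨j, hj⟩, rfl⟩, Subtype.ext hjs⟩
  have heq : ∀ f ∈ J', ∀ t r : R, F (f t) (f r) = f (F t r) := by
    intro f hf t r
    obtain ⟨j, hj, hfj⟩ := hmem f hf
    obtain ⟨g₀, hgx, hgn, hgj, hgH⟩ := htor j hj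
    obtain ⟨g, hg, -, hgk⟩ := honto t t.2
    obtain ⟨o, ho, hor⟩ := hroot r r.2
    have hc : ∀ s : R, (f s : G) = g₀ * s * g₀⁻¹ := fun s => by rw [hfj, hgj s s.2]
    have h1 := hF (f t) (f r) _ (hgH g hg) (by rw [L.kap_conj hgx, hgk, hc])
      (g₀ * (o * o) * g₀⁻¹) ((Subgroup.mem_normalizer_iff.1 hgn _).1 (mul_mem ho ho))
      (by rw [hc, ← hor]; group)
    refine Subtype.ext (mul_left_cancel (h1.symm.trans ?_))
    rw [hc, show g₀ * g * g₀⁻¹ * (g₀ * (o * o) * g₀⁻¹) * (g₀ * g * g₀⁻¹)⁻¹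
        = g₀ * (g * (o * o) * g⁻¹) * g₀⁻¹ by group, hF t r g hg hgk _ (mul_mem ho ho) hor]
    group
  -- two non-trivial elements
  let s : R := ⟨kap x (k + 2) d, L.kap_mem hd.1⟩
  have hs1 : s ≠ 1 := fun e => hs (congrArg Subtype.val e)
  obtain ⟨b, hb1, hbs⟩ : ∃ b : R, b ≠ 1 ∧ b ≠ s := by
    by_contra hcon
    push Not at hcon
    haveI := Fintype.ofFinite R
    classical
    have hle : Nat.card R ≤ 2 := by
      rw [Nat.card_eq_fintype_card, ← Finset.card_univ]
      refine (Finset.card_le_card (t := ({1, s} : Finset R)) fun b _ => ?_).trans Finset.card_le_two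
      by_cases hb : b = 1
      · simp [hb]
      · simp [hcon b hb]
    exact absurd (L.line.four.trans hle) (by norm_num)
  exact hJ.false_of_idempotent F hl hr hdiag hid heq hs1 hb1 hbs.symm

end Level

end CfsgLib.LocalEven.OnePointFront.Nonfull
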