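import Cfsg.Agent.Lib.LocalEven.OnePointFront.Nonfull.Linear.TowerNext

/-!
# One class of conjugates of a bad involution with a linear line

Climb the tower from `R` until no inverted element centralising `R` moves the class of `x`; there
a suitable maximal 2-subgroup has one class of conjugates of `x` in `x (S ⊓ K)`.
-/

set_option autoImplicit false
set_option linter.style.haveILetI false
set_option linter.unusedSectionVars false

namespace CfsgLib.LocalEven.OnePointFront.Nonfull

open MulAction CfsgLib.LocalEven.TIEndgame CfsgLib.Involution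

universe u v

variable {G : Type u} {Ω : Type v} [Group G] [MulAction G Ω] [Finite G] {D : Set G} {a : Ω} {x : G}
  {K R J A : Subgroup G} {i : ℕ}

/-- At every level an element centralising `R` moves the class of `x`. -/
def Translates (D : Set G) (a : Ω) (x : G) (K R J : Subgroup G) : Prop :=
  ∀ (A : Subgroup G) (i : ℕ) (L : Level D a x K R J A i),
    ∃ g ∈ L.moves ⊓ K, g ∈ Subgroup.centralizer (R : Set G) ∧ Level.kap x i g ≠ 1

namespace Level

variable (L : Level D a x K R J A i)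
include L

/-- The centraliser of `x` normalising `A` normalises the moving elements of `K` centralising
`R`. -/
theorem le_normalizer_centr {V : Subgroup G} (hVK : V ≤ Subgroup.normalizer (K : Set G))
    (hVC : V ≤ stabilizer G a ⊓ Subgroup.centralizer ({x} : Set G))
    (hVA : V ≤ Subgroup.normalizer (A : Set G)) :
    V ≤ Subgroup.normalizer ((L.moves ⊓ K : Subgroup G) : Set G) ∧
      V ≤ Subgroup.normalizer
        ((L.moves ⊓ K ⊓ Subgroup.centralizer (R : Set G) : Subgroup G) : Set G) := by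
  have key : ∀ v ∈ V, ∀ y ∈ L.moves ⊓ K, v * y * v⁻¹ ∈ L.moves ⊓ K ∧
      (y ∈ Subgroup.centralizer (R : Set G) → v * y * v⁻¹ ∈ Subgroup.centralizer (R : Set G)) := by
    intro v hv y hy
    have hva := mem_stabilizer_iff.1 (hVC hv).1
    have hvx : Commute x v := (Subgroup.mem_centralizer_singleton_iff.1 (hVC hv).2).symm
    have hvm := (L.commute_mem hva (hVA hv) hvx).1
    refine ⟨Subgroup.mem_inf.2 ⟨mul_mem (mul_mem hvm hy.1) (inv_mem hvm),
      (Subgroup.mem_normalizer_iff.1 (hVK hv) y).1 hy.2⟩, fun hyc => Subgroup.mem_centralizer_iff.2 fun r hr => ?_⟩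
    have h1 := L.normal_R (inv_mem (hVA hv)) hr
    rw [inv_inv] at h1
    calc r * (v * y * v⁻¹) = v * ((v⁻¹ * r * v) * y) * v⁻¹ := by group
      _ = v * (y * (v⁻¹ * r * v)) * v⁻¹ := by rw [Subgroup.mem_centralizer_iff.1 hyc _ h1]
      _ = _ := by group
  constructor
  · refine fun v hv => Subgroup.mem_normalizer_iff.2 fun y => ⟨fun hy => (key v hv y hy).1, fun hy => ?_⟩
    have := (key v⁻¹ (inv_mem hv) _ hy).1
    rwa [inv_inv, show v⁻¹ * (v * y * v⁻¹) * v = y by group] at this
  · refine fun v hv => Subgroup.mem_normalizer_iff.2 fun y =>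
      ⟨fun hy => Subgroup.mem_inf.2 ⟨(key v hv y hy.1).1, (key v hv y hy.1).2 hy.2⟩, fun hy => ?_⟩
    have := key v⁻¹ (inv_mem hv) _ (Subgroup.mem_inf.1 hy).1
    rw [inv_inv, show v⁻¹ * (v * y * v⁻¹) * v = y by group] at this
    exact Subgroup.mem_inf.2 ⟨this.1, this.2 (Subgroup.mem_inf.1 hy).2⟩

/-- An element centralising `R` moving the class gives transitivity inside the centraliser of
`R`. -/
theorem onto_centr {g : G} (hg : g ∈ L.moves ⊓ K) (hgc : g ∈ Subgroup.centralizer (R : Set G))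
    (hgk : kap x i g ≠ 1) {r : G} (hr : r ∈ R) :
    ∃ y ∈ L.moves ⊓ K ⊓ Subgroup.centralizer (R : Set G), kap x i y = r := by
  by_cases hr1 : r = 1
  · exact ⟨1, one_mem _, by rw [L.kap_one, hr1]⟩
  obtain ⟨j, hj, e⟩ := L.line.trans_J _ (L.kap_mem hg.1) r hr hgk hr1
  obtain ⟨k, hka, hkx, hkn, hkK, hkj⟩ := L.torus j hj
  have hm := (L.commute_mem hka hkn hkx).1
  refine ⟨k * g * k⁻¹, Subgroup.mem_inf.2 ⟨Subgroup.mem_inf.2
    ⟨mul_mem (mul_mem hm hg.1) (inv_mem hm), (Subgroup.mem_normalizer_iff.1 hkK g).1 hg.2⟩,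
    Subgroup.mem_centralizer_iff.2 fun s hs => ?_⟩,
    by rw [L.kap_conj hkx, hkj _ (L.kap_mem hg.1), e]⟩
  have h1 := L.normal_R (inv_mem hkn) hs
  rw [inv_inv] at h1
  calc s * (k * g * k⁻¹) = k * ((k⁻¹ * s * k) * g) * k⁻¹ := by group
    _ = k * (g * (k⁻¹ * s * k)) * k⁻¹ := by rw [Subgroup.mem_centralizer_iff.1 hgc _ h1]
    _ = _ := by group

end Level

/-- A maximal 2-subgroup with one class of conjugates of `x`, over a given 2-group `V` of the
centraliser of `x`; with translations at every level its part in `K` centralises `R`. -/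
theorem LinearLine.exists_oneClass (L : LinearLine D a x K R J) (h : ClosedSetting D Ω)
    (hnf : NoFull D Ω) {V : Subgroup G} (hV : IsPGroup 2 V)
    (hVC : V ≤ stabilizer G a ⊓ Subgroup.centralizer ({x} : Set G)) (hxV : x ∈ V) (hRV : R ≤ V) :
    ∃ S : Subgroup G, IsTopTwo S a ∧ x ∈ S ∧ R ≤ S ∧ V ≤ S ∧ OneClass K S x ∧
      (Translates D a x K R J → S ⊓ K ≤ Subgroup.centralizer (R : Set G)) := by
  have hVR : V ≤ Subgroup.normalizer (R : Set G) := by
    have key : ∀ v ∈ V, ∀ r ∈ R, v * r * v⁻¹ ∈ R := by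
      intro v hv r hr
      refine L.mem_of_commute h (hV.to_le (inf_le_left : V ⊓ K ≤ V)) inf_le_right
        (le_inf hRV L.R_le) (Subgroup.mem_inf.2 ⟨mul_mem (mul_mem hv (hRV hr)) (inv_mem hv),
          L.point.conj v (hVC hv).1 r (L.R_le hr)⟩) ?_
      have hvx : Commute x v := (Subgroup.mem_centralizer_singleton_iff.1 (hVC hv).2).symm
      exact (hvx.mul_right (L.comm r hr)).mul_right hvx.inv_right
    refine fun v hv => Subgroup.mem_normalizer_iff.2 fun r => ⟨key v hv r, fun hr => ?_⟩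
    have := key v⁻¹ (inv_mem hv) _ hr
    rwa [inv_inv, show v⁻¹ * (v * r * v⁻¹) * v = r by group] at this
  suffices H : ∀ (n : ℕ) (A : Subgroup G) (i : ℕ), Nat.card G - Nat.card A ≤ n →
      ∀ L' : Level D a x K R J A i, V ≤ Subgroup.normalizer (A : Set G) →
      ∃ S : Subgroup G, IsTopTwo S a ∧ x ∈ S ∧ R ≤ S ∧ V ≤ S ∧ OneClass K S x ∧
        (Translates D a x K R J → S ⊓ K ≤ Subgroup.centralizer (R : Set G)) from
    H _ R 0 le_rfl L.level_zero hVR
  intro n
  induction n using Nat.strong_induction_on with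
  | _ n ih =>
    intro A i hn L' hVA
    obtain ⟨hVN, hVH⟩ := L'.le_normalizer_centr (fun v hv => L.point.mem_normalizer (mem_stabilizer_iff.1 (hVC hv).1)) hVC hVA
    by_cases hno : ∀ t ∈ L'.moves ⊓ K, x * t * x = t⁻¹ → (∀ r ∈ R, Commute t r) → Level.kap x i t = 1
    · by_cases htr : ∃ g ∈ L'.moves ⊓ K, g ∈ Subgroup.centralizer (R : Set G) ∧ Level.kap x i g ≠ 1
      · obtain ⟨g, hg, hgc, hgk⟩ := htr
        obtain ⟨S, h1, h2, h3, h4, h5, h6⟩ := L'.oneClass_of_not h hnf L.point hno
          (H := L'.moves ⊓ K ⊓ Subgroup.centralizer (R : Set G))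
          (fun u hu => Subgroup.mem_inf.2 ⟨Subgroup.mem_inf.2 ⟨(L'.A_mem hu).1, L'.le hu⟩,
            Subgroup.mem_centralizer_iff.2 fun r hr => (L'.comm r (L'.R_le hr) u hu).eq⟩)
          inf_le_left (fun r hr => L'.onto_centr hg hgc hgk hr) hV
          (hVC.trans inf_le_left) hxV hVA hVH
        exact ⟨S, h1, h2, h3, h4, h5, fun _ => h6.trans inf_le_right⟩
      · obtain ⟨S, h1, h2, h3, h4, h5, -⟩ := L'.oneClass_of_not h hnf L.point hno
          (H := L'.moves ⊓ K) (fun u hu => Subgroup.mem_inf.2 ⟨(L'.A_mem hu).1, L'.le hu⟩) le_rfl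
          (fun r hr => L'.kap_surj h hnf L.point.dat_le hr) hV (hVC.trans inf_le_left) hxV hVA hVN
        exact ⟨S, h1, h2, h3, h4, h5, fun ht => absurd (ht A i L') htr⟩
    · push Not at hno
      obtain ⟨t, ht, hti, htc, htk⟩ := hno
      obtain ⟨B, LB, hlt, hVB, -⟩ := L'.exists_next h hnf ht hti htc htk hV hVA hVH
      have hB : Nat.card B ≤ Nat.card G := Subgroup.card_le_card_group B
      exact ih (Nat.card G - Nat.card B) (by omega) B (i + 1) le_rfl LB hVB

/-- One class of conjugates for a suitable maximal 2-subgroup. -/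
theorem oneClassHyp (h : ClosedSetting D Ω) (hnf : NoFull D Ω) : OneClassHyp D Ω := by
  intro a x K R J L
  haveI : Fact (Nat.Prime 2) := ⟨Nat.prime_two⟩
  obtain ⟨S, h1, h2, h3, -, h5, -⟩ := L.exists_oneClass h hnf
    (V := R ⊔ Subgroup.zpowers x)
    (L.R_pgroup.to_sup_of_normal_left' L.level_zero.x_pgroup L.level_zero.zpowers_normalizer)
    (sup_le (fun r hr => Subgroup.mem_inf.2 ⟨L.point.le (L.R_le hr),
        Subgroup.mem_centralizer_singleton_iff.2 (L.comm r hr).symm.eq⟩)
      (Subgroup.zpowers_le.2 (Subgroup.mem_inf.2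
        ⟨L.x_stab, Subgroup.mem_centralizer_singleton_iff.2 rfl⟩)))
    (Subgroup.mem_sup_right (Subgroup.mem_zpowers x)) le_sup_left
  exact ⟨S, h1, h2, h3, h5⟩

end CfsgLib.LocalEven.OnePointFront.Nonfull
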