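import Cfsg.Agent.Lib.LocalEven.OnePointFront.Nonfull.Linear.CyclicBase
import Cfsg.Agent.Lib.LocalEven.OnePointFront.Nonfull.Linear.Tower
import Cfsg.Agent.Lib.LocalEven.OnePointFront.Nonfull.Linear.Algebra
import Cfsg.Agent.Lib.LocalEven.OnePointFront.Nonfull.AffineTransitive
import Cfsg.Agent.Lib.LocalEven.TIEndgame.CentralFusionImage

/-!
# Linear lines: the torus as a group of automorphisms of `R`

The image of `J` on `R` is cyclic, regular on the non-trivial elements and normalised by the image of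
the elements at `a` centralising `x` and normalising `R`.  If `R` has even rank, some element
centralising `R` moves the class of `x` at every level of the tower.
-/

set_option autoImplicit false
set_option linter.style.haveILetI false
set_option linter.unusedSectionVars false

namespace CfsgLib.LocalEven.OnePointFront.Nonfull

open MulAction CfsgLib.LocalEven.TIEndgame CfsgLib.Involution

universe u

variable {G Ω : Type u} [Group G] [Finite G] [MulAction G Ω] {D : Set G} {a : Ω} {x : G}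
  {K R J A : Subgroup G}

namespace LinearLine

variable (L : LinearLine D a x K R J)
include L

theorem exists_card : ∃ r : ℕ, Nat.card R = 2 ^ r ∧ 2 ≤ r := by
  haveI : Fact (Nat.Prime 2) := ⟨Nat.prime_two⟩
  obtain ⟨r, hr⟩ := L.pgroup.exists_card_eq
  refine ⟨r, hr, ?_⟩
  by_contra hlt
  have := L.four
  interval_cases r <;> simp_all

theorem exists_mem_autImage {d : MulAut R} (hd : d ∈ autImage J R) :
    ∃ j ∈ J, ∀ r : R, ((d r : R) : G) = j * r * j⁻¹ := by
  obtain ⟨j, hj, rfl⟩ := hd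
  exact ⟨j, hj, fun r => Subgroup.normalizerMonoidHom_apply_apply_coe _ _ _⟩

theorem abel_autImage : ∀ i ∈ autImage J R, ∀ j ∈ autImage J R, i * j = j * i := by
  intro i hi j hj
  obtain ⟨i', hi', hie⟩ := L.exists_mem_autImage hi
  obtain ⟨j', hj', hje⟩ := L.exists_mem_autImage hj
  refine MulEquiv.ext fun r => Subtype.ext ?_
  rw [MulAut.mul_apply, MulAut.mul_apply, hie, hje, hje, hie]
  exact L.abel_J i' hi' j' hj' r r.2

theorem trans_autImage : ∀ v w : R, v ≠ 1 → w ≠ 1 → ∃ d ∈ autImage J R, d v = w := by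
  intro v w hv hw
  obtain ⟨j, hj, hjv⟩ := L.trans_J v v.2 w w.2 (fun e => hv (Subtype.ext e))
    (fun e => hw (Subtype.ext e))
  refine ⟨_, Subgroup.mem_map_of_mem _ (show (⟨j, L.norm_J hj⟩ : _) ∈ J.subgroupOf _ from hj),
    Subtype.ext ?_⟩
  rw [Subgroup.normalizerMonoidHom_apply_apply_coe]
  exact hjv

/-- The image of `J` is regular. -/
theorem card_autImage : Nat.card (autImage J R) + 1 = Nat.card R := by
  classical
  obtain ⟨r, hr, s, hs, hr1, -, -⟩ := L.exists_pair
  set e : R := ⟨r, hr⟩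
  have he : e ≠ 1 := fun h => hr1 (congrArg Subtype.val h)
  have hbij : Function.Bijective (fun d : autImage J R =>
      (⟨(d : MulAut R) e, fun h => he ((d : MulAut R).map_eq_one_iff.1 h)⟩ : {w : R // w ≠ 1})) := by
    refine ⟨fun d d' h => Subtype.ext (MulEquiv.ext fun v => ?_), fun w => ?_⟩
    · have h' : (d : MulAut R) e = (d' : MulAut R) e := congrArg Subtype.val h
      by_cases hv : v = 1
      · rw [hv, map_one, map_one]
      obtain ⟨k, hk, rfl⟩ := L.trans_autImage e v he hv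
      rw [← MulAut.mul_apply, ← MulAut.mul_apply, L.abel_autImage _ d.2 k hk,
        L.abel_autImage _ d'.2 k hk, MulAut.mul_apply, MulAut.mul_apply, h']
    · obtain ⟨k, hk, hkw⟩ := L.trans_autImage e w he w.2
      exact ⟨⟨k, hk⟩, Subtype.ext hkw⟩
  haveI := Fintype.ofFinite R
  rw [Nat.card_eq_of_bijective _ hbij, Nat.card_eq_fintype_card (α := {w : R // w ≠ 1}),
    Fintype.card_subtype_compl, Fintype.card_subtype_eq, ← Nat.card_eq_fintype_card]
  have := Nat.card_pos (α := R)
  omega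

theorem odd_autImage : Odd (Nat.card (autImage J R)) := by
  obtain ⟨r, hr, h2⟩ := L.exists_card
  have h1 := L.card_autImage
  have h3 : Even (2 ^ r) := (Nat.even_pow).2 ⟨even_two, by omega⟩
  rw [← hr, ← h1, Nat.even_add_one] at h3
  exact Nat.not_even_iff_odd.1 h3

theorem isCyclic_autImage_J : IsCyclic (autImage J R) := by
  obtain ⟨r, hr, h2⟩ := L.exists_card
  letI : CommGroup R := { (inferInstance : Group R) with
    mul_comm := fun v w => Subtype.ext (L.comm_R v.2 w.2).eq }
  haveI : Finite (MulAut R) := Finite.of_injective _ DFunLike.coe_injective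
  obtain ⟨hcyc, -, -⟩ := OddTransitiveNormaliser.exists_field
    (fun v : R => Subtype.ext (L.sq v v.2)) (by omega : r ≠ 0) hr (autImage J R) L.odd_autImage
    L.trans_autImage
  haveI : Group.IsNilpotent (⊤ : Subgroup (autImage J R)) := by
    letI : CommGroup ↥(autImage J R) := { (inferInstance : Group ↥(autImage J R)) with
      mul_comm := fun i j => Subtype.ext (L.abel_autImage i i.2 j j.2) }
    exact Group.isNilpotent_top.mpr CommGroup.isNilpotent
  have htop : Cfsg.fittingSubgroup ↥(autImage J R) = ⊤ :=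
    top_le_iff.1 (CfsgLib.Solvable.Cores.le_fittingSubgroup inferInstance)
  haveI := hcyc
  exact isCyclic_of_surjective (Cfsg.fittingSubgroup ↥(autImage J R)).subtype
    fun d => ⟨⟨d, htop ▸ Subgroup.mem_top d⟩, rfl⟩

/-- The elements at `a` centralising `x` and normalising `R` normalise the image of `J`. -/
theorem conj_autImage {g : G} (hga : g • a = a) (hgx : Commute x g)
    (hgR : g ∈ Subgroup.normalizer (R : Set G)) {d : MulAut R} (hd : d ∈ autImage J R) :
    R.normalizerMonoidHom ⟨g, hgR⟩ * d * (R.normalizerMonoidHom ⟨g, hgR⟩)⁻¹ ∈ autImage J R := by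
  obtain ⟨j, hj, rfl⟩ := hd
  refine ⟨⟨g, hgR⟩ * j * ⟨g, hgR⟩⁻¹, L.conj_J g hga hgx hgR _ hj, ?_⟩
  rw [map_mul, map_mul, map_inv]

/-- A 2-automorphism of `R` normalising the image of `J` is trivial if the rank is odd. -/
theorem even_rank {r : ℕ} (hr : Nat.card R = 2 ^ r) {g : MulAut R}
    (hnorm : ∀ d ∈ autImage J R, g * d * g⁻¹ ∈ autImage J R) (hg : g * g = 1) (hg1 : g ≠ 1) :
    Even r := by
  obtain ⟨s, hs, h2⟩ := L.exists_card
  obtain rfl : r = s := Nat.pow_right_injective le_rfl (hr.symm.trans hs)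
  by_contra hodd
  have hodd' := Nat.not_even_iff_odd.1 hodd
  refine hg1 (OddTransitiveNormaliser.eq_one (fun v : R => Subtype.ext (L.sq v v.2)) hodd' ?_ hr
    (autImage J R) L.odd_autImage L.trans_autImage hnorm (k := 1) (by rw [pow_one, pow_two, hg]))
  obtain ⟨k, rfl⟩ := hodd'
  omega

/-- With `R` of even rank translations exist at every level. -/
theorem translates_of_even [Finite Ω] (h : ClosedSetting D Ω) (hnf : NoFull D Ω) {r : ℕ}
    (hr : Nat.card R = 2 ^ r) (heven : Even r) : Translates D a x K R J := by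
  intro A i L'
  haveI : Fact (Nat.Prime 2) := ⟨Nat.prime_two⟩
  obtain ⟨s, hs, h2⟩ := L.exists_card
  obtain rfl : r = s := Nat.pow_right_injective le_rfl (hr.symm.trans hs)
  letI : CommGroup R := { (inferInstance : Group R) with
    mul_comm := fun v w => Subtype.ext (L.comm_R v.2 w.2).eq }
  have hle : L'.moves ≤ Subgroup.normalizer (R : Set G) := fun g hg =>
    Subgroup.mem_normalizer_iff.2 fun y => ⟨fun hy => L'.conj_mem_R hg hy, fun hy => by
      have := L'.conj_mem_R (inv_mem hg) hy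
      rwa [inv_inv, show g⁻¹ * (g * y * g⁻¹) * g = y by group] at this⟩
  let ρ : ↥L'.moves →* MulAut R := R.normalizerMonoidHom.comp (Subgroup.inclusion hle)
  have hρ : ∀ (g : ↥L'.moves) (v : R), ((ρ g v : R) : G) = g * v * (g : G)⁻¹ := fun g v =>
    Subgroup.normalizerMonoidHom_apply_apply_coe _ _ _
  let τ : ↥L'.moves → R := fun g => ⟨Level.kap x i (g : G), L'.kap_mem g.2⟩
  -- a generator of the image of `J`
  haveI := L.isCyclic_autImage_J
  obtain ⟨d₀, hd₀⟩ := IsCyclic.exists_zpow_surjective (G := autImage J R)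
  obtain ⟨j₀, hj₀, hj₀e⟩ := L.exists_mem_autImage d₀.2
  obtain ⟨g₀, hg₀a, hg₀x, hg₀n, -, hg₀j⟩ := L'.torus j₀ hj₀
  obtain ⟨hg₀m, -⟩ := L'.commute_mem hg₀a hg₀n hg₀x
  set g₀' : ↥L'.moves := ⟨g₀, hg₀m⟩
  have hρ₀ : ρ g₀' = d₀ := MulEquiv.ext fun v => Subtype.ext (by
    rw [hρ, hj₀e]; exact hg₀j v v.2)
  have hρz : ∀ d ∈ autImage J R, ∃ k ∈ Subgroup.zpowers g₀', ρ k = d := fun d hd => by
    obtain ⟨n, hn⟩ := hd₀ ⟨d, hd⟩
    exact ⟨g₀' ^ n, Subgroup.zpow_mem_zpowers _ _, by
      rw [map_zpow, hρ₀]; exact (Subgroup.coe_zpow _ d₀ n).symm.trans (congrArg Subtype.val hn)⟩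
  have hρim : ∀ k ∈ Subgroup.zpowers g₀', ρ k ∈ autImage J R := by
    rintro _ ⟨n, rfl⟩
    show ρ (g₀' ^ n) ∈ autImage J R
    rw [map_zpow, hρ₀]
    exact zpow_mem d₀.2 n
  -- an element with the trivial class acts as one centralising `x`
  have hzero : ∀ g : ↥L'.moves, (g : G) ∈ K → τ g = 1 → ∃ (c : G) (hc : c ∈ Subgroup.normalizer (R : Set G)),
      c ∈ K ∧ c • a = a ∧ Commute x c ∧ R.normalizerMonoidHom ⟨c, hc⟩ = ρ g := by
    intro g hgK hg
    obtain ⟨w, hw, hwx⟩ := L'.exists_comm g.2 (congrArg Subtype.val hg)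
    have hwm := mul_mem (L'.A_mem hw).1 g.2
    refine ⟨w * g, hle hwm, mul_mem (L'.le hw) hgK, hwm.1, hwx,
      MulEquiv.ext fun v => Subtype.ext ?_⟩
    rw [hρ, Subgroup.normalizerMonoidHom_apply_apply_coe]
    have hv := (Subgroup.mem_normalizer_iff.1 (hle g.2) v).1 v.2
    calc w * g * v * (w * g)⁻¹ = w * (g * v * (g : G)⁻¹) * w⁻¹ := by group
      _ = g * v * (g : G)⁻¹ := by
        rw [(L'.comm _ hw _ (L'.R_le hv)).eq, mul_inv_cancel_right]
  set Y := (L'.moves ⊓ K).subgroupOf L'.moves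
  have hJY : Subgroup.zpowers g₀' ≤ Subgroup.normalizer (Y : Set ↥L'.moves) := by
    have key : ∀ g k : ↥L'.moves, k ∈ Y → g * k * g⁻¹ ∈ Y := fun g k hk =>
      ⟨(g * k * g⁻¹).2, L.point.conj g (mem_stabilizer_iff.2 g.2.1) k hk.2⟩
    intro g _
    refine Subgroup.mem_normalizer_iff.2 fun k => ⟨key g k, fun hk => ?_⟩
    have := key g⁻¹ _ hk
    simpa [mul_assoc] using this
  rcases exists_translation_mul ρ τ
    (fun g k => Subtype.ext (by
      show Level.kap x i ((g : G) * k) = Level.kap x i (g : G) * ((ρ g (τ k) : R) : G)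
      rw [hρ, L'.kap_mul g.2 k.2]))
    (fun v : R => Subtype.ext (L.sq v v.2)) h2 hr Y (Subgroup.zpowers g₀') hJY
    (fun v => by
      obtain ⟨g, hg, e⟩ := L'.kap_surj h hnf L.point.dat_le v.2
      exact ⟨⟨g, hg.1⟩, Subgroup.mem_subgroupOf.2 hg, Subtype.ext e⟩)
    (fun k hk => Subtype.ext (by
      obtain ⟨n, rfl⟩ := hk
      show Level.kap x i ((g₀' ^ n : ↥L'.moves) : G) = 1
      rw [Subgroup.coe_zpow]
      exact (L'.commute_mem (mem_stabilizer_iff.1 (zpow_mem (mem_stabilizer_iff.2 hg₀a) n))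
        (zpow_mem hg₀n n) (hg₀x.zpow_right n)).2))
    (fun v w hv hw => by
      obtain ⟨d, hd, hdv⟩ := L.trans_autImage v w hv hw
      obtain ⟨k, hk, rfl⟩ := hρz d hd
      exact ⟨k, hk, hdv⟩)
    (fun g hg hg0 k hk => by
      obtain ⟨c, hc, -, hca, hcx, hce⟩ := hzero g hg.2 hg0
      obtain ⟨k', hk', e⟩ := hρz _ (L.conj_autImage hca hcx hc (hρim k hk))
      refine ⟨k', hk', ?_⟩
      rw [e, map_mul, map_mul, map_inv, hce])
    (fun g hg hg0 => by
      obtain ⟨c, hc, hcK, -, hcx, hce⟩ := hzero g hg.2 hg0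
      rw [← hce]
      obtain ⟨k, m, hm, hkm⟩ := Nat.exists_eq_two_pow_mul_odd (orderOf_pos c).ne'
      refine hm.of_dvd_nat (orderOf_dvd_of_pow_eq_one ?_)
      rw [← map_pow]
      have hu : c ^ m ∈ R := by
        have h2u : IsPGroup 2 ↥(Subgroup.zpowers (c ^ m)) := fun y => by
          obtain ⟨n, hn⟩ := y.2
          refine ⟨k, Subtype.ext ?_⟩
          show (y : G) ^ 2 ^ k = 1
          rw [← hn, ← zpow_natCast, ← zpow_mul, mul_comm, zpow_mul, zpow_natCast, ← pow_mul,
            mul_comm m, ← hkm, pow_orderOf_eq_one, one_zpow]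
        refine L.mem_of_commute h (L.pgroup.to_sup_of_normal_left' h2u
            (Subgroup.zpowers_le.2 (pow_mem hc m)))
          (sup_le L.le_K (Subgroup.zpowers_le.2 (pow_mem hcK m))) le_sup_left
          (Subgroup.mem_sup_right (Subgroup.mem_zpowers _)) (hcx.pow_right m)
      refine MulEquiv.ext fun v => Subtype.ext ?_
      rw [Subgroup.normalizerMonoidHom_apply_apply_coe, MulAut.one_apply, SubmonoidClass.coe_pow]
      exact L.conj_R hu v.2) with ⟨g, hg, hg1, hgτ⟩ | h3
  · refine ⟨g, hg, Subgroup.mem_centralizer_iff.2 fun s hs => ?_, fun e => hgτ (Subtype.ext e)⟩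
    have h1 := congrArg Subtype.val (DFunLike.congr_fun hg1 ⟨s, hs⟩)
    rw [hρ, MulAut.one_apply] at h1
    exact (mul_inv_eq_iff_eq_mul.1 h1).symm
  · subst h3
    exact absurd heven (by decide)

end LinearLine

end CfsgLib.LocalEven.OnePointFront.Nonfull
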