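import Cfsg.Agent.Lib.LocalEven.OnePointFront.Nonfull.Linear.CyclicKernel
import Cfsg.Agent.Lib.LocalEven.OnePointFront.Nonfull.Linear.CyclicTorus

/-!
# Linear lines: the centraliser of `x` is cyclic modulo `K`

A Sylow 2-subgroup `W` at `a` of the centraliser of `x` containing `R` is `R` times its elements at
a second fixed point of `x`.  These act on `R` as a cyclic group with kernel `{1, x}`, and an
involution among them moving `R` is excluded by the endgame.  So `x` is their only involution.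
-/

set_option autoImplicit false
set_option linter.style.haveILetI false
set_option linter.unusedSectionVars false

namespace CfsgLib.LocalEven.OnePointFront.Nonfull

open MulAction CfsgLib.LocalEven.TIEndgame CfsgLib.Involution

universe u

variable {G Ω : Type u} [Group G] [Finite G] [MulAction G Ω] {D : Set G} {a b : Ω} {x : G}
  {K R J V W : Subgroup G}

/-- Cyclicity modulo a normal subgroup passes to subgroups and to conjugates. -/
theorem cyclicMod_of_conj {M : Subgroup G} (hKn : ∀ g ∈ M, ∀ k ∈ K, g * k * g⁻¹ ∈ K)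
    (hW : W ≤ M) {g : G} (hg : g ∈ M) (hVW : ∀ v ∈ V, g * v * g⁻¹ ∈ W) (hc : CyclicMod K W) :
    CyclicMod K V := by
  classical
  haveI : ((K.subgroupOf M)).Normal := ⟨fun k hk y => hKn y y.2 k hk⟩
  set π := QuotientGroup.mk' (K.subgroupOf M) with hπ
  have hgV : ∀ v ∈ V, v ∈ M := fun v hv => by
    have := mul_mem (mul_mem (inv_mem hg) (hW (hVW v hv))) hg
    rwa [show g⁻¹ * (g * v * g⁻¹) * g = v by group] at this
  obtain ⟨c, hcW, hc⟩ := hc
  set U := (V.subgroupOf M).map π with hU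
  have hle : U.map (MulAut.conj (π ⟨g, hg⟩)).toMonoidHom ≤ Subgroup.zpowers (π ⟨c, hW hcW⟩) := by
    rintro _ ⟨_, ⟨v, hv, rfl⟩, rfl⟩
    obtain ⟨n, hn⟩ := hc _ (hVW v hv)
    refine ⟨(n : ℤ), ?_⟩
    show π ⟨c, hW hcW⟩ ^ (n : ℤ) = π ⟨g, hg⟩ * π v * (π ⟨g, hg⟩)⁻¹
    rw [zpow_natCast, ← map_pow, ← map_inv, ← map_mul, ← map_mul]
    exact QuotientGroup.eq.2 (Subgroup.mem_subgroupOf.2 hn)
  haveI : IsCyclic ↥(U.map (MulAut.conj (π ⟨g, hg⟩)).toMonoidHom) :=
    isCyclic_of_injective _ (Subgroup.inclusion_injective hle)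
  haveI : IsCyclic ↥U := isCyclic_of_injective
    (U.equivMapOfInjective (MulAut.conj (π ⟨g, hg⟩)).toMonoidHom (MulAut.conj (π ⟨g, hg⟩)).injective).toMonoidHom
    (U.equivMapOfInjective (MulAut.conj (π ⟨g, hg⟩)).toMonoidHom (MulAut.conj (π ⟨g, hg⟩)).injective).injective
  obtain ⟨⟨_, c', hc', rfl⟩, hgen⟩ := IsCyclic.exists_monoid_generator (α := ↥U)
  refine ⟨c', hc', fun v hv => ?_⟩
  obtain ⟨n, hn⟩ := hgen ⟨π ⟨v, hgV v hv⟩, Subgroup.mem_map_of_mem π
    (show (⟨v, hgV v hv⟩ : ↥M) ∈ V.subgroupOf M from hv)⟩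
  refine ⟨n, ?_⟩
  have h1 : π (c' ^ n) = π ⟨v, hgV v hv⟩ := by
    rw [map_pow]
    exact (congrArg Subtype.val hn : _)
  exact Subgroup.mem_subgroupOf.1 (QuotientGroup.eq.1 h1)

namespace LinearLine

variable [Finite Ω] (L : LinearLine D a x K R J) (h : ClosedSetting D Ω)
  (hgen : Subgroup.closure D = ⊤) (hnf : NoFull D Ω) (hmax : MaxLine Ω R x)
include L h hgen hnf hmax

/-- `x` is the only involution at two fixed points in a 2-group containing `R` and `x`. -/
theorem eq_of_involution (hW : IsPGroup 2 W)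
    (hWC : W ≤ stabilizer G a ⊓ Subgroup.centralizer ({x} : Set G)) (hRW : R ≤ W) (hxW : x ∈ W)
    (hb : x • b = b) (hba : b ≠ a) {y : G} (hy : y ∈ W) (hy2 : orderOf y = 2) (hyb : y • b = b) :
    y = x := by
  by_cases hyR : ∀ r ∈ R, Commute y r
  · rcases L.eq_one_or_eq h hnf hmax hW hWC hRW hxW hb hba hy hyb hyR with e | e
    · exact absurd e (Dihedral.ne_one hy2)
    · exact e
  exfalso
  push Not at hyR
  have hya := mem_stabilizer_iff.1 (hWC hy).1
  have hxy : Commute x y := (Subgroup.mem_centralizer_singleton_iff.1 (hWC hy).2).symm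
  have hyN := L.le_normalizer h hW hWC hRW hy
  have hyy := Dihedral.mul_self hy2
  -- the rank is even
  obtain ⟨r, hr, -⟩ := L.exists_card
  set g := R.normalizerMonoidHom ⟨y, hyN⟩ with hg
  have hg2 : g * g = 1 := by
    rw [hg, ← map_mul, show (⟨y, hyN⟩ : ↥(Subgroup.normalizer (R : Set G))) * ⟨y, hyN⟩ = 1 from
      Subtype.ext hyy, map_one]
  have hg1 : g ≠ 1 := fun e => by
    obtain ⟨s, hs, hne⟩ := hyR
    have h1 := congrArg Subtype.val (DFunLike.congr_fun e ⟨s, hs⟩)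
    rw [hg, Subgroup.normalizerMonoidHom_apply_apply_coe, MulAut.one_apply] at h1
    exact hne (mul_inv_eq_iff_eq_mul.1 h1)
  have heven := L.even_rank hr (fun d hd => L.conj_autImage hya hxy hyN hd) hg2 hg1
  obtain ⟨S, hS, hxS, hRS, hWS, h1, hcen⟩ := L.exists_oneClass h hnf hW hWC hxW hRW
  -- the kernel
  have hker : CyclicMod K
      (S ⊓ Subgroup.centralizer ({x} : Set G) ⊓ Subgroup.centralizer (R : Set G)) := by
    have hxC : x ∈ Subgroup.centralizer ({x} : Set G) :=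
      Subgroup.mem_centralizer_singleton_iff.2 rfl
    refine ⟨x, Subgroup.mem_inf.2 ⟨Subgroup.mem_inf.2 ⟨hxS, hxC⟩,
      Subgroup.mem_centralizer_iff.2 fun r hr => (L.comm r hr).eq.symm⟩, fun v hv => ?_⟩
    obtain ⟨⟨hvS, hvC⟩, hvR⟩ := hv
    have hva := mem_stabilizer_iff.1 (hS.2.1 hvS)
    have hvx : Commute x v := (Subgroup.mem_centralizer_singleton_iff.1 hvC).symm
    obtain ⟨r, hr, hrb⟩ := L.trans b (v • b) hb (by rw [← mul_smul, hvx.eq, mul_smul, hb]) hba
      (fun e => hba (smul_left_cancel v (by rw [e, hva])))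
    have hcomm : ∀ s ∈ R, Commute (r⁻¹ * v) s := fun s hs =>
      (L.comm_R hr hs).inv_left.mul_left (Subgroup.mem_centralizer_iff.1 hvR s hs).symm
    rcases L.eq_one_or_eq h hnf hmax (V := S ⊓ Subgroup.centralizer ({x} : Set G))
      (hS.1.to_le inf_le_left) (inf_le_inf_right _ hS.2.1)
      (fun s hs => Subgroup.mem_inf.2 ⟨hRS hs,
        Subgroup.mem_centralizer_singleton_iff.2 (L.comm s hs).eq.symm⟩)
      (Subgroup.mem_inf.2 ⟨hxS, hxC⟩) hb hba
      (y := r⁻¹ * v) (Subgroup.mem_inf.2 ⟨mul_mem (inv_mem (hRS hr)) hvS,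
        Subgroup.mem_centralizer_singleton_iff.2 ((L.comm r hr).inv_right.mul_right hvx).eq.symm⟩)
      (by rw [mul_smul, ← hrb, inv_smul_smul]) hcomm with e | e
    · refine ⟨0, ?_⟩
      rw [pow_zero, inv_one, one_mul, ← inv_mul_eq_one.1 e]
      exact L.le_K hr
    · refine ⟨1, ?_⟩
      rw [pow_one, inv_mul_eq_iff_eq_mul.1 e, (L.comm r hr).symm.eq, inv_mul_cancel_left]
      exact L.le_K hr
  exact false_of_moving_involution h hgen L hb hba hS hxS hRS h1
    (hcen (L.translates_of_even h hnf hr heven)) hker (hWS hy) hyy hyb hxy hyR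

/-- A 2-group at `a` of the centraliser of `x` containing `R` and `x` is cyclic modulo `K`. -/
theorem cyclicMod_of_le (hW : IsPGroup 2 W)
    (hWC : W ≤ stabilizer G a ⊓ Subgroup.centralizer ({x} : Set G)) (hRW : R ≤ W) (hxW : x ∈ W) :
    CyclicMod K W := by
  haveI : Fact (Nat.Prime 2) := ⟨Nat.prime_two⟩
  obtain ⟨b, hb, hba⟩ := L.exists_other
  set U := W ⊓ stabilizer G b with hU
  have hUN : U ≤ Subgroup.normalizer (R : Set G) := inf_le_left.trans (L.le_normalizer h hW hWC hRW)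
  let ψ : ↥U →* MulAut R := R.normalizerMonoidHom.comp (Subgroup.inclusion hUN)
  have hψ : ∀ u : ↥U, ψ u = 1 → (u : G) = 1 ∨ (u : G) = x := fun u hu =>
    L.eq_one_or_eq h hnf hmax hW hWC hRW hxW hb hba u.2.1 (mem_stabilizer_iff.1 u.2.2) fun r hr => by
      have h1 := congrArg Subtype.val (DFunLike.congr_fun hu ⟨r, hr⟩)
      simp only [ψ, MonoidHom.comp_apply, Subgroup.normalizerMonoidHom_apply_apply_coe,
        MulAut.one_apply, Subgroup.coe_inclusion] at h1
      exact mul_inv_eq_iff_eq_mul.1 h1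
  obtain ⟨n, hn, -⟩ := L.exists_card
  haveI : IsCyclic ψ.range := OddTransitiveGamma.isCyclic (fun v : R => Subtype.ext (L.sq v v.2))
    (by rintro rfl; have := L.four; omega) hn (autImage J R) L.odd_autImage L.trans_autImage _
    ((hW.to_le (inf_le_left : U ≤ W)).of_surjective ψ.rangeRestrict ψ.rangeRestrict_surjective)
    (by
      rintro _ ⟨u, rfl⟩ d hd
      exact L.conj_autImage (mem_stabilizer_iff.1 (hWC u.2.1).1)
        (Subgroup.mem_centralizer_singleton_iff.1 (hWC u.2.1).2).symm (hUN u.2) hd)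
  obtain ⟨⟨_, v, rfl⟩, hgenv⟩ := IsCyclic.exists_monoid_generator (α := ψ.range)
  -- a generator of `U`
  suffices hc : ∃ c ∈ U, ∀ u ∈ U, ∃ m : ℕ, c ^ m = u by
    obtain ⟨c, hc, hgenc⟩ := hc
    refine ⟨c, hc.1, fun w hw => ?_⟩
    have hwa := mem_stabilizer_iff.1 (hWC hw).1
    have hwx : Commute x w := (Subgroup.mem_centralizer_singleton_iff.1 (hWC hw).2).symm
    obtain ⟨r, hr, hrb⟩ := L.trans b (w • b) hb (by rw [← mul_smul, hwx.eq, mul_smul, hb]) hba
      (fun e => hba (smul_left_cancel w (by rw [e, hwa])))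
    obtain ⟨m, hm⟩ := hgenc (r⁻¹ * w) (Subgroup.mem_inf.2 ⟨mul_mem (inv_mem (hRW hr)) hw,
      mem_stabilizer_iff.2 (by rw [mul_smul, ← hrb, inv_smul_smul])⟩)
    refine ⟨m, ?_⟩
    rw [hm, show (r⁻¹ * w)⁻¹ * w = w⁻¹ * r * w⁻¹⁻¹ by group]
    exact L.point.conj _ (inv_mem (hWC hw).1) r (L.le_K hr)
  have hxU : x ∈ U := ⟨hxW, mem_stabilizer_iff.2 hb⟩
  -- the elements of `U` are `v ^ m` times `1` or `x`
  have hdec : ∀ u ∈ U, ∃ m : ℕ, (v : G) ^ m = u ∨ (v : G) ^ m * x = u := by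
    intro u hu
    obtain ⟨m, hm⟩ := hgenv ⟨ψ ⟨u, hu⟩, _, rfl⟩
    refine ⟨m, ?_⟩
    rcases hψ ((v ^ m)⁻¹ * ⟨u, hu⟩) (by
      rw [map_mul, map_inv, map_pow, ← show ψ v ^ m = ψ ⟨u, hu⟩ from congrArg Subtype.val hm,
        inv_mul_cancel]) with e | e
    · exact Or.inl (inv_mul_eq_one.1 e)
    · exact Or.inr (inv_mul_eq_iff_eq_mul.1 e).symm
  by_cases hv : (v : G) = 1 ∨ (v : G) = x
  · refine ⟨x, hxU, fun u hu => ?_⟩
    obtain ⟨m, hm | hm⟩ := hdec u hu <;> rcases hv with e | e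
    · exact ⟨0, by rw [← hm, e, one_pow, pow_zero]⟩
    · exact ⟨m, by rw [← hm, e]⟩
    · exact ⟨1, by rw [← hm, e, one_pow, one_mul, pow_one]⟩
    · exact ⟨m + 1, by rw [← hm, e, pow_succ]⟩
  push Not at hv
  obtain ⟨k, hk⟩ := IsPGroup.exists_orderOf_eq_pow (hW.to_le (inf_le_left : U ≤ W)) v
  rw [← Subgroup.orderOf_coe] at hk
  obtain ⟨k, rfl⟩ := Nat.exists_eq_succ_of_ne_zero (fun e : k = 0 =>
    hv.1 (orderOf_eq_one_iff.1 (by rw [hk, e, pow_zero])))
  have ho : orderOf ((v : G) ^ 2 ^ k) = 2 := by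
    rw [orderOf_pow_of_dvd (by positivity) ⟨2, by rw [hk, pow_succ]⟩, hk,
      Nat.div_eq_of_eq_mul_left (by positivity) (by rw [pow_succ, mul_comm])]
  have hx : (v : G) ^ 2 ^ k = x := L.eq_of_involution h hgen hnf hmax hW hWC hRW hxW hb hba
    (pow_mem v.2.1 _) ho (mem_stabilizer_iff.1 (pow_mem v.2.2 _))
  refine ⟨v, v.2, fun u hu => ?_⟩
  obtain ⟨m, hm | hm⟩ := hdec u hu
  · exact ⟨m, hm⟩
  · exact ⟨m + 2 ^ k, by rw [pow_add, hx, hm]⟩

end LinearLine

/-- The centraliser of a bad involution with a linear line is cyclic modulo the point group. -/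
theorem cyclicHyp [Finite Ω] (h : ClosedSetting D Ω) (hgen : Subgroup.closure D = ⊤)
    (hnf : NoFull D Ω) : CyclicHyp D Ω := by
  intro a x K R J L hmax V hV hVC
  haveI : Fact (Nat.Prime 2) := ⟨Nat.prime_two⟩
  set H := stabilizer G a ⊓ Subgroup.centralizer ({x} : Set G) with hH
  have hRH : R ≤ H := fun r hr => Subgroup.mem_inf.2 ⟨L.le_stab hr,
    Subgroup.mem_centralizer_singleton_iff.2 (L.comm r hr).eq.symm⟩
  have hxH : x ∈ H := Subgroup.mem_inf.2 ⟨mem_stabilizer_iff.2 L.fix,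
    Subgroup.mem_centralizer_singleton_iff.2 rfl⟩
  have hRx : IsPGroup 2 ↥(R ⊔ Subgroup.zpowers x) := L.pgroup.to_sup_of_normal_left'
    (Involution.Basic.isPGroup_zpowers_of_two L.bad.1)
    (Subgroup.zpowers_le.2 (Subgroup.centralizer_le_normalizer _
      (Subgroup.mem_centralizer_iff.2 fun r hr => (L.comm r hr).eq.symm)))
  have hRxH : R ⊔ Subgroup.zpowers x ≤ H := sup_le hRH (Subgroup.zpowers_le.2 hxH)
  obtain ⟨P, hP⟩ := (hRx.of_equiv (Subgroup.subgroupOfEquivOfLe hRxH).symm).exists_le_sylow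
  obtain ⟨g, hg⟩ := Involution.Basic.exists_conj_le P
    (hV.of_equiv (Subgroup.subgroupOfEquivOfLe hVC).symm)
  set W := (P : Subgroup ↥H).map H.subtype
  have hWH : W ≤ H := Subgroup.map_subtype_le _
  have hle : R ⊔ Subgroup.zpowers x ≤ W := fun w hw => ⟨⟨w, hRxH hw⟩, hP hw, rfl⟩
  exact cyclicMod_of_conj L.point.conj (hWH.trans inf_le_left) (g := (g : G)) g.2.1
    (fun v hv => ⟨_, hg ⟨v, hVC hv⟩ hv, rfl⟩)
    (L.cyclicMod_of_le h hgen hnf hmax (P.2.map _) hWH (le_sup_left.trans hle)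
      (hle (Subgroup.mem_sup_right (Subgroup.mem_zpowers x))))

end CfsgLib.LocalEven.OnePointFront.Nonfull
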