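import Cfsg.Agent.Lib.LocalEven.OnePointFront.Nonfull.Linear.Data
import Cfsg.Agent.Lib.LocalEven.TIEndgame.TransferHom
import Mathlib.GroupTheory.Transfer
import Mathlib.GroupTheory.SpecificGroups.Cyclic

/-!
# Linear lines: endgame

If `x` has one class of conjugates in `x (S ⊓ K)` and its centraliser in `S` is cyclic modulo `K`,
then `S` is cyclic modulo `K`: a homomorphism of the stabiliser kills `K` but not `x`, against
transfer.
-/

set_option autoImplicit false
set_option linter.style.haveILetI false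

namespace CfsgLib.LocalEven.OnePointFront.Nonfull

open MulAction CfsgLib.LocalEven.TIEndgame

universe u v

/-- A 2-group with an involution whose centraliser is cyclic is cyclic. -/
theorem isCyclic_of_cyclic_centralizer {Q : Type*} [Group Q] [Finite Q] (hQ : IsPGroup 2 Q) {x c : Q}
    (hx : orderOf x = 2) (hc : ∀ y : Q, Commute x y → y ∈ Subgroup.zpowers c) :
    IsCyclic Q := by
  haveI : Fact (Nat.Prime 2) := ⟨Nat.prime_two⟩
  haveI : Nontrivial Q := ⟨x, 1, fun e => by simp [e] at hx⟩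
  haveI := hQ.center_nontrivial
  obtain ⟨n, hn0, hn⟩ := (hQ.to_subgroup (Subgroup.center Q)).nontrivial_iff_card.1 inferInstance
  obtain ⟨z, hz⟩ := exists_prime_orderOf_dvd_card' (G := Subgroup.center Q) 2
    (by rw [hn]; exact dvd_pow_self _ (Nat.pos_iff_ne_zero.1 hn0))
  rw [← Subgroup.orderOf_coe] at hz
  obtain ⟨i, hi⟩ := Subgroup.mem_zpowers_iff.1 (hc x (Commute.refl x))
  obtain ⟨j, hj⟩ := Subgroup.mem_zpowers_iff.1
    (hc _ (show Commute x (z : Q) from Subgroup.mem_center_iff.1 z.2 x))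
  -- a cyclic group has only one involution
  have hzx : (z : Q) = x := by
    have key : ∀ a : ℤ, orderOf (c ^ a) = 2 → ∀ b : ℤ, orderOf (c ^ b) = 2 → c ^ a = c ^ b := by
      intro a ha b hb
      haveI : Finite ↥(Subgroup.zpowers c) := inferInstance
      have h2 : ∀ k : ℤ, orderOf (c ^ k) = 2 → (2 : ℤ) * k = (orderOf c : ℤ) * ((2 * k) / orderOf c) ∧
          ¬ (orderOf c : ℤ) ∣ k := by
        intro k hk
        refine ⟨(Int.mul_ediv_cancel' (orderOf_dvd_iff_zpow_eq_one.2 ?_)).symm, fun hd => ?_⟩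
        · rw [mul_comm, zpow_mul, zpow_two, ← pow_two, ← hk, pow_orderOf_eq_one]
        · rw [orderOf_dvd_iff_zpow_eq_one.1 hd, orderOf_one] at hk
          omega
      obtain ⟨ha1, ha2⟩ := h2 a ha
      obtain ⟨hb1, hb2⟩ := h2 b hb
      set m : ℤ := (orderOf c : ℤ) with hm
      set p := (2 * a) / m
      set q := (2 * b) / m
      have hp : ¬ Even p := fun ⟨l, hl⟩ => ha2 ⟨l, by rw [hl] at ha1; linarith⟩
      have hq : ¬ Even q := fun ⟨l, hl⟩ => hb2 ⟨l, by rw [hl] at hb1; linarith⟩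
      obtain ⟨l, hl⟩ := (Int.not_even_iff_odd.1 hp).sub_odd (Int.not_even_iff_odd.1 hq)
      have hd : m ∣ a - b := ⟨l, by
        have : m * (p - q) = m * (l + l) := by rw [hl]
        linarith⟩
      have := orderOf_dvd_iff_zpow_eq_one.1 hd
      rwa [zpow_sub, mul_inv_eq_one] at this
    rw [← hi, ← hj]
    exact key j (by rw [hj]; exact hz) i (by rw [hi]; exact hx)
  refine ⟨c, fun y => hc y ?_⟩
  rw [← hzx]
  exact (Subgroup.mem_center_iff.1 z.2 y).symm

variable {G : Type u} {Ω : Type v} [Group G] [MulAction G Ω] [Finite G] [Finite Ω] {D : Set G}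

/-- One class and a cyclic centraliser modulo `K` contradict transfer. -/
theorem false_of_oneClass (h : ClosedSetting D Ω) (hgen : Subgroup.closure D = ⊤) {a : Ω}
    {K S : Subgroup G} (hK : PointGroup D a K) (hS : IsTopTwo S a) {x : G} (hx : IsBad Ω x)
    (hxS : x ∈ S) (h1 : OneClass K S x)
    (hC : CyclicMod K (S ⊓ Subgroup.centralizer ({x} : Set G))) : False := by
  classical
  haveI : Fact (Nat.Prime 2) := ⟨Nat.prime_two⟩
  obtain ⟨hx2, p, p', hpp, hp, hp'⟩ := id hx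
  have hxa : x ∈ stabilizer G a := hS.2.1 hxS
  set M := stabilizer G a with hM
  haveI hKn : (K.subgroupOf M).Normal := ⟨fun k hk g => hK.conj g g.2 k hk⟩
  let T : Sylow 2 ↥M :=
    { toSubgroup := S.subgroupOf M
      isPGroup' := hS.1.comap_subtype
      is_maximal' := fun {V} hV hle => by
        refine le_antisymm (fun v hv => ?_) hle
        have := hS.2.2 (V.map M.subtype) (hV.map _) (Subgroup.map_subtype_le V)
          (fun y hy => ⟨⟨y, hS.2.1 hy⟩, hle hy, rfl⟩)
        exact this.le ⟨v, hv, rfl⟩ }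
  set π := QuotientGroup.mk' (K.subgroupOf M) with hπ
  set TQ := T.mapSurjective (f := π) (QuotientGroup.mk'_surjective _) with hTQ
  have hxK : x ∉ K := fun hh => by
    have hd := hK.invol_mem x hh hx2
    exact hpp (h.fixed_unique x hd.1 p p' hp hp')
  set xM : ↥M := ⟨x, hxa⟩ with hxM
  have hπx : π xM ≠ 1 := fun e => hxK ((QuotientGroup.eq_one_iff xM).1 e)
  have hxM2 : xM * xM = 1 := Subtype.ext (by
    show x * x = 1
    rw [← pow_two, ← hx2, pow_orderOf_eq_one])
  have hπx2 : orderOf (π xM) = 2 := orderOf_eq_prime (by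
    rw [pow_two, ← map_mul, hxM2, map_one]) hπx
  have hxT : π xM ∈ (TQ : Subgroup (↥M ⧸ K.subgroupOf M)) := ⟨xM, hxS, rfl⟩
  obtain ⟨c, hc, hgenc⟩ := hC
  set cM : ↥M := ⟨c, hS.2.1 hc.1⟩ with hcM
  haveI hcyc : IsCyclic ↥(TQ : Subgroup (↥M ⧸ K.subgroupOf M)) := by
    refine isCyclic_of_cyclic_centralizer TQ.2 (x := ⟨π xM, hxT⟩) (c := ⟨π cM, ⟨cM, hc.1, rfl⟩⟩)
      ((Subgroup.orderOf_mk _ _).trans hπx2) ?_
    rintro ⟨_, ⟨y, hy, rfl⟩⟩ hyx
    have hyx' : π xM * π y = π y * π xM := congrArg Subtype.val hyx.eq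
    -- the conjugate of `x` by `y` lies in `x (S ⊓ K)`
    set t : G := x⁻¹ * ((y : G) * x * (y : G)⁻¹) with ht
    have htS : t ∈ S := S.mul_mem (S.inv_mem hxS) (S.mul_mem (S.mul_mem hy hxS) (S.inv_mem hy))
    have htK : t ∈ K := by
      have e : π (xM⁻¹ * (y * xM * y⁻¹)) = 1 := by
        rw [map_mul, map_inv, map_mul, map_mul, map_inv, ← hyx']; group
      exact (QuotientGroup.eq_one_iff (N := K.subgroupOf M) _).1 e
    obtain ⟨t', ⟨ht'S, ht'K⟩, ht'⟩ := h1 y hy ⟨t, ⟨htS, htK⟩, by rw [ht, mul_inv_cancel_left]⟩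
    set y' := t'⁻¹ * (y : G) with hy'
    have hy'S : y' ∈ S := S.mul_mem (S.inv_mem ht'S) hy
    have hy'x : y' * x = x * y' := by
      have e : y' * x * y'⁻¹ = x := by
        rw [hy', show t'⁻¹ * (y : G) * x * (t'⁻¹ * (y : G))⁻¹ =
          t'⁻¹ * ((y : G) * x * (y : G)⁻¹) * t' by group, ← ht']
        group
      exact mul_inv_eq_iff_eq_mul.1 e
    obtain ⟨n, hn⟩ := hgenc y' ⟨hy'S, Subgroup.mem_centralizer_singleton_iff.2 hy'x⟩
    refine Subgroup.mem_zpowers_iff.2 ⟨n, Subtype.ext ?_⟩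
    rw [SubgroupClass.coe_zpow, zpow_natCast]
    show π cM ^ n = π y
    set t'M : ↥M := ⟨t', hS.2.1 ht'S⟩ with ht'M
    have e1 : π t'M = 1 := (QuotientGroup.eq_one_iff t'M).2 ht'K
    have e2 : π ((cM ^ n)⁻¹ * (t'M⁻¹ * y)) = 1 :=
      (QuotientGroup.eq_one_iff (N := K.subgroupOf M) _).2 (by
        show ((cM ^ n)⁻¹ * (t'M⁻¹ * y) : ↥M).1 ∈ K
        simpa [ht'M, hcM, hy'] using hn)
    rw [map_mul, map_inv, map_mul, map_inv, e1, inv_one, one_mul, map_pow, inv_mul_eq_one] at e2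
    exact e2
  have hmin : (Nat.card (↥M ⧸ K.subgroupOf M)).minFac = 2 :=
    (Nat.minFac_eq_two_iff _).2 (hπx2 ▸ orderOf_dvd_natCard (π xM))
  letI : CommGroup ↥(TQ : Subgroup (↥M ⧸ K.subgroupOf M)) := IsCyclic.commGroup
  set V := MonoidHom.transferSylow TQ (hcyc.normalizer_le_centralizer hmin) with hV
  have hcompl := MonoidHom.ker_transferSylow_isComplement' TQ (hcyc.normalizer_le_centralizer hmin)
  have hne : V (π xM) ≠ 1 := fun e => hπx (by
    have := Subgroup.disjoint_def.1 hcompl.disjoint (MonoidHom.mem_ker.2 e) hxT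
    exact this)
  exact h.toOnePoint.false_of_hom h.covers hgen (V.comp π) (fun d hd => by
      rw [MonoidHom.comp_apply,
        show π d = 1 from (QuotientGroup.eq_one_iff d).2 (hK.dat_le d ⟨hd, d.2⟩), map_one])
    xM (k := 1) (by rw [pow_one, pow_two]; exact hxM2) hne

end CfsgLib.LocalEven.OnePointFront.Nonfull
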