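import Cfsg.Agent.Lib.LocalEven.OnePointFront.Nonfull.Linear.Data
import Cfsg.Agent.Lib.LocalEven.OnePointFront.Nonfull.Linear.Endgame
import Cfsg.Agent.Lib.LocalEven.OnePointFront.Basic

/-!
# No involution of field type on a linear line

`S` is a maximal 2-subgroup with one class of conjugates of `x` in `x (S ⊓ K)`, whose intersection
with `K` centralises `R`, and the centraliser of `x` and `R` in `S` is cyclic modulo `K`.  Let `Z`
be the central elements of order at most two of `T = S ⊓ K`.  If `x` moves `Z`, an involution at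
`a`, `b` moving `R` gives a four group on `Z`, against B*.  Otherwise `x` is central in `S` modulo
`T`, so `S` induces on `Z` what its subgroup fixing `b` and centralising `x` induces, a cyclic
group, and transfer kills the involution.
-/

set_option autoImplicit false
set_option linter.style.haveILetI false

namespace CfsgLib.LocalEven.OnePointFront.Nonfull

open MulAction CfsgLib.LocalEven.TIEndgame CfsgLib.Involution

universe u v

/-- A cyclic group has only one involution. -/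
theorem eq_of_mul_self_cyclic {Q : Type*} [Group Q] [Finite Q] [IsCyclic Q] {p q : Q}
    (hp : p * p = 1) (hq : q * q = 1) (hp1 : p ≠ 1) (hq1 : q ≠ 1) : p = q := by
  classical
  haveI : Fintype Q := Fintype.ofFinite Q
  by_contra hne
  have hle := IsCyclic.card_pow_eq_one_le (α := Q) (n := 2) (by norm_num)
  have hsub : ({1, p, q} : Finset Q) ⊆ Finset.univ.filter (fun z : Q => z ^ 2 = 1) := by
    intro z hz
    simp only [Finset.mem_insert, Finset.mem_singleton] at hz
    rcases hz with rfl | rfl | rfl <;> simp [pow_two, hp, hq]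
  have h3 : ({1, p, q} : Finset Q).card = 3 := by
    simp [Ne.symm hp1, Ne.symm hq1, hne]
  have := Finset.card_le_card hsub
  omega

variable {G : Type u} {Ω : Type v} [Group G] [MulAction G Ω] [Finite G]

/-- A maximal 2-subgroup at `a` meets a normal subgroup of the stabiliser in a Sylow subgroup. -/
theorem odd_relIndex_inf {a : Ω} {K S : Subgroup G} (hKa : K ≤ stabilizer G a)
    (hKn : ∀ g ∈ stabilizer G a, ∀ k ∈ K, g * k * g⁻¹ ∈ K) (hS : IsTopTwo S a) :
    Odd ((S ⊓ K).relIndex K) := by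
  haveI : Fact (Nat.Prime 2) := ⟨Nat.prime_two⟩
  set M := stabilizer G a with hM
  let S₁ : Sylow 2 ↥M :=
    { toSubgroup := S.subgroupOf M
      isPGroup' := hS.1.comap_subtype
      is_maximal' := fun {V} hV hle => by
        refine le_antisymm (fun v hv => ?_) hle
        have := hS.2.2 (V.map M.subtype) (hV.map _) (Subgroup.map_subtype_le V)
          (fun y hy => ⟨⟨y, hS.2.1 hy⟩, hle hy, rfl⟩)
        exact this.le ⟨v, hv, rfl⟩ }
  let TS : Sylow 2 ↥K :=
    { toSubgroup := (S ⊓ K).subgroupOf K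
      isPGroup' := (hS.1.to_le (inf_le_left : S ⊓ K ≤ S)).comap_subtype
      is_maximal' := fun {V} hV hle => by
        set U := V.map K.subtype with hU
        have hUM : U ≤ M := (Subgroup.map_subtype_le V).trans hKa
        obtain ⟨g, hg⟩ := Basic.exists_conj_le S₁
          ((hV.map K.subtype).of_equiv (Subgroup.subgroupOfEquivOfLe hUM).symm)
        have hinto : U.map (MulAut.conj (g : G)).toMonoidHom ≤ S ⊓ K := by
          rintro _ ⟨v, hv, rfl⟩
          refine ⟨hg ⟨v, hUM hv⟩ hv, ?_⟩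
          exact hKn g g.2 v (Subgroup.map_subtype_le V hv)
        have hTU : S ⊓ K ≤ U := fun t ht => ⟨⟨t, ht.2⟩, hle ht, rfl⟩
        have heq : S ⊓ K = U := Subgroup.eq_of_le_of_card_ge hTU (by
          rw [← Subgroup.card_map_of_injective (f := (MulAut.conj (g : G)).toMonoidHom) (MulAut.conj (g : G)).injective (K := U)]
          exact Subgroup.card_le_of_le hinto)
        refine le_antisymm (fun v hv => ?_) hle
        exact heq.ge (⟨v, hv, rfl⟩ : (v : G) ∈ U) }
  exact Nat.not_even_iff_odd.1 fun he => TS.not_dvd_index (even_iff_two_dvd.1 he)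

variable [Finite Ω] {D : Set G}

/-- No involution at two fixed points of `x` moves `R`. -/
theorem false_of_moving_involution (h : ClosedSetting D Ω) (hgen : Subgroup.closure D = ⊤) {a b : Ω}
    {x : G} {K R J S : Subgroup G} (L : LinearLine D a x K R J) (hxb : x • b = b) (hba : b ≠ a)
    (hS : IsTopTwo S a) (hxS : x ∈ S) (hRS : R ≤ S) (h1 : OneClass K S x)
    (hcen : S ⊓ K ≤ Subgroup.centralizer (R : Set G))
    (hker : CyclicMod K (S ⊓ Subgroup.centralizer ({x} : Set G) ⊓ Subgroup.centralizer (R : Set G)))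
    {y : G} (hyS : y ∈ S) (hy2 : y * y = 1) (hyb : y • b = b) (hxy : Commute x y)
    (hmove : ∃ r ∈ R, ¬ Commute y r) : False := by
  classical
  haveI : Fact (Nat.Prime 2) := ⟨Nat.prime_two⟩
  obtain ⟨r₀, hr₀, hne⟩ := hmove
  have hK := L.point
  set T := S ⊓ K with hTdef
  set Z := omCentre T with hZdef
  have hT : IsPGroup 2 T := hS.1.to_le inf_le_left
  have hodd : Odd (T.relIndex K) := odd_relIndex_inf hK.le hK.conj hS
  have hSM : S ≤ stabilizer G a := hS.2.1
  have hST : ∀ s ∈ S, ∀ t ∈ T, s * t * s⁻¹ ∈ T := fun s hs t ht =>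
    ⟨S.mul_mem (S.mul_mem hs ht.1) (S.inv_mem hs), hK.conj s (hSM hs) t ht.2⟩
  have hSNT : S ≤ Subgroup.normalizer (T : Set G) := by
    intro s hs
    refine Subgroup.mem_normalizer_iff.2 fun t => ⟨hST s hs t, fun ht => ?_⟩
    have := hST s⁻¹ (inv_mem hs) _ ht
    rwa [show s⁻¹ * (s * t * s⁻¹) * s⁻¹⁻¹ = t by group] at this
  have hRT : R ≤ T := fun r hr => ⟨hRS hr, by
    rcases eq_or_ne r 1 with e | e
    · rw [e]; exact one_mem _
    · exact hK.dat_le r (L.member r hr e)⟩
  have hRZ : R ≤ Z := fun r hr => ⟨hRT hr, L.sq r hr, fun t ht =>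
    (Subgroup.mem_centralizer_iff.1 (hcen ht) r hr)⟩
  have hxa : x • a = a := L.fix
  have hya : y • a = a := hSM hyS
  have hxK : x ∉ K := fun hh => by
    obtain ⟨hx2, p, q, hpq, hp, hq⟩ := id L.bad
    exact hpq (h.fixed_unique x (hK.invol_mem x hh hx2).1 p q hp hq)
  have hy1 : y ≠ 1 := fun e => hne (e ▸ Commute.one_left r₀)
  have hy2' : orderOf y = 2 := orderOf_eq_prime (by rw [pow_two, hy2]) hy1
  by_cases hxZ : ∃ z ∈ Z, ¬ Commute x z
  · -- a four group at `a`, `b` acting faithfully on `Z`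
    obtain ⟨z₀, hz₀, hxz₀⟩ := hxZ
    set P := Subgroup.zpowers x ⊔ Subgroup.zpowers y with hP
    have hPab : P ≤ stabilizer G a ⊓ stabilizer G b :=
      sup_le (Subgroup.zpowers_le.2 ⟨hxa, hxb⟩) (Subgroup.zpowers_le.2 ⟨hya, hyb⟩)
    have hPT : P ≤ Subgroup.normalizer (T : Set G) :=
      sup_le (Subgroup.zpowers_le.2 (hSNT hxS)) (Subgroup.zpowers_le.2 (hSNT hyS))
    haveI hcyc := hK.isCyclic_autImage h hT inf_le_right hodd (Ne.symm hba)
      (isPGroup_pair L.bad.1 hy2' hxy) hPab hPT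
    have hN : ∀ {g : G}, g ∈ P → g ∈ Subgroup.normalizer (Z : Set G) := fun hg =>
      normalizer_le_omCentre T (hPT hg)
    let F : ↥P →* ↥(autImage P Z) :=
      { toFun := fun g => ⟨Z.normalizerMonoidHom ⟨g, hN g.2⟩, ⟨g, hN g.2⟩, g.2, rfl⟩
        map_one' := Subtype.ext (map_one Z.normalizerMonoidHom)
        map_mul' := fun g g' => Subtype.ext
          (map_mul Z.normalizerMonoidHom ⟨g, hN g.2⟩ ⟨g', hN g'.2⟩) }
    have hF : ∀ g : ↥P, F g = 1 → ∀ z ∈ Z, Commute (g : G) z := by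
      intro g e z hz
      have hk : (⟨g, hN g.2⟩ : ↥(Subgroup.normalizer (Z : Set G))) ∈ Z.normalizerMonoidHom.ker :=
        congrArg Subtype.val e
      rw [Subgroup.normalizerMonoidHom_ker, Subgroup.mem_subgroupOf,
        Subgroup.mem_centralizer_iff] at hk
      exact (hk z hz).symm
    set xP : ↥P := ⟨x, Subgroup.mem_sup_left (Subgroup.mem_zpowers x)⟩ with hxP
    set yP : ↥P := ⟨y, Subgroup.mem_sup_right (Subgroup.mem_zpowers y)⟩ with hyP
    have hxx : xP * xP = 1 := Subtype.ext (Dihedral.mul_self L.bad.1)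
    have hyy : yP * yP = 1 := Subtype.ext hy2
    have e := eq_of_mul_self_cyclic (p := F xP) (q := F yP) (by rw [← map_mul, hxx, map_one])
      (by rw [← map_mul, hyy, map_one]) (fun e => hxz₀ (hF xP e z₀ hz₀))
      (fun e => hne (hF yP e r₀ (hRZ hr₀)))
    have hxy' : Commute (x * y) r₀ := by
      refine hF (xP * yP) ?_ r₀ (hRZ hr₀)
      rw [map_mul, e, ← map_mul, hyy, map_one]
    refine hne ?_
    have := (L.comm r₀ hr₀).mul_left hxy'
    rwa [← mul_assoc, Dihedral.mul_self L.bad.1, one_mul] at this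
  · push Not at hxZ
    set S₀ := S ⊓ Subgroup.centralizer (Z : Set G) with hS₀
    have hxS₀ : x ∈ S₀ := ⟨hxS, Subgroup.mem_centralizer_iff.2 fun z hz => (hxZ z hz).eq.symm⟩
    have hTS₀ : ∀ {t : G}, t ∈ T → t ∈ S₀ := fun {t} ht =>
      ⟨ht.1, Subgroup.mem_centralizer_iff.2 fun z hz => (hz.2.2 t ht).eq⟩
    have hSS₀ : ∀ s ∈ S, ∀ g ∈ S₀, s * g * s⁻¹ ∈ S₀ := fun s hs g hg => by
      refine ⟨S.mul_mem (S.mul_mem hs hg.1) (S.inv_mem hs),
        Subgroup.mem_centralizer_iff.2 fun z hz => ?_⟩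
      have hz' : s⁻¹ * z * s ∈ Z := by
        have := (Subgroup.mem_normalizer_iff.1
          (normalizer_le_omCentre T (hSNT (inv_mem hs))) z).1 hz
        rwa [inv_inv] at this
      have e := Subgroup.mem_centralizer_iff.1 hg.2 _ hz'
      calc z * (s * g * s⁻¹) = s * ((s⁻¹ * z * s) * g) * s⁻¹ := by group
        _ = s * (g * (s⁻¹ * z * s)) * s⁻¹ := by rw [e]
        _ = s * g * s⁻¹ * z := by group
    -- the quotient of `S` by `T`
    haveI hTn : (T.subgroupOf S).Normal := ⟨fun t ht g => hST g g.2 t ht⟩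
    set π := QuotientGroup.mk' (T.subgroupOf S) with hπ
    have hπ1 : ∀ {g : ↥S}, π g = 1 ↔ (g : G) ∈ T := fun {g} =>
      (QuotientGroup.eq_one_iff g).trans Subgroup.mem_subgroupOf
    set Q₀ := (S₀.subgroupOf S).map π with hQ₀
    set xS : ↥S := ⟨x, hxS⟩ with hxS'
    have hxQ : π xS ∈ Q₀ := ⟨xS, hxS₀, rfl⟩
    have hx2 : π xS * π xS = 1 := by
      rw [← map_mul, show xS * xS = 1 from Subtype.ext (Dihedral.mul_self L.bad.1), map_one]
    have hx1 : π xS ≠ 1 := fun e => hxK (hπ1.1 e).2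
    obtain ⟨c, hc, hcgen⟩ := hker
    set cS : ↥S := ⟨c, hc.1.1⟩ with hcS
    -- an element fixing the image of `x` is congruent to one commuting with `x`
    have hlift : ∀ g : ↥S, π g * π xS = π xS * π g → ∃ t ∈ T, Commute x (t⁻¹ * (g : G)) := by
      intro g hg
      have hk : x⁻¹ * ((g : G) * x * (g : G)⁻¹) ∈ T := by
        refine (hπ1 (g := xS⁻¹ * (g * xS * g⁻¹))).1 ?_
        rw [map_mul, map_inv, map_mul, map_mul, map_inv, hg]
        group
      obtain ⟨t, ht, hte⟩ := h1 g g.2 ⟨_, hk, by group⟩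
      refine ⟨t, ht, (mul_inv_eq_iff_eq_mul.1 ?_).symm⟩
      rw [show t⁻¹ * (g : G) * x * (t⁻¹ * (g : G))⁻¹ = t⁻¹ * ((g : G) * x * (g : G)⁻¹) * t by group,
        ← hte]
      group
    -- so it lies in the cyclic image of the kernel
    haveI : IsCyclic ↥(Q₀ ⊓ Subgroup.zpowers (π cS)) :=
      isCyclic_of_injective _ (Subgroup.inclusion_injective (inf_le_right :
        Q₀ ⊓ Subgroup.zpowers (π cS) ≤ Subgroup.zpowers (π cS)))
    obtain ⟨⟨c', hc'⟩, hgen'⟩ := IsCyclic.exists_generator (α := ↥(Q₀ ⊓ Subgroup.zpowers (π cS)))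
    have hQp : IsPGroup 2 ↥Q₀ :=
      (hS.1.of_surjective π (QuotientGroup.mk'_surjective _)).to_subgroup Q₀
    haveI hQcyc : IsCyclic ↥Q₀ := by
      refine isCyclic_of_cyclic_centralizer hQp (x := ⟨π xS, hxQ⟩) (c := ⟨c', hc'.1⟩)
        (orderOf_eq_prime (Subtype.ext (by rw [pow_two]; exact hx2))
          fun e => hx1 (congrArg Subtype.val e)) ?_
      rintro ⟨_, ⟨g, hg, rfl⟩⟩ hgx
      obtain ⟨t, ht, hcomm⟩ := hlift g (congrArg Subtype.val hgx.eq).symm
      have htg : t⁻¹ * (g : G) ∈ S ⊓ Subgroup.centralizer ({x} : Set G) ⊓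
          Subgroup.centralizer (R : Set G) := by
        refine ⟨⟨S.mul_mem (S.inv_mem ht.1) g.2,
          Subgroup.mem_centralizer_singleton_iff.2 hcomm.eq.symm⟩, ?_⟩
        have h2 : t⁻¹ * (g : G) ∈ S₀ := S₀.mul_mem (S₀.inv_mem (hTS₀ ht)) hg
        exact Subgroup.centralizer_le (show (R : Set G) ⊆ Z from hRZ) h2.2
      obtain ⟨n, hn⟩ := hcgen _ htg
      have e : π g = π cS ^ n := by
        have h3 : π ((cS ^ n)⁻¹ * ((⟨t, ht.1⟩ : ↥S)⁻¹ * g)) = 1 :=
          hπ1.2 ⟨((cS ^ n)⁻¹ * ((⟨t, ht.1⟩ : ↥S)⁻¹ * g)).2, by simpa [hcS] using hn⟩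
        rw [map_mul, map_inv, map_mul, map_inv, hπ1.2 (show ((⟨t, ht.1⟩ : ↥S) : G) ∈ T from ht),
          inv_one, one_mul, map_pow, inv_mul_eq_one] at h3
        exact h3.symm
      obtain ⟨m, hm⟩ := Subgroup.mem_zpowers_iff.1 (hgen' ⟨π g, ⟨g, hg, rfl⟩,
        e ▸ Subgroup.pow_mem _ (Subgroup.mem_zpowers _) n⟩)
      exact Subgroup.mem_zpowers_iff.2 ⟨m, Subtype.ext (by simpa using congrArg Subtype.val hm)⟩
    -- `S` is the product of `T` and the centraliser of `x`
    have hfac : ∀ s ∈ S, ∃ t ∈ T, Commute x (t⁻¹ * s) := by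
      intro s hs
      refine hlift ⟨s, hs⟩ ?_
      have hmem : π (⟨s, hs⟩ * xS * ⟨s, hs⟩⁻¹) ∈ Q₀ := ⟨_, hSS₀ s hs x hxS₀, rfl⟩
      rw [map_mul, map_mul, map_inv] at hmem
      have e := eq_of_mul_self_cyclic (Q := ↥Q₀) (p := ⟨_, hmem⟩) (q := ⟨π xS, hxQ⟩)
        (Subtype.ext (by
          show π ⟨s, hs⟩ * π xS * (π ⟨s, hs⟩)⁻¹ * (π ⟨s, hs⟩ * π xS * (π ⟨s, hs⟩)⁻¹) = 1
          calc _ = π ⟨s, hs⟩ * (π xS * π xS) * (π ⟨s, hs⟩)⁻¹ := by group
            _ = 1 := by rw [hx2, mul_one, mul_inv_cancel]))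
        (Subtype.ext hx2) (fun e => hx1 (conj_eq_one_iff.1 (congrArg Subtype.val e)))
        (fun e => hx1 (congrArg Subtype.val e))
      exact mul_inv_eq_iff_eq_mul.1 (congrArg Subtype.val e)
    set Pb := S ⊓ Subgroup.centralizer ({x} : Set G) ⊓ stabilizer G b with hPb
    have himg : autImage S Z ≤ autImage Pb Z := by
      rintro _ ⟨⟨s, hsN⟩, hs, rfl⟩
      obtain ⟨t, ht, hcomm⟩ := hfac s hs
      set g := t⁻¹ * s with hg
      have hgS : g ∈ S := S.mul_mem (S.inv_mem ht.1) hs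
      obtain ⟨r, hr, hrb⟩ : ∃ r ∈ R, r • b = g • b := by
        refine L.trans b (g • b) hxb ?_ hba fun e => hba (smul_left_cancel g ?_)
        · rw [← mul_smul, hcomm.eq, mul_smul, hxb]
        · rw [e, mem_stabilizer_iff.1 (hSM hgS)]
      set p := r⁻¹ * g with hp
      have hpb : p ∈ Pb := by
        refine ⟨⟨S.mul_mem (S.inv_mem (hRS hr)) hgS, Subgroup.mem_centralizer_singleton_iff.2 ?_⟩, ?_⟩
        · exact ((L.comm r hr).inv_right.mul_right hcomm).eq.symm
        · show p • b = b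
          rw [hp, mul_smul, inv_smul_eq_iff, hrb]
      have hpN : p ∈ Subgroup.normalizer (Z : Set G) :=
        normalizer_le_omCentre T (hSNT hpb.1.1)
      have hw : s * p⁻¹ ∈ Subgroup.centralizer (Z : Set G) := by
        rw [show s * p⁻¹ = t * r by rw [hp, hg]; group]
        exact Subgroup.mul_mem _ (hTS₀ ht).2 (hTS₀ (hRT hr)).2
      refine ⟨⟨p, hpN⟩, hpb, ?_⟩
      refine MonoidHom.eq_iff _ |>.2 ?_
      rw [Subgroup.normalizerMonoidHom_ker, Subgroup.mem_subgroupOf]
      show (s : G)⁻¹ * p ∈ Subgroup.centralizer (Z : Set G)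
      have hsp : p⁻¹ * s ∈ Subgroup.centralizer (Z : Set G) := by
        refine Subgroup.mem_centralizer_iff.2 fun z hz => ?_
        have hz' : p * z * p⁻¹ ∈ Z := (Subgroup.mem_normalizer_iff.1 hpN z).1 hz
        have e := Subgroup.mem_centralizer_iff.1 hw _ hz'
        calc z * (p⁻¹ * s) = p⁻¹ * ((p * z * p⁻¹) * (s * p⁻¹)) * p := by group
          _ = p⁻¹ * ((s * p⁻¹) * (p * z * p⁻¹)) * p := by rw [e]
          _ = p⁻¹ * s * z := by group
      simpa [mul_inv_rev] using inv_mem hsp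
    haveI hcb := hK.isCyclic_autImage h hT inf_le_right hodd (Ne.symm hba) (P := Pb)
      (hS.1.to_le (inf_le_left.trans inf_le_left))
      (le_inf (inf_le_left.trans (inf_le_left.trans hSM)) inf_le_right)
      (inf_le_left.trans (inf_le_left.trans hSNT))
    have hcyc : IsCyclic (autImage S Z) :=
      isCyclic_of_injective _ (Subgroup.inclusion_injective himg)
    have hPodd : Odd (S.relIndex (stabilizer G a ⊓ Subgroup.normalizer (T : Set G))) := by
      obtain ⟨S₁, hS₁⟩ := (hS.1.comap_subtype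
        (K := stabilizer G a ⊓ Subgroup.normalizer (T : Set G))).exists_le_sylow
      have heq : S₁.toSubgroup = S.subgroupOf _ := by
        refine le_antisymm (fun v hv => ?_) hS₁
        have := hS.2.2 ((S₁ : Subgroup _).map (Subgroup.subtype _)) (S₁.2.map _)
          ((Subgroup.map_subtype_le _).trans inf_le_left)
          (fun w hw => ⟨⟨w, hSM hw, hSNT hw⟩, hS₁ hw, rfl⟩)
        exact this.le ⟨v, hv, rfl⟩
      refine Nat.not_even_iff_odd.1 fun he => S₁.not_dvd_index ?_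
      rw [heq]
      exact even_iff_two_dvd.1 he
    obtain ⟨A, i₁, -, φ, -, -, hD, hu⟩ := hK.exists_hom_moving hT inf_le_right hodd hS.1
      (le_inf hSM hSNT) hPodd hcyc hyS ⟨r₀, hRZ hr₀, hne⟩
    exact h.toOnePoint.false_of_hom h.covers hgen φ hD ⟨y, hya⟩ (k := 1)
      (Subtype.ext (by simpa [pow_two] using hy2)) hu

end CfsgLib.LocalEven.OnePointFront.Nonfull
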