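import Cfsg.Agent.Lib.LocalEven.OnePointFront.Nonfull.Linear.TowerBase

/-!
# The classes of a level

When `x` moves a member in every maximal 2-subgroup containing it, the elements of the point group
moving `x` inside `x A` are transitive on the classes.  A Sylow 2-subgroup `B` of them is regular
on the classes; an involution of `B` and an element of `B` inverted by `x`, both outside `A`,
cannot both exist.  If no element of `B` outside `A` takes the place of `x` under the normaliser of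
`B`, there is one class.
-/

set_option autoImplicit false
set_option linter.style.haveILetI false
set_option linter.unusedSectionVars false

namespace CfsgLib.LocalEven.OnePointFront.Nonfull

open MulAction CfsgLib.LocalEven.TIEndgame CfsgLib.Involution

universe u v

variable {G : Type u} {Ω : Type v} [Group G] [MulAction G Ω] [Finite G] {D : Set G} {a : Ω} {x : G}
  {K R J A : Subgroup G} {i : ℕ}

/-- A 2-subgroup of the stabiliser lies in a maximal one. -/
theorem exists_top_two {V : Subgroup G} (hV : IsPGroup 2 V) (hVa : V ≤ stabilizer G a) :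
    ∃ S : Subgroup G, IsTopTwo S a ∧ V ≤ S := by
  haveI : Fact (Nat.Prime 2) := ⟨Nat.prime_two⟩
  obtain ⟨P, hP⟩ := (hV.comap_subtype (K := stabilizer G a)).exists_le_sylow
  refine ⟨(P : Subgroup (stabilizer G a)).map (stabilizer G a).subtype,
    ⟨P.2.map _, Subgroup.map_subtype_le _, fun P' hP' hP'a hle => ?_⟩,
    fun g hg => ⟨⟨g, hVa hg⟩, hP (Subgroup.mem_subgroupOf.2 hg), rfl⟩⟩
  have h1 : P'.subgroupOf (stabilizer G a) = (P : Subgroup (stabilizer G a)) :=
    P.is_maximal' (hP'.comap_subtype (K := stabilizer G a))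
      (fun g hg => Subgroup.mem_subgroupOf.2 (hle ⟨g, hg, rfl⟩))
  refine le_antisymm (fun g hg => ⟨⟨g, hP'a hg⟩, ?_, rfl⟩) hle
  rw [← h1]
  exact Subgroup.mem_subgroupOf.2 hg

/-- `V ∪ V x` for an involution `x` normalising `V`. -/
def extend (x : G) (V : Subgroup G) (hx : x * x = 1) (hn : ∀ v ∈ V, x * v * x ∈ V) : Subgroup G where
  carrier := {g | g ∈ V ∨ g * x ∈ V}
  one_mem' := Or.inl (one_mem V)
  mul_mem' := by
    rintro g k (hg | hg) (hk | hk)
    · exact Or.inl (mul_mem hg hk)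
    · exact Or.inr (by rw [mul_assoc]; exact mul_mem hg hk)
    · refine Or.inr ?_
      have e : g * k * x = (g * x) * (x * k * x) := by
        calc g * k * x = g * (x * x) * k * x := by rw [hx, mul_one]
          _ = _ := by group
      exact e ▸ mul_mem hg (hn k hk)
    · refine Or.inl ?_
      have e : g * k = (g * x) * (x * (k * x) * x) := by
        calc g * k = g * (x * x) * k * (x * x) := by rw [hx, mul_one, mul_one]
          _ = _ := by group
      exact e ▸ mul_mem hg (hn _ hk)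
  inv_mem' := by
    rintro g (hg | hg)
    · exact Or.inl (inv_mem hg)
    · refine Or.inr ?_
      have e : g⁻¹ * x = x * (g * x)⁻¹ * x := by
        rw [mul_inv_rev, ← mul_assoc, mul_inv_cancel, one_mul]
      exact e ▸ hn _ (inv_mem hg)

theorem mem_extend {hx : x * x = 1} {V : Subgroup G} {hn : ∀ v ∈ V, x * v * x ∈ V} {g : G} :
    g ∈ extend x V hx hn ↔ g ∈ V ∨ g * x ∈ V := Iff.rfl

/-- If `A < S ⊓ K` then some element of `S ⊓ K` outside `A` normalises `A` and moves `x` inside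
`x A`. -/
theorem exists_growth {S A : Subgroup G} (hx : x * x = 1) (hxS : x ∈ S) (hS : IsPGroup 2 S)
    (hKn : ∀ k ∈ K, x * k * x ∈ K) (hxK : x ∉ K) (hA : A ≤ S ⊓ K)
    (hn : ∀ v ∈ A, x * v * x ∈ A) (hlt : ¬ S ⊓ K ≤ A) :
    ∃ g ∈ S ⊓ K, g ∉ A ∧ g ∈ Subgroup.normalizer (A : Set G) ∧ disp x g ∈ A := by
  haveI : Fact (Nat.Prime 2) := ⟨Nat.prime_two⟩
  have hTn : ∀ v ∈ S ⊓ K, x * v * x ∈ S ⊓ K := fun v hv =>
    Subgroup.mem_inf.2 ⟨mul_mem (mul_mem hxS hv.1) hxS, hKn v hv.2⟩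
  set U := extend x (S ⊓ K) hx hTn with hU
  have hUS : U ≤ S := by
    rintro g (hg | hg)
    · exact hg.1
    · have := S.mul_mem (Subgroup.mem_inf.1 hg).1 (S.inv_mem hxS)
      rwa [mul_inv_cancel_right] at this
  have hAU : extend x A hx hn ≤ U := by
    rintro g (hg | hg)
    · exact Or.inl (hA hg)
    · exact Or.inr (hA hg)
  have hlt' : (extend x A hx hn).subgroupOf U < ⊤ := by
    refine lt_top_iff_ne_top.2 fun e => hlt fun v hv => ?_
    have hv' : (⟨v, Or.inl hv⟩ : U) ∈ (extend x A hx hn).subgroupOf U := e ▸ Subgroup.mem_top _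
    rcases Subgroup.mem_subgroupOf.1 hv' with h1 | h1
    · exact h1
    · refine absurd ?_ hxK
      have := K.mul_mem (K.inv_mem hv.2) (hA h1).2
      rwa [inv_mul_cancel_left] at this
  haveI : Group.IsNilpotent U := (hS.to_le hUS).isNilpotent
  obtain ⟨y, hy, hyA⟩ :=
    SetLike.exists_of_lt (Group.normalizerCondition_of_isNilpotent (G := U) _ hlt')
  obtain ⟨g, hgT, hgn, hgA⟩ : ∃ g : U, (g : G) ∈ S ⊓ K ∧
      g ∈ Subgroup.normalizer ((extend x A hx hn).subgroupOf U : Set U) ∧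
      g ∉ (extend x A hx hn).subgroupOf U := by
    rcases y.2 with h' | h'
    · exact ⟨y, h', hy, hyA⟩
    · have hxE : (⟨x, Or.inr (hx.symm ▸ one_mem _)⟩ : U) ∈ (extend x A hx hn).subgroupOf U :=
        Subgroup.mem_subgroupOf.2 (Or.inr (hx.symm ▸ one_mem _))
      refine ⟨y * ⟨x, Or.inr (hx.symm ▸ one_mem _)⟩, h', mul_mem hy (Subgroup.le_normalizer hxE),
        fun hc => hyA ?_⟩
      have := mul_mem hc (inv_mem hxE)
      rwa [mul_inv_cancel_right] at this
  have hkey : ∀ w ∈ extend x A hx hn, (g : G) * w * (g : G)⁻¹ ∈ extend x A hx hn := fun w hw =>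
    Subgroup.mem_subgroupOf.1
      ((Subgroup.mem_normalizer_iff.1 hgn ⟨w, hAU hw⟩).1 (Subgroup.mem_subgroupOf.2 hw))
  have hgA' : (g : G) ∉ A := fun h1 => hgA (Subgroup.mem_subgroupOf.2 (Or.inl h1))
  have hEK : ∀ w ∈ extend x A hx hn, w ∈ K → w ∈ A := by
    rintro w (hw | hw) hwK
    · exact hw
    · refine absurd ?_ hxK
      have := K.mul_mem (K.inv_mem hwK) (hA hw).2
      rwa [inv_mul_cancel_left] at this
  refine ⟨g, hgT, hgA', ?_, ?_⟩
  · have hle : A.map (MulAut.conj (g : G)).toMonoidHom ≤ A := by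
      rintro _ ⟨v, hv, rfl⟩
      exact hEK _ (hkey v (Or.inl hv)) (mul_mem (mul_mem hgT.2 (hA hv).2) (inv_mem hgT.2))
    have heq := Subgroup.eq_of_le_of_card_ge hle
      (Subgroup.card_map_of_injective (MulAut.conj (g : G)).injective).ge
    refine Subgroup.mem_normalizer_iff.2 fun v => ⟨fun hv => hle ⟨v, hv, rfl⟩, fun hv => ?_⟩
    obtain ⟨w, hw, hwv⟩ : (g : G) * v * (g : G)⁻¹ ∈ A.map (MulAut.conj (g : G)).toMonoidHom := by
      rw [heq]; exact hv
    rwa [← mul_left_cancel (mul_right_cancel hwv)]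
  · rcases hkey x (Or.inr (hx.symm ▸ one_mem _)) with h1 | h1
    · refine absurd ?_ hxK
      have h2 := K.mul_mem (K.mul_mem (K.inv_mem hgT.2) (hA h1).2) hgT.2
      rwa [show (g : G)⁻¹ * ((g : G) * x * (g : G)⁻¹) * g = x by group] at h2
    · have h2 := hn _ h1
      rwa [show x * ((g : G) * x * (g : G)⁻¹ * x) * x = disp x g * (x * x) by
        simp only [disp]; group, hx, mul_one] at h2

namespace TransLine

variable (L : TransLine D a x K R J)
include L

theorem x_notMem (h : ClosedSetting D Ω) : x ∉ K := L.x_out h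

theorem conj_x_mem {k : G} (hk : k ∈ K) : x * k * x ∈ K := by
  have := (Subgroup.mem_normalizer_iff.1 L.x_norm k).1 hk
  rwa [L.x_inv] at this

end TransLine

namespace LinearLine

variable (L : LinearLine D a x K R J)
include L

theorem x_notMem (h : ClosedSetting D Ω) : x ∉ K := fun hk => by
  obtain ⟨-, p, q, hpq, hp, hq⟩ := id L.bad
  exact hpq (h.fixed_unique x (L.point.invol_mem x hk L.bad.1).1 p q hp hq)

theorem conj_x_mem {k : G} (hk : k ∈ K) : x * k * x ∈ K := by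
  have := L.point.conj x L.x_stab k hk
  rwa [L.x_inv] at this

end LinearLine

namespace Level

variable (L : Level D a x K R J A i)
include L

theorem conj_x_A {u : G} (hu : u ∈ A) : x * u * x ∈ A := L.inv u hu ▸ inv_mem hu

/-- A 2-group `V` at `a` normalising the 2-group `B` lies with it in a maximal 2-subgroup. -/
theorem exists_top_over {B V : Subgroup G} (hB : IsPGroup 2 B) (hBK : B ≤ K) (hV : IsPGroup 2 V)
    (hVa : V ≤ stabilizer G a) (hVn : V ≤ Subgroup.normalizer (B : Set G)) :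
    ∃ S : Subgroup G, IsTopTwo S a ∧ B ≤ S ∧ V ≤ S := by
  haveI : Fact (Nat.Prime 2) := ⟨Nat.prime_two⟩
  obtain ⟨S, hS, hle⟩ := exists_top_two (hB.to_sup_of_normal_left' hV hVn)
    (sup_le (hBK.trans L.line.stab) hVa)
  exact ⟨S, hS, le_sup_left.trans hle, le_sup_right.trans hle⟩

theorem x_pgroup : IsPGroup 2 (Subgroup.zpowers x) := fun y => by
  refine ⟨1, Subtype.ext ?_⟩
  obtain ⟨n, hn⟩ := Subgroup.mem_zpowers_iff.1 y.2
  rw [pow_one, Subgroup.coe_pow, Subgroup.coe_one, ← hn, ← zpow_natCast, ← zpow_mul,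
    mul_comm, zpow_mul, zpow_natCast, pow_two, L.x_sq, one_zpow]

theorem x_normalizer : x ∈ Subgroup.normalizer (A : Set G) := by
  refine Subgroup.mem_normalizer_iff.2 fun u => ?_
  rw [L.line.x_inv]
  exact ⟨L.conj_x_A, fun hu => by
    have := L.conj_x_A hu
    rwa [show x * (x * u * x) * x = (x * x) * u * (x * x) by group, L.x_sq, one_mul, mul_one]
      at this⟩

theorem zpowers_normalizer : Subgroup.zpowers x ≤ Subgroup.normalizer (A : Set G) :=
  Subgroup.zpowers_le.2 L.x_normalizer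

variable (h : ClosedSetting D Ω) (hnf : NoFull D Ω)
include h hnf

/-- The elements of the point group moving `x` inside `x A` are transitive on the classes. -/
theorem kap_surj (hdat : ∀ d ∈ dat D a, d ∈ K) {r : G} (hr : r ∈ R) : ∃ g ∈ L.moves ⊓ K, kap x i g = r := by
  by_cases hr1 : r = 1
  · exact ⟨1, one_mem _, by rw [L.kap_one, hr1]⟩
  obtain ⟨S, hS, hAS, hxS⟩ := L.exists_top_over L.two L.le L.x_pgroup
    (Subgroup.zpowers_le.2 L.line.x_stab) L.zpowers_normalizer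
  replace hxS := hxS (Subgroup.mem_zpowers x)
  obtain ⟨d, hd, hdS, hxd⟩ : ∃ d ∈ D, d ∈ S ∧ ¬ Commute x d := by
    by_contra hne
    push Not at hne
    exact hnf x ⟨L.line.bad, a, S, hS, hxS, hne⟩
  have hda : d • a = a := mem_stabilizer_iff.1 (hS.2.1 hdS)
  have hlt : ¬ S ⊓ K ≤ A := fun hle => hxd (L.line.comm d (L.invol d
    (hle (Subgroup.mem_inf.2 ⟨hdS, hdat d ⟨hd, hda⟩⟩)) (h.mul_self hd)))
  obtain ⟨g, hg, hgA, hgn, hgd⟩ := exists_growth L.x_sq hxS hS.1
    (fun k hk => L.line.conj_x_mem hk) (L.line.x_notMem h) (le_inf hAS L.le)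
    (fun _ hv => L.conj_x_A hv) hlt
  have hgm : g ∈ L.moves := ⟨mem_stabilizer_iff.1 (hS.2.1 hg.1), hgn, hgd⟩
  have hr0 : kap x i g ≠ 1 := fun e => hgA (L.two_zero h (hS.1.to_le inf_le_left)
    (le_inf hAS L.le) inf_le_right hg hgm e)
  obtain ⟨j, hj, hjr⟩ := L.line.trans_J _ (L.kap_mem hgm) r hr hr0 hr1
  obtain ⟨g₀, hg₀a, hg₀x, hg₀n, hg₀K, hg₀j⟩ := L.torus j hj
  have hm := (L.commute_mem hg₀a hg₀n hg₀x).1
  refine ⟨g₀ * g * g₀⁻¹, Subgroup.mem_inf.2 ⟨mul_mem (mul_mem hm hgm) (inv_mem hm),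
    (Subgroup.mem_normalizer_iff.1 hg₀K g).1 hg.2⟩, ?_⟩
  rw [L.kap_conj hg₀x, hg₀j _ (L.kap_mem hgm), hjr]

omit hnf in
/-- Two elements have the same class exactly if their quotient fixes the trivial one. -/
theorem kap_eq_iff {g k : G} (hg : g ∈ L.moves) (hk : k ∈ L.moves) :
    kap x i g = kap x i k ↔ kap x i (g⁻¹ * k) = 1 := by
  have h1 := L.kap_mul hg (mul_mem (inv_mem hg) hk)
  rw [mul_inv_cancel_left] at h1
  constructor
  · intro e
    rw [← e, left_eq_mul, mul_inv_eq_one, mul_eq_left] at h1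
    exact h1
  · intro e
    rw [h1, e]; group

omit hnf in
/-- The elements of `H` fixing the trivial class. -/
def zeroIn (H : Subgroup G) (hH : H ≤ L.moves) : Subgroup G where
  carrier := {g | g ∈ H ∧ kap x i g = 1}
  one_mem' := ⟨one_mem H, L.kap_one⟩
  mul_mem' := by
    rintro g k ⟨hg, hg1⟩ ⟨hk, hk1⟩
    exact ⟨mul_mem hg hk, by rw [L.kap_mul (hH hg) (hH hk), hg1, hk1]; group⟩
  inv_mem' := by
    rintro g ⟨hg, hg1⟩
    refine ⟨inv_mem hg, ?_⟩
    have h1 := (L.kap_eq_iff h (hH hg) (one_mem _)).1 (hg1.trans L.kap_one.symm)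
    rwa [mul_one] at h1

/-- A regular 2-group in a transitive subgroup `H`, normalised by a 2-group `V` normalising `A`
and `H`. -/
theorem exists_regular {H V : Subgroup G} (hAH : A ≤ H) (hH : H ≤ L.moves ⊓ K)
    (honto : ∀ r ∈ R, ∃ g ∈ H, kap x i g = r) (hV : IsPGroup 2 V)
    (hVA : V ≤ Subgroup.normalizer (A : Set G)) (hVH : V ≤ Subgroup.normalizer (H : Set G)) :
    ∃ B : Subgroup G, IsPGroup 2 B ∧ A ≤ B ∧ B ≤ H ∧ (∀ r ∈ R, ∃ b ∈ B, kap x i b = r) ∧
      V ≤ Subgroup.normalizer (B : Set G) ∧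
      ∀ l : Subgroup G, IsPGroup 2 l → A ≤ l → l ≤ L.moves ⊓ K → Nat.card l ≤ Nat.card B := by
  haveI : Fact (Nat.Prime 2) := ⟨Nat.prime_two⟩
  have hHm : H ≤ L.moves := hH.trans inf_le_left
  have himg : ∀ V : Subgroup G, V ≤ L.moves → kap x i '' (V : Set G) ⊆ R := by
    rintro V hV _ ⟨g, hg, rfl⟩
    exact L.kap_mem (hV hg)
  -- the order of a 2-group over `A`
  have hcard : ∀ V : Subgroup G, IsPGroup 2 V → A ≤ V → V ≤ L.moves ⊓ K →
      Nat.card V = Nat.card A * Nat.card (kap x i '' (V : Set G) : Set G) := by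
    intro V hV hAV hVm
    refine card_fibres hAV _ fun g hg k hk => ?_
    rw [L.kap_eq_iff h (hVm hg).1 (hVm hk).1]
    exact ⟨fun e => L.two_zero h hV hAV (hVm.trans inf_le_right) (mul_mem (inv_mem hg) hk)
      (hVm (mul_mem (inv_mem hg) hk)).1 e, fun e => (L.A_mem e).2⟩
  have hle : ∀ V : Subgroup G, IsPGroup 2 V → A ≤ V → V ≤ L.moves ⊓ K →
      Nat.card V ≤ Nat.card A * Nat.card R := by
    intro V hV hAV hVm
    rw [hcard V hV hAV hVm]
    exact Nat.mul_le_mul_left _ (Nat.card_mono (Set.toFinite _) (himg V (hVm.trans inf_le_left)))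
  have hH' : Nat.card H = Nat.card (L.zeroIn h H hHm) * Nat.card R := by
    rw [card_fibres (S₀ := L.zeroIn h H hHm) (fun g hg => hg.1) (kap x i) fun g hg k hk => by
      rw [L.kap_eq_iff h (hHm hg) (hHm hk)]
      exact ⟨fun e => ⟨mul_mem (inv_mem hg) hk, e⟩, fun e => e.2⟩]
    congr 1
    refine Nat.card_congr (Equiv.setCongr ?_)
    refine Set.Subset.antisymm (himg H hHm) fun r hr => ?_
    obtain ⟨g, hg, e⟩ := honto r hr
    exact ⟨g, hg, e⟩
  -- a Sylow 2-subgroup of `H ⊔ V` containing `A ⊔ V` meets `H` in a Sylow 2-subgroup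
  set W := H ⊔ V with hW
  obtain ⟨P, hP⟩ := ((L.two.to_sup_of_normal_left' hV hVA).comap_subtype (K := W)).exists_le_sylow
  set Q := (P : Subgroup W).map W.subtype with hQ
  have hQmem : ∀ g ∈ A ⊔ V, g ∈ Q := fun g hg =>
    ⟨⟨g, (sup_le (hAH.trans le_sup_left) le_sup_right : A ⊔ V ≤ W) hg⟩,
      hP (Subgroup.mem_subgroupOf.2 hg), rfl⟩
  have hVQ : ∀ g ∈ V, g ∈ Q := fun g hg => hQmem g (Subgroup.mem_sup_right hg)
  set B : Subgroup G := Q ⊓ H with hB
  have hBH : B ≤ H := inf_le_right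
  have hB2 : IsPGroup 2 B := (P.2.map _).to_le inf_le_left
  have hAB : A ≤ B := fun g hg =>
    Subgroup.mem_inf.2 ⟨hQmem g (Subgroup.mem_sup_left hg), hAH hg⟩
  have hVB : V ≤ Subgroup.normalizer (B : Set G) := by
    intro v hv
    refine Subgroup.mem_normalizer_iff.2 fun g => ?_
    have h1 : g ∈ Q ↔ v * g * v⁻¹ ∈ Q := by
      refine ⟨fun hg => mul_mem (mul_mem (hVQ v hv) hg) (inv_mem (hVQ v hv)), fun hg => ?_⟩
      have := mul_mem (mul_mem (inv_mem (hVQ v hv)) hg) (hVQ v hv)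
      rwa [show v⁻¹ * (v * g * v⁻¹) * v = g by group] at this
    show g ∈ Q ∧ g ∈ H ↔ v * g * v⁻¹ ∈ Q ∧ v * g * v⁻¹ ∈ H
    rw [h1, Subgroup.mem_normalizer_iff.1 (hVH hv) g]
  have hBcard : Nat.card B = Nat.card A * Nat.card R := by
    refine le_antisymm (hle B hB2 hAB (hBH.trans hH)) ?_
    obtain ⟨m, hm⟩ := L.two.exists_card_eq
    obtain ⟨n, hn⟩ := L.line.R_pgroup.exists_card_eq
    have hdvd : Nat.card A * Nat.card R ∣ Nat.card H := by
      rw [hH']
      exact mul_dvd_mul_right (Subgroup.card_dvd_of_le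
        (show A ≤ L.zeroIn h H hHm from fun g hg => ⟨hAH hg, (L.A_mem hg).2⟩)) _
    obtain ⟨P'⟩ : Nonempty (Sylow 2 H) := inferInstance
    have h2 : Nat.card A * Nat.card R ∣ Nat.card (P' : Subgroup H) := by
      rw [hm, hn, ← pow_add] at hdvd ⊢
      exact P'.pow_dvd_card_of_pow_dvd_card hdvd
    -- conjugate `P'` into `P`
    set P₁ := ((P' : Subgroup H).map H.subtype).subgroupOf W with hP₁
    obtain ⟨P'', hP''⟩ := ((P'.2.map H.subtype).comap_subtype (K := W)).exists_le_sylow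
    obtain ⟨l, hl⟩ := exists_smul_eq W P'' P
    have hHn : ∀ k : W, ∀ g ∈ H, (k : G) * g * (k : G)⁻¹ ∈ H := fun k g hg =>
      (Subgroup.mem_normalizer_iff.1 ((sup_le Subgroup.le_normalizer hVH :
        W ≤ Subgroup.normalizer (H : Set G)) k.2) g).1 hg
    have hsub : ∀ g ∈ (P' : Subgroup H).map H.subtype, (l : G) * g * (l : G)⁻¹ ∈ B := by
      intro g hg
      have hgH : g ∈ H := Subgroup.map_subtype_le _ hg
      refine Subgroup.mem_inf.2 ⟨⟨l * ⟨g, Subgroup.mem_sup_left hgH⟩ * l⁻¹, ?_, rfl⟩, hHn l g hgH⟩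
      have h1 : l * (⟨g, Subgroup.mem_sup_left hgH⟩ : W) * l⁻¹ ∈ (l • P'' : Sylow 2 W) := by
        rw [Sylow.smul_def]
        exact ⟨_, hP'' (Subgroup.mem_subgroupOf.2 hg), rfl⟩
      rwa [hl] at h1
    have h3 : Nat.card ((P' : Subgroup H).map H.subtype) ≤ Nat.card B :=
      Nat.card_le_card_of_injective
        (fun g => (⟨(l : G) * g * (l : G)⁻¹, hsub g g.2⟩ : B))
        fun g k e => Subtype.ext (mul_left_cancel (mul_right_cancel (congrArg Subtype.val e)))
    rw [Subgroup.card_map_of_injective H.subtype_injective] at h3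
    exact (Nat.le_of_dvd Nat.card_pos h2).trans h3
  refine ⟨B, hB2, hAB, hBH, fun r hr => ?_, hVB, fun l hl hAl hlm => hBcard ▸ hle l hl hAl hlm⟩
  have h1 := hcard B hB2 hAB (hBH.trans hH)
  rw [hBcard] at h1
  have h2 : kap x i '' (B : Set G) = (R : Set G) :=
    Set.eq_of_subset_of_ncard_le (himg B (hBH.trans hHm)) (by
      rw [← Nat.card_coe_set_eq, ← Nat.card_coe_set_eq]
      exact (Nat.eq_of_mul_eq_mul_left Nat.card_pos h1).le) (Set.toFinite _)
  rw [← SetLike.mem_coe, ← h2] at hr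
  obtain ⟨b, hb, e⟩ := hr
  exact ⟨b, hb, e⟩

omit hnf in
theorem kap_prod {g k : G} (hg : g ∈ L.moves) (hk : k ∈ L.moves) (m : ∀ r ∈ R, ∀ s ∈ R,
    r * s = s * r := fun r hr s hs => (L.comm r (L.R_le hr) s (L.R_le hs)).eq) :
    kap x i (g * k) = g * kap x i k * g⁻¹ * kap x i g := by
  rw [L.kap_mul hg hk, m _ (L.kap_mem hg) _ (L.conj_mem_R hg (L.kap_mem hk))]

/-- An involution outside `A` and an element inverted by `x` outside `A` exclude each other. -/
theorem not_both {B : Subgroup G} (hB : IsPGroup 2 B) (hAB : A ≤ B) (hBm : B ≤ L.moves ⊓ K)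
    (honto : ∀ r ∈ R, ∃ b ∈ B, kap x i b = r) {e t : G} (heB : e ∈ B) (heA : e ∉ A)
    (hee : e * e = 1) (htB : t ∈ B) (htA : t ∉ A) (ht : x * t * x = t⁻¹) : False := by
  haveI : Fact (Nat.Prime 2) := ⟨Nat.prime_two⟩
  have htm := (hBm htB).1
  have hem := (hBm heB).1
  have hdt : disp x t = t⁻¹ * t⁻¹ := by rw [disp, ht]
  have htt : t * t ∈ A := by
    have := inv_mem htm.2.2
    rwa [hdt, mul_inv_rev, inv_inv] at this
  set v := kap x i t with hv
  have hv1 : v ≠ 1 := fun e => htA (L.two_zero h hB hAB (hBm.trans inf_le_right) htB htm e)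
  have hvR : v ∈ R := L.kap_mem htm
  have hR2 : ∀ r ∈ R, r⁻¹ = r := fun r hr => inv_eq_of_mul_eq_one_right (L.line.sq r hr)
  have hRc : ∀ r ∈ R, ∀ s ∈ R, r * s = s * r := fun r hr s hs =>
    (L.comm r (L.R_le hr) s (L.R_le hs)).eq
  have htv : t * v * t⁻¹ = v := by
    rw [hv, kap, hdt, ← conj_pow]; congr 1; group
  -- a conjugate of `e` with the class of `t`
  obtain ⟨j, hj, hjr⟩ := L.line.trans_J _ (L.kap_mem hem) v hvR
    (fun h1 => heA (L.two_zero h hB hAB (hBm.trans inf_le_right) heB hem h1)) hv1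
  obtain ⟨g₀, hg₀a, hg₀x, hg₀n, hg₀K, hg₀j⟩ := L.torus j hj
  set e' := g₀ * e * g₀⁻¹ with he'
  have hg₀m := (L.commute_mem hg₀a hg₀n hg₀x).1
  have he'm : e' ∈ L.moves := mul_mem (mul_mem hg₀m hem) (inv_mem hg₀m)
  have he'K : e' ∈ K := (Subgroup.mem_normalizer_iff.1 hg₀K e).1 (hBm heB).2
  have hke' : kap x i e' = v := by rw [he', L.kap_conj hg₀x, hg₀j _ (L.kap_mem hem), hjr]
  have hee' : e' * e' = 1 := by
    rw [he', show g₀ * e * g₀⁻¹ * (g₀ * e * g₀⁻¹) = g₀ * (e * e) * g₀⁻¹ by group, hee]; group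
  have he'v : e' * v * e'⁻¹ = v := by
    have h1 := L.kap_mul he'm he'm
    rw [hee', L.kap_one, hke'] at h1
    calc e' * v * e'⁻¹ = v⁻¹ * 1 := by rw [eq_comm, inv_mul_eq_iff_eq_mul]; exact h1
      _ = v := by rw [mul_one, hR2 v hvR]
  -- the elements preserving the pair of classes `1, v`
  let P₂ : Subgroup G :=
    { carrier := {g | g ∈ L.moves ⊓ K ∧ g * v * g⁻¹ = v ∧ (kap x i g = 1 ∨ kap x i g = v)}
      one_mem' := ⟨one_mem _, by group, Or.inl L.kap_one⟩
      mul_mem' := by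
        rintro g k ⟨hg, hgv, hg1⟩ ⟨hk, hkv, hk1⟩
        refine ⟨mul_mem hg hk, ?_, ?_⟩
        · rw [show g * k * v * (g * k)⁻¹ = g * (k * v * k⁻¹) * g⁻¹ by group, hkv, hgv]
        · rw [L.kap_mul hg.1 hk.1]
          rcases hk1 with hk1 | hk1 <;> rw [hk1]
          · simpa using hg1
          · rw [hgv]
            rcases hg1 with hg1 | hg1 <;> rw [hg1]
            · exact Or.inr (one_mul v)
            · exact Or.inl (L.line.sq v hvR)
      inv_mem' := by
        rintro g ⟨hg, hgv, hg1⟩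
        have hiv : g⁻¹ * v * g⁻¹⁻¹ = v := by
          conv_lhs => rw [← hgv]
          group
        refine ⟨inv_mem hg, hiv, ?_⟩
        have h1 := L.kap_mul (inv_mem hg.1) hg.1
        rw [inv_mul_cancel, L.kap_one] at h1
        rcases hg1 with hg1 | hg1 <;> rw [hg1] at h1
        · refine Or.inl ?_
          simpa using h1.symm
        · rw [hiv] at h1
          refine Or.inr ?_
          rw [eq_inv_of_mul_eq_one_left h1.symm, hR2 v hvR] }
  have hP₂m : P₂ ≤ L.moves ⊓ K := fun g hg => hg.1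
  have htP : t ∈ P₂ := ⟨hBm htB, htv, Or.inr rfl⟩
  have he'P : e' ∈ P₂ := ⟨Subgroup.mem_inf.2 ⟨he'm, he'K⟩, he'v, Or.inr hke'⟩
  have hAP : A ≤ P₂ := fun u hu =>
    ⟨hBm (hAB hu), by rw [(L.comm u hu v (L.R_le hvR)).eq, mul_inv_cancel_right],
      Or.inl (L.A_mem hu).2⟩
  obtain ⟨P, hP⟩ := ((hB.to_le (inf_le_left : B ⊓ P₂ ≤ B)).comap_subtype (K := P₂)).exists_le_sylow
  obtain ⟨Q, hQ⟩ :=
    (show IsPGroup 2 (Subgroup.zpowers (⟨e', he'P⟩ : P₂)) from fun y => by
      refine ⟨1, Subtype.ext ?_⟩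
      obtain ⟨n, hn⟩ := Subgroup.mem_zpowers_iff.1 y.2
      rw [pow_one, Subgroup.coe_pow, Subgroup.coe_one, ← hn, ← zpow_natCast, ← zpow_mul,
        mul_comm, zpow_mul, zpow_natCast, pow_two,
        show (⟨e', he'P⟩ : P₂) * ⟨e', he'P⟩ = 1 from Subtype.ext hee', one_zpow]).exists_le_sylow
  obtain ⟨l, hl⟩ := exists_smul_eq P₂ Q P
  have hlP : (l : G) * e' * (l : G)⁻¹ ∈ (P : Subgroup P₂).map P₂.subtype := by
    refine ⟨l * ⟨e', he'P⟩ * l⁻¹, ?_, rfl⟩
    have h1 : l * (⟨e', he'P⟩ : P₂) * l⁻¹ ∈ (l • Q : Sylow 2 P₂) := by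
      rw [Sylow.smul_def]
      exact ⟨_, hQ (Subgroup.mem_zpowers _), rfl⟩
    rwa [hl] at h1
  set V := (P : Subgroup P₂).map P₂.subtype with hV
  have hV2 : IsPGroup 2 V := P.2.map _
  have hVm : V ≤ L.moves ⊓ K := (Subgroup.map_subtype_le _).trans hP₂m
  have hBV : ∀ g ∈ B, ∀ hg : g ∈ P₂, g ∈ V := fun g hg hg' =>
    ⟨⟨g, hg'⟩, hP (Subgroup.mem_subgroupOf.2 (Subgroup.mem_inf.2 ⟨hg, hg'⟩)), rfl⟩
  have hAV : A ≤ V := fun u hu => hBV u (hAB hu) (hAP hu)
  have htV : t ∈ V := hBV t htB htP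
  set e'' := (l : G) * e' * (l : G)⁻¹ with he''
  have he''2 : e'' * e'' = 1 := by
    rw [he'', show (l : G) * e' * (l : G)⁻¹ * ((l : G) * e' * (l : G)⁻¹)
      = (l : G) * (e' * e') * (l : G)⁻¹ by group, hee']; group
  have hk'' : kap x i e'' = v := by
    have hlm := (hP₂m l.2).1
    obtain ⟨-, hlv, hl1⟩ := (l.2 : (l : G) ∈ P₂)
    obtain ⟨-, hliv, hli1⟩ := inv_mem (l.2 : (l : G) ∈ P₂)
    have hl2 : kap x i (l : G)⁻¹ = kap x i (l : G) := by
      have h1 := L.kap_mul hlm (inv_mem hlm)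
      rw [mul_inv_cancel, L.kap_one] at h1
      rcases hl1 with hl1 | hl1 <;> rcases hli1 with hli1 | hli1 <;> rw [hl1, hli1] at h1 ⊢
      · exact absurd (by simpa [hlv] using h1.symm) hv1
      · exact absurd (by simpa using h1.symm) hv1
    rw [he'', L.kap_mul (mul_mem hlm he'm) (inv_mem hlm), L.kap_mul hlm he'm, hke', hlv, hl2,
      show (l : G) * e' * kap x i (l : G) * ((l : G) * e')⁻¹
        = (l : G) * (e' * kap x i (l : G) * e'⁻¹) * (l : G)⁻¹ by group]
    rcases hl1 with hl1 | hl1 <;> rw [hl1]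
    · group
    · rw [he'v, hlv, L.line.sq v hvR, one_mul]
  have he''m : e'' ∈ L.moves := (hVm hlP).1
  set w := t⁻¹ * e'' with hw
  have hwA : w ∈ A := L.two_zero h hV2 hAV (hVm.trans inf_le_right)
    (mul_mem (inv_mem htV) hlP) (mul_mem (inv_mem htm) he''m)
    ((L.kap_eq_iff h htm he''m).1 hk''.symm)
  -- the class `r` of `w` is fixed by `t`
  set r := w ^ 2 ^ i with hr
  have hrR : r ∈ R := L.pow_mem_R hwA
  have htw : t⁻¹ * w * t ∈ A := by
    have := (Subgroup.mem_normalizer_iff.1 (inv_mem htm.2.1) w).1 hwA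
    rwa [inv_inv] at this
  have hkey : v = t * r * t⁻¹ * r := by
    have h1 : t⁻¹ * t⁻¹ = t⁻¹ * w * t * w := by
      calc t⁻¹ * t⁻¹ = t⁻¹ * t⁻¹ * (e'' * e'') := by rw [he''2, mul_one]
        _ = t⁻¹ * (t⁻¹ * e'') * t * (t⁻¹ * e'') := by group
        _ = _ := by rw [hw]
    have h2 : t⁻¹ * r * t = t * r * t⁻¹ := by
      have h3 := (L.comm (t * t) htt r (L.R_le hrR)).eq
      calc t⁻¹ * r * t = t⁻¹ * (r * (t * t)) * t⁻¹ := by group
        _ = t⁻¹ * ((t * t) * r) * t⁻¹ := by rw [h3]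
        _ = _ := by group
    rw [hv, kap, hdt, h1, (L.comm _ htw w hwA).mul_pow, ← hr]
    have : (t⁻¹ * w * t) ^ 2 ^ i = t⁻¹ * r * t := by
      rw [hr]
      simpa using (conj_pow (i := 2 ^ i) (a := t⁻¹) (b := w))
    rw [this, h2]
  -- so `t` fixes a class moved by nothing of `B` outside `A`
  obtain ⟨b, hbB, hbr⟩ := honto r hrR
  have hbm := (hBm hbB).1
  have htb : kap x i (t * b) = r := by
    rw [L.kap_mul htm hbm, hbr, ← hv, hkey,
      mul_assoc, hRc r hrR _ (L.conj_mem_R htm hrR), ← mul_assoc, L.line.sq _ (L.conj_mem_R htm hrR),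
      one_mul]
  have h1 : b⁻¹ * (t * b) ∈ A := L.two_zero h hB hAB (hBm.trans inf_le_right)
    (mul_mem (inv_mem hbB) (mul_mem htB hbB)) (mul_mem (inv_mem hbm) (mul_mem htm hbm))
    ((L.kap_eq_iff h hbm (mul_mem htm hbm)).1 (hbr.trans htb.symm))
  have h2 := (Subgroup.mem_normalizer_iff.1 hbm.2.1 _).1 h1
  exact htA (by rwa [show b * (b⁻¹ * (t * b)) * b⁻¹ = t by group] at h2)

/-- One class, if the normaliser of `B` moves `x` only inside `x A`. -/
theorem oneClass_of_good (hK : PointGroup D a K) {B V : Subgroup G} (hB : IsPGroup 2 B) (hAB : A ≤ B)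
    (hBm : B ≤ L.moves ⊓ K) (honto : ∀ r ∈ R, ∃ b ∈ B, kap x i b = r)
    (hV : IsPGroup 2 V) (hVa : V ≤ stabilizer G a) (hxV : x ∈ V)
    (hVB : V ≤ Subgroup.normalizer (B : Set G))
    (hgood : ∀ g : G, g • a = a → g ∈ Subgroup.normalizer (B : Set G) → disp x g ∈ B →
      disp x g ∈ A) :
    ∃ S : Subgroup G, IsTopTwo S a ∧ x ∈ S ∧ R ≤ S ∧ V ≤ S ∧ OneClass K S x ∧ S ⊓ K ≤ B := by
  have hBn : ∀ v ∈ B, x * v * x ∈ B := by
    intro v hv
    have h1 := mul_mem (hAB (hBm hv).1.2.2) hv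
    rwa [show disp x v * v = x * v * x by simp only [disp]; group] at h1
  obtain ⟨S, hS, hBS, hVS⟩ := L.exists_top_over hB (hBm.trans inf_le_right) hV hVa hVB
  have hxS : x ∈ S := hVS hxV
  -- a conjugate of `x` inside `x A` is a conjugate by `B`
  have key : ∀ g : G, disp x g ∈ A →
      ∃ b ∈ B, b * x * b⁻¹ = g * x * g⁻¹ := by
    intro g hg
    obtain ⟨b, hb, hbe⟩ := honto _ (L.pow_mem_R hg)
    have hbm := (hBm hb).1.2.2
    obtain ⟨w, hw, hwe⟩ := L.exists_sq (mul_mem (inv_mem hbm) hg) (by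
      rw [(L.comm _ (inv_mem hbm) _ hg).mul_pow, inv_pow]
      exact inv_mul_eq_one.2 hbe)
    refine ⟨w⁻¹ * b, mul_mem (inv_mem (hAB hw)) hb, ?_⟩
    have hd : disp x (w⁻¹ * b) = disp x g := by
      have e1 : disp x w⁻¹ = w * w := by rw [disp, L.inv _ (inv_mem hw), inv_inv]
      have e2 : w⁻¹ * disp x b * w⁻¹⁻¹ = disp x b := by
        rw [(L.comm _ (inv_mem hw) _ hbm).eq, mul_inv_cancel_right]
      rw [L.disp_mul, e1, e2, (L.comm (w * w) (mul_mem hw hw) _ hbm).eq, hwe, mul_inv_cancel_left]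
    calc w⁻¹ * b * x * (w⁻¹ * b)⁻¹ = (x * x) * (w⁻¹ * b) * x * (w⁻¹ * b)⁻¹ := by
          rw [L.x_sq, one_mul]
      _ = x * disp x (w⁻¹ * b) := by simp only [disp]; group
      _ = (x * x) * g * x * g⁻¹ := by rw [hd]; simp only [disp]; group
      _ = _ := by rw [L.x_sq, one_mul]
  have hTB : S ⊓ K ≤ B := by
    by_contra hlt
    obtain ⟨g, hg, hgB, hgn, hgd⟩ := exists_growth L.x_sq hxS hS.1
      (fun k hk => L.line.conj_x_mem hk) (L.line.x_notMem h) (le_inf hBS (hBm.trans inf_le_right))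
      hBn hlt
    obtain ⟨b, hb, hbe⟩ := key g (hgood g (mem_stabilizer_iff.1 (hS.2.1 hg.1)) hgn hgd)
    have hc : Commute x (b⁻¹ * g) := by
      have e : (b⁻¹ * g) * x * (b⁻¹ * g)⁻¹ = x := by
        calc (b⁻¹ * g) * x * (b⁻¹ * g)⁻¹ = b⁻¹ * (g * x * g⁻¹) * b := by group
          _ = x := by rw [← hbe]; group
      exact (mul_inv_eq_iff_eq_mul.1 e).symm
    have hr := L.line.mem_of_commute h (hS.1.to_le (inf_le_left : S ⊓ K ≤ S)) inf_le_right
      (fun r hr => Subgroup.mem_inf.2 ⟨hBS (hAB (L.R_le hr)), L.le (L.R_le hr)⟩)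
      (mul_mem (inv_mem (Subgroup.mem_inf.2 ⟨hBS hb, (hBm hb).2⟩)) hg) hc
    exact hgB (by rw [show g = b * (b⁻¹ * g) by group]; exact mul_mem hb (hAB (L.R_le hr)))
  refine ⟨S, hS, hxS, fun r hr => hBS (hAB (L.R_le hr)), hVS, ?_, hTB⟩
  rintro s hs ⟨t, ht, hst⟩
  have hsd : disp x s = t := by
    calc disp x s = x * (s * x * s⁻¹) := by simp only [disp]; group
      _ = t := by rw [hst, ← mul_assoc, L.x_sq, one_mul]
  have hsa : s • a = a := mem_stabilizer_iff.1 (hS.2.1 hs)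
  have hKs : ∀ g : G, g • a = a → ∀ k ∈ K, g * k * g⁻¹ ∈ K := fun g hg k hk =>
    hK.conj g (mem_stabilizer_iff.2 hg) k hk
  have hsn : s ∈ Subgroup.normalizer (B : Set G) := by
    refine Subgroup.mem_normalizer_iff.2 fun v => ⟨fun hv => hTB (Subgroup.mem_inf.2
      ⟨mul_mem (mul_mem hs (hBS hv)) (inv_mem hs), hKs s hsa v (hBm hv).2⟩), fun hv => ?_⟩
    have h1 := hKs s⁻¹ (inv_smul_eq_iff.2 hsa.symm) _ (hBm hv).2
    rw [inv_inv, show s⁻¹ * (s * v * s⁻¹) * s = v by group] at h1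
    refine hTB (Subgroup.mem_inf.2 ⟨?_, h1⟩)
    have := mul_mem (mul_mem (inv_mem hs) (hBS hv)) hs
    rwa [show s⁻¹ * (s * v * s⁻¹) * s = v by group] at this
  obtain ⟨b, hb, hbe⟩ := key s (hgood s hsa hsn (hsd ▸ hTB ht))
  exact ⟨b, Subgroup.mem_inf.2 ⟨hBS hb, (hBm hb).2⟩, hbe⟩

/-- If no element outside `A` inverted by `x` centralises `R`, there is one class. -/
theorem oneClass_of_not (hK : PointGroup D a K) (hno : ∀ t ∈ L.moves ⊓ K, x * t * x = t⁻¹ →
      (∀ r ∈ R, Commute t r) → kap x i t = 1)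
    {H V : Subgroup G} (hAH : A ≤ H) (hH : H ≤ L.moves ⊓ K)
    (hHonto : ∀ r ∈ R, ∃ g ∈ H, kap x i g = r) (hV : IsPGroup 2 V) (hVa : V ≤ stabilizer G a)
    (hxV : x ∈ V) (hVA : V ≤ Subgroup.normalizer (A : Set G))
    (hVH : V ≤ Subgroup.normalizer (H : Set G)) :
    ∃ S : Subgroup G, IsTopTwo S a ∧ x ∈ S ∧ R ≤ S ∧ V ≤ S ∧ OneClass K S x ∧ S ⊓ K ≤ H := by
  obtain ⟨B, hB, hAB, hBH, honto, hVB, -⟩ := L.exists_regular h hnf hAH hH hHonto hV hVA hVH
  have hBm : B ≤ L.moves ⊓ K := hBH.trans hH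
  suffices hgood : ∀ g : G, g • a = a → g ∈ Subgroup.normalizer (B : Set G) → disp x g ∈ B →
      disp x g ∈ A by
    obtain ⟨S, h1, h2, h3, h4, h5, h6⟩ := L.oneClass_of_good h hnf hK hB hAB hBm honto hV hVa hxV hVB hgood
    exact ⟨S, h1, h2, h3, h4, h5, h6.trans hBH⟩
  intro g hga hgn hgB
  by_contra hpA
  have hp : x * disp x g * x = (disp x g)⁻¹ := by
    have h1 : (g * x * g⁻¹) * (g * x * g⁻¹) = 1 := by
      rw [show g * x * g⁻¹ * (g * x * g⁻¹) = g * (x * x) * g⁻¹ by group, L.x_sq]; group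
    have h2 : g * x * g⁻¹ = x * disp x g := by
      calc g * x * g⁻¹ = (x * x) * g * x * g⁻¹ := by rw [L.x_sq, one_mul]
        _ = _ := by simp only [disp]; group
    rw [h2, ← mul_assoc] at h1
    exact eq_inv_of_mul_eq_one_left h1
  have hiso : ∀ e ∈ B, e * e = 1 → e ∈ A := fun e he hee => by
    by_contra heA
    exact L.not_both h hnf hB hAB hBm honto he heA hee hgB hpA hp
  have hgR : ∀ k : G, k ∈ Subgroup.normalizer (B : Set G) → ∀ r ∈ R, k * r * k⁻¹ ∈ R := by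
    intro k hk r hr
    have hsq : k * r * k⁻¹ * (k * r * k⁻¹) = 1 := by
      rw [show k * r * k⁻¹ * (k * r * k⁻¹) = k * (r * r) * k⁻¹ by group, L.line.sq r hr]; group
    exact L.invol _ (hiso _ ((Subgroup.mem_normalizer_iff.1 hk r).1 (hAB (L.R_le hr))) hsq) hsq
  have hcomm : ∀ r ∈ R, Commute (disp x g) r := by
    intro r hr
    have hr' := hgR g⁻¹ (inv_mem hgn) r hr
    rw [inv_inv] at hr'
    have h1 : Commute (g * x * g⁻¹) r := by
      have := (L.line.comm _ hr').map (MulAut.conj g).toMonoidHom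
      simpa [mul_assoc] using this
    have h2 : disp x g = x * (g * x * g⁻¹) := by simp only [disp]; group
    exact h2 ▸ ((L.line.comm r hr).mul_left h1)
  exact hpA (L.two_zero h hB hAB (hBm.trans inf_le_right) hgB (hBm hgB).1
    (hno _ (hBm hgB) hp hcomm))

end Level

end CfsgLib.LocalEven.OnePointFront.Nonfull
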