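import Cfsg.Agent.Lib.LocalEven.OnePointFront.Nonfull.Linear.Data
import Mathlib.GroupTheory.Sylow

/-!
# The levels of the tower over a bad involution with a linear line

A level is a homocyclic group `A` of members' squares inverted by the bad involution `x`, with
`R` as its elements of order at most two.  The elements normalising `A` and moving `x` inside `x A`
act on the classes `A / A²`, which are identified with `R` by the power map; `kap` is the image of
the trivial class.  Of the line only `TransLine` is used: linear lines have it, and so do curved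
lines whose group `Q` is not in the point group.
-/

set_option autoImplicit false
set_option linter.style.haveILetI false
set_option linter.unusedSectionVars false

namespace CfsgLib.LocalEven.OnePointFront.Nonfull

open MulAction CfsgLib.LocalEven.TIEndgame CfsgLib.Involution

universe u v

variable {G : Type u} {Ω : Type v} [Group G] [MulAction G Ω] {D : Set G} {a : Ω} {x : G}
  {K R J A : Subgroup G} {i : ℕ}

/-- What the tower over `x` uses of a line: a torus, and `R` is the part of `x`'s centraliser in the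
2-subgroups of `K` containing it. -/
structure TransLine (D : Set G) (a : Ω) (x : G) (K R J : Subgroup G) : Prop where
  bad : IsBad Ω x
  fix : x • a = a
  stab : K ≤ stabilizer G a
  R_le : R ≤ K
  x_out : ClosedSetting D Ω → x ∉ K
  /-- `K` need not be normal in the stabiliser -/
  x_norm : x ∈ Subgroup.normalizer (K : Set G)
  norm_K : J ≤ Subgroup.normalizer (K : Set G)
  four : 4 ≤ Nat.card R
  sq : ∀ r ∈ R, r * r = 1
  member : ∀ r ∈ R, r ≠ 1 → r ∈ dat D a
  comm : ∀ r ∈ R, Commute x r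
  fix_J : ∀ j ∈ J, j • a = a
  comm_J : ∀ j ∈ J, Commute x j
  norm_J : J ≤ Subgroup.normalizer (R : Set G)
  abel_J : ∀ i ∈ J, ∀ j ∈ J, ∀ r ∈ R, i * (j * r * j⁻¹) * i⁻¹ = j * (i * r * i⁻¹) * j⁻¹
  trans_J : ∀ r ∈ R, ∀ s ∈ R, r ≠ 1 → s ≠ 1 → ∃ j ∈ J, j * r * j⁻¹ = s
  /-- `R` is the centraliser of `x` in the 2-subgroups of `K` containing it -/
  mem_R : ClosedSetting D Ω → ∀ V : Subgroup G, IsPGroup 2 V → V ≤ K → R ≤ V →
    ∀ g ∈ V, Commute x g → g ∈ R

namespace TransLine

variable (L : TransLine D a x K R J)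
include L

theorem sq_x : x * x = 1 := Dihedral.mul_self L.bad.1

theorem x_inv : x⁻¹ = x := inv_eq_of_mul_eq_one_right L.sq_x

theorem x_stab : x ∈ stabilizer G a := mem_stabilizer_iff.2 L.fix

theorem R_pgroup : IsPGroup 2 R := fun r =>
  ⟨1, Subtype.ext (by simpa [pow_two] using L.sq r r.2)⟩

/-- A 2-element of the point group centralising `x` lies in `R`. -/
theorem mem_of_commute (h : ClosedSetting D Ω) {V : Subgroup G} (hV : IsPGroup 2 V)
    (hVK : V ≤ K) (hRV : R ≤ V) {g : G} (hg : g ∈ V) (hgx : Commute x g) : g ∈ R :=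
  L.mem_R h V hV hVK hRV g hg hgx

theorem comm_R {r s : G} (hr : r ∈ R) (hs : s ∈ R) : Commute r s := by
  have hi : ∀ z ∈ R, z⁻¹ = z := fun z hz => inv_eq_of_mul_eq_one_right (L.sq z hz)
  show r * s = s * r
  calc r * s = (r * s)⁻¹ := (hi _ (mul_mem hr hs)).symm
    _ = s⁻¹ * r⁻¹ := mul_inv_rev r s
    _ = s * r := by rw [hi r hr, hi s hs]

end TransLine

/-- An element at the point normalises the point group. -/
theorem _root_.CfsgLib.LocalEven.OnePointFront.PointGroup.mem_normalizer (hK : PointGroup D a K) {g : G} (hg : g • a = a) :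
    g ∈ Subgroup.normalizer (K : Set G) :=
  Subgroup.mem_normalizer_iff.2 fun k => ⟨hK.conj g (mem_stabilizer_iff.2 hg) k, fun hk => by
    have := hK.conj g⁻¹ (inv_mem (mem_stabilizer_iff.2 hg)) _ hk
    rwa [show g⁻¹ * (g * k * g⁻¹) * g⁻¹⁻¹ = k by group] at this⟩

namespace LinearLine

variable (L : LinearLine D a x K R J)
include L

theorem sq_x : x * x = 1 := Dihedral.mul_self L.bad.1

theorem x_inv : x⁻¹ = x := inv_eq_of_mul_eq_one_right L.sq_x

theorem x_stab : x ∈ stabilizer G a := mem_stabilizer_iff.2 L.fix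

theorem R_le : R ≤ K := fun r hr => by
  by_cases hr1 : r = 1
  · exact hr1 ▸ one_mem K
  · exact L.point.dat_le r (L.member r hr hr1)

theorem R_pgroup : IsPGroup 2 R := fun r =>
  ⟨1, Subtype.ext (by simpa [pow_two] using L.sq r r.2)⟩

/-- A member-free 2-element of the point group centralising `x` lies in `R`. -/
theorem mem_of_commute (h : ClosedSetting D Ω) {V : Subgroup G} (hV : IsPGroup 2 V)
    (hVK : V ≤ K) (hRV : R ≤ V) {g : G} (hg : g ∈ V) (hgx : Commute x g) : g ∈ R := by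
  obtain ⟨-, p, q, hpq, hp, hq⟩ := id L.bad
  obtain ⟨b, hb, hba⟩ : ∃ b, x • b = b ∧ b ≠ a := by
    by_cases hpa : p = a
    · exact ⟨q, hq, fun e => hpq (hpa.trans e.symm)⟩
    · exact ⟨p, hp, hpa⟩
  have hga : g • a = a := mem_stabilizer_iff.1 (L.point.le (hVK hg))
  have hfix : x • g • b = g • b := by rw [smul_smul, hgx.eq, mul_smul, hb]
  have hne : g • b ≠ a := fun e => hba (smul_left_cancel g (e.trans hga.symm))
  obtain ⟨r, hr, hrb⟩ := L.trans b (g • b) hb hfix hba hne
  have hw : r⁻¹ * g ∈ V := mul_mem (inv_mem (hRV hr)) hg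
  have hwb : (r⁻¹ * g) • b = b := by rw [mul_smul, inv_smul_eq_iff, hrb]
  suffices r⁻¹ * g = 1 by rwa [← inv_mul_eq_one.1 this]
  by_contra hw1
  haveI : Fact (Nat.Prime 2) := ⟨Nat.prime_two⟩
  obtain ⟨k, hk⟩ : ∃ k, orderOf (r⁻¹ * g) = 2 ^ k := by
    obtain ⟨n, hn⟩ := hV ⟨_, hw⟩
    obtain ⟨k, -, hk⟩ := (Nat.dvd_prime_pow Nat.prime_two).1 (orderOf_dvd_of_pow_eq_one hn)
    exact ⟨k, (Subgroup.orderOf_coe (⟨_, hw⟩ : V)).trans hk⟩
  obtain ⟨m, rfl⟩ : ∃ m, k = m + 1 := Nat.exists_eq_succ_of_ne_zero fun e => hw1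
    (orderOf_eq_one_iff.1 (by rw [hk, e, pow_zero]))
  have ho : orderOf ((r⁻¹ * g) ^ 2 ^ m) = 2 := by
    rw [orderOf_pow_of_dvd (by positivity) ⟨2, by rw [hk, pow_succ]⟩, hk,
      Nat.div_eq_of_eq_mul_left (by positivity) (by rw [pow_succ, mul_comm])]
  have hd := L.point.invol_mem _ (hVK (pow_mem hw _)) ho
  have hfb : ((r⁻¹ * g) ^ 2 ^ m) • b = b :=
    mem_stabilizer_iff.1 (pow_mem (mem_stabilizer_iff.2 hwb) _)
  exact hba (h.fixed_unique _ hd.1 b a hfb hd.2)

/-- A linear line is a line for the tower. -/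
theorem transLine : TransLine D a x K R J :=
  { bad := L.bad
    fix := L.fix
    stab := L.point.le
    R_le := L.R_le
    x_out := fun h hk => by
      obtain ⟨-, p, q, hpq, hp, hq⟩ := id L.bad
      exact hpq (h.fixed_unique x (L.point.invol_mem x hk L.bad.1).1 p q hp hq)
    x_norm := L.point.mem_normalizer L.fix
    norm_K := fun j hj => L.point.mem_normalizer (L.fix_J j hj)
    four := L.four
    sq := L.sq
    member := L.member
    comm := L.comm
    fix_J := L.fix_J
    comm_J := L.comm_J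
    norm_J := L.norm_J
    abel_J := L.abel_J
    trans_J := L.trans_J
    mem_R := fun h _ hV hVK hRV _ hg hgx => L.mem_of_commute h hV hVK hRV hg hgx }

end LinearLine

/-- How far `g` moves `x`: `g x g⁻¹ = x * disp x g`. -/
def disp (x g : G) : G := x * g * x * g⁻¹

/-- A level of the tower over the bad involution `x`. -/
structure Level (D : Set G) (a : Ω) (x : G) (K R J A : Subgroup G) (i : ℕ) : Prop where
  line : TransLine D a x K R J
  le : A ≤ K
  two : IsPGroup 2 A
  R_le : R ≤ A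
  comm : ∀ u ∈ A, ∀ v ∈ A, Commute u v
  inv : ∀ u ∈ A, x * u * x = u⁻¹
  invol : ∀ u ∈ A, u * u = 1 → u ∈ R
  root : ∀ r ∈ R, ∃ u ∈ A, u ^ 2 ^ i = r
  exp : ∀ u ∈ A, u ^ 2 ^ (i + 1) = 1
  torus : ∀ j ∈ J, ∃ g : G, g • a = a ∧ Commute x g ∧ g ∈ Subgroup.normalizer (A : Set G) ∧
    g ∈ Subgroup.normalizer (K : Set G) ∧ ∀ r ∈ R, g * r * g⁻¹ = j * r * j⁻¹

/-- The first level is `R`. -/
theorem TransLine.level_zero (L : TransLine D a x K R J) : Level D a x K R J R 0 where
  line := L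
  le := L.R_le
  two := L.R_pgroup
  R_le := le_rfl
  comm u hu v hv := L.comm_R hu hv
  inv u hu := by
    rw [(L.comm u hu).eq, mul_assoc, L.sq_x, mul_one, inv_eq_of_mul_eq_one_right (L.sq u hu)]
  invol u hu _ := hu
  root r hr := ⟨r, hr, by simp⟩
  exp u hu := by simpa [pow_two] using L.sq u hu
  torus j hj := ⟨j, L.fix_J j hj, L.comm_J j hj, L.norm_J hj, L.norm_K hj, fun _ _ => rfl⟩

/-- The first level of a linear line. -/
theorem LinearLine.level_zero (L : LinearLine D a x K R J) : Level D a x K R J R 0 :=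
  L.transLine.level_zero

namespace Level

variable (L : Level D a x K R J A i)
include L

theorem x_sq : x * x = 1 := L.line.sq_x

theorem conj_x {u : G} (hu : u ∈ A) : u * x * u⁻¹ = x * (u⁻¹ * u⁻¹) := by
  calc u * x * u⁻¹ = (x * x) * u * x * u⁻¹ := by rw [L.x_sq, one_mul]
    _ = x * (x * u * x) * u⁻¹ := by group
    _ = _ := by rw [L.inv u hu, mul_assoc]

theorem pow_mem_R {u : G} (hu : u ∈ A) : u ^ 2 ^ i ∈ R :=
  L.invol _ (pow_mem hu _) (by rw [← pow_add, ← two_mul, ← pow_succ', L.exp u hu])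

/-- An element of `A` killed by the power map is a square. -/
theorem exists_sq {u : G} (hu : u ∈ A) (h1 : u ^ 2 ^ i = 1) : ∃ w ∈ A, w * w = u := by
  suffices key : ∀ k ≤ i, ∀ u ∈ A, u ^ 2 ^ k = 1 → ∃ w ∈ A, w * w = u from key i le_rfl u hu h1
  intro k
  induction k with
  | zero => exact fun _ u _ hu => ⟨1, one_mem A, by simpa using hu.symm⟩
  | succ k ih =>
    intro hk u hu hu1
    have hr : u ^ 2 ^ k ∈ R :=
      L.invol _ (pow_mem hu _) (by rw [← pow_add, ← two_mul, ← pow_succ', hu1])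
    obtain ⟨w, hw, hwr⟩ := L.root _ hr
    obtain ⟨m, hm⟩ : ∃ m, i = k + 1 + m := Nat.exists_eq_add_of_le hk
    have hw' : w ^ 2 ^ (m + 1) ∈ A := pow_mem hw _
    obtain ⟨z, hz, hzu⟩ := ih (by omega) (u * (w ^ 2 ^ (m + 1))⁻¹) (mul_mem hu (inv_mem hw')) (by
      rw [(L.comm _ hu _ (inv_mem hw')).mul_pow, inv_pow, ← pow_mul, ← pow_add,
        show m + 1 + k = i by omega, hwr, mul_inv_cancel])
    refine ⟨z * w ^ 2 ^ m, mul_mem hz (pow_mem hw _), ?_⟩
    rw [(L.comm _ hz _ (pow_mem hw _)).symm.mul_mul_mul_comm, hzu, ← pow_add, ← two_mul,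
      ← pow_succ', inv_mul_cancel_right]

theorem normal_R {g : G} (hg : g ∈ Subgroup.normalizer (A : Set G)) {r : G} (hr : r ∈ R) :
    g * r * g⁻¹ ∈ R :=
  L.invol _ ((Subgroup.mem_normalizer_iff.1 hg r).1 (L.R_le hr)) (by
    rw [show g * r * g⁻¹ * (g * r * g⁻¹) = g * (r * r) * g⁻¹ by group, L.line.sq r hr]; group)

theorem disp_mul (g k : G) : disp x (g * k) = disp x g * (g * disp x k * g⁻¹) := by
  calc disp x (g * k) = x * g * (x * x) * k * x * k⁻¹ * g⁻¹ := by
        rw [L.x_sq, disp]; group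
    _ = _ := by simp only [disp]; group

/-- The elements at `a` normalising `A` and moving `x` inside `x A`. -/
def moves : Subgroup G where
  carrier := {g | g • a = a ∧ g ∈ Subgroup.normalizer (A : Set G) ∧ disp x g ∈ A}
  one_mem' := ⟨one_smul G a, one_mem _, by simp [disp, L.x_sq]⟩
  mul_mem' := by
    rintro g k ⟨hga, hgn, hg⟩ ⟨hka, hkn, hk⟩
    refine ⟨by rw [mul_smul, hka, hga], mul_mem hgn hkn, ?_⟩
    rw [L.disp_mul]
    exact mul_mem hg ((Subgroup.mem_normalizer_iff.1 hgn _).1 hk)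
  inv_mem' := by
    rintro g ⟨hga, hgn, hg⟩
    refine ⟨inv_smul_eq_iff.2 hga.symm, inv_mem hgn, ?_⟩
    have h1 := L.disp_mul g g⁻¹
    rw [mul_inv_cancel, show disp x (1 : G) = 1 by simp [disp, L.x_sq]] at h1
    have h2 : g * disp x g⁻¹ * g⁻¹ ∈ A := by
      rw [show g * disp x g⁻¹ * g⁻¹ = (disp x g)⁻¹ * 1 by rw [h1, inv_mul_cancel_left], mul_one]
      exact inv_mem hg
    exact (Subgroup.mem_normalizer_iff.1 hgn _).2 h2

omit L in
/-- The class of `g x g⁻¹` among the classes in `x A`, as an element of `R`. -/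
def kap (x : G) (i : ℕ) (g : G) : G := disp x g ^ 2 ^ i

theorem mem_moves {g : G} : g ∈ L.moves ↔
    g • a = a ∧ g ∈ Subgroup.normalizer (A : Set G) ∧ disp x g ∈ A := Iff.rfl

theorem kap_mem {g : G} (hg : g ∈ L.moves) : kap x i g ∈ R := L.pow_mem_R hg.2.2

theorem conj_mem_R {g r : G} (hg : g ∈ L.moves) (hr : r ∈ R) : g * r * g⁻¹ ∈ R :=
  L.normal_R hg.2.1 hr

theorem kap_mul {g k : G} (hg : g ∈ L.moves) (hk : k ∈ L.moves) :
    kap x i (g * k) = kap x i g * (g * kap x i k * g⁻¹) := by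
  rw [kap, L.disp_mul,
    (L.comm _ hg.2.2 _ ((Subgroup.mem_normalizer_iff.1 hg.2.1 _).1 hk.2.2)).mul_pow, conj_pow]
  rfl

omit L in
theorem kap_one (L : Level D a x K R J A i) : kap x i (1 : G) = 1 := by simp [kap, disp, L.x_sq]

omit L in
theorem disp_of_commute (hx : x * x = 1) {g : G} (hg : Commute x g) : disp x g = 1 := by
  calc disp x g = g * (x * x) * g⁻¹ := by rw [disp, hg.eq]; group
    _ = 1 := by rw [hx, mul_one, mul_inv_cancel]

theorem commute_mem {g : G} (hga : g • a = a) (hgn : g ∈ Subgroup.normalizer (A : Set G))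
    (hgx : Commute x g) : g ∈ L.moves ∧ kap x i g = 1 := by
  have h1 := disp_of_commute L.x_sq hgx
  exact ⟨⟨hga, hgn, h1 ▸ one_mem A⟩, by rw [kap, h1, one_pow]⟩

theorem A_mem {u : G} (hu : u ∈ A) : u ∈ L.moves ∧ kap x i u = 1 := by
  have h1 : disp x u = u⁻¹ * u⁻¹ := by rw [disp, L.inv u hu]
  refine ⟨⟨mem_stabilizer_iff.1 (L.line.stab (L.le hu)), Subgroup.le_normalizer hu,
    h1 ▸ mul_mem (inv_mem hu) (inv_mem hu)⟩, ?_⟩
  rw [kap, h1, ← pow_two, ← pow_mul, ← pow_succ', L.exp _ (inv_mem hu)]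

/-- An element fixing the trivial class is a product of an element of `A` and one commuting with
`x`. -/
theorem exists_comm {g : G} (hg : g ∈ L.moves) (h1 : kap x i g = 1) :
    ∃ w ∈ A, Commute x (w * g) := by
  obtain ⟨w, hw, hwg⟩ := L.exists_sq hg.2.2 h1
  refine ⟨w, hw, ?_⟩
  have hgx : g * x * g⁻¹ = x * (w * w) := by
    rw [hwg]
    calc g * x * g⁻¹ = (x * x) * g * x * g⁻¹ := by rw [L.x_sq, one_mul]
      _ = _ := by simp only [disp]; group
  have hwx : w * x = x * w⁻¹ := by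
    calc w * x = (x * x) * w * x := by rw [L.x_sq, one_mul]
      _ = x * (x * w * x) := by group
      _ = _ := by rw [L.inv w hw]
  have h2 : (w * g) * x * (w * g)⁻¹ = x := by
    calc (w * g) * x * (w * g)⁻¹ = w * (g * x * g⁻¹) * w⁻¹ := by group
      _ = w * x * (w * w * w⁻¹) := by rw [hgx]; group
      _ = x * w⁻¹ * w := by rw [hwx, mul_inv_cancel_right]
      _ = x := inv_mul_cancel_right x w
  exact (mul_inv_eq_iff_eq_mul.1 h2).symm

variable [Finite G]

/-- In a 2-group of the point group containing `A` only `A` fixes the trivial class. -/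
theorem two_zero (h : ClosedSetting D Ω) {V : Subgroup G} (hV : IsPGroup 2 V) (hAV : A ≤ V)
    (hVK : V ≤ K) {g : G} (hgV : g ∈ V) (hg : g ∈ L.moves) (h1 : kap x i g = 1) : g ∈ A := by
  obtain ⟨w, hw, hc⟩ := L.exists_comm hg h1
  have := L.line.mem_of_commute h hV hVK (L.R_le.trans hAV) (mul_mem (hAV hw) hgV) hc
  rw [show g = w⁻¹ * (w * g) by group]
  exact mul_mem (inv_mem hw) (L.R_le this)

omit [Finite G] in
theorem kap_conj {g k : G} (hgx : Commute x g) :
    kap x i (g * k * g⁻¹) = g * kap x i k * g⁻¹ := by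
  have h1 : disp x (g * k * g⁻¹) = g * disp x k * g⁻¹ := by
    have e2 : g⁻¹ * x * g = x := by rw [mul_assoc, hgx.eq, inv_mul_cancel_left]
    calc disp x (g * k * g⁻¹) = (x * g) * k * (g⁻¹ * x * g) * k⁻¹ * g⁻¹ := by
          simp only [disp]; group
      _ = _ := by rw [e2, hgx.eq]; simp only [disp]; group
  rw [kap, h1, conj_pow]
  rfl

end Level

/-- The subgroup `H` is the disjoint union of the fibres of a map constant on the cosets of `S₀`. -/
theorem card_fibres [Finite G] {H S₀ : Subgroup G} (hS : S₀ ≤ H) (f : G → G)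
    (hf : ∀ g ∈ H, ∀ k ∈ H, f g = f k ↔ g⁻¹ * k ∈ S₀) :
    Nat.card H = Nat.card S₀ * Nat.card (f '' (H : Set G) : Set G) := by
  let q : ↥H ⧸ S₀.subgroupOf H → (f '' (H : Set G) : Set G) :=
    Quotient.lift (fun g : H => (⟨f g, g, g.2, rfl⟩ : (f '' (H : Set G) : Set G)))
      fun g k hgk => Subtype.ext ((hf g g.2 k k.2).2
        (Subgroup.mem_subgroupOf.1 (QuotientGroup.leftRel_apply.1 hgk)))
  have hq : Function.Bijective q := by
    constructor
    · rintro ⟨g⟩ ⟨k⟩ e
      exact QuotientGroup.eq.2 (Subgroup.mem_subgroupOf.2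
        ((hf g g.2 k k.2).1 (congrArg Subtype.val e)))
    · rintro ⟨-, g, hg, rfl⟩
      exact ⟨((⟨g, hg⟩ : H) : ↥H ⧸ S₀.subgroupOf H), rfl⟩
  rw [← Nat.card_congr (Subgroup.subgroupOfEquivOfLe hS).toEquiv,
    ← Nat.card_congr (Equiv.ofBijective q hq)]
  exact ((S₀.subgroupOf H).card_mul_index).symm

end CfsgLib.LocalEven.OnePointFront.Nonfull
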