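import Cfsg.Agent.Lib.LocalEven.OnePointFront.Nonfull.Linear.CyclicBase

/-!
# Linear lines: the torus in the centraliser of a twin

The core of the centraliser of `x` acts on the fixed points of `x` as elements commuting also with an
involution `y` centralising `R` and fixing these points.  Correcting by an element fixing all of
them, the torus is realised on `R` by elements centralising `x` and `y`.
-/

set_option autoImplicit false
set_option linter.style.haveILetI false
set_option linter.unusedSectionVars false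

namespace CfsgLib.LocalEven.OnePointFront.Nonfull

open MulAction CfsgLib.LocalEven.TIEndgame CfsgLib.Involution

universe u

variable {G Ω : Type u} [Group G] [MulAction G Ω] {D : Set G} {a b : Ω} {x y : G}
  {K R J : Subgroup G}

/-- An element commuting with `x` maps the preimage of a fixed point to a fixed point. -/
theorem fix_inv_of_comm {g : G} (hg : Commute x g) {c : Ω} (hc : x • c = c) :
    x • (g⁻¹ • c) = g⁻¹ • c := by
  rw [← mul_smul, hg.inv_right.eq, mul_smul, hc]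

theorem fix_of_commute_smul {g : G} (hg : Commute x g) {c : Ω} (hc : x • c = c) :
    x • (g • c) = g • c := by
  rw [← mul_smul, hg.eq, mul_smul, hc]

/-- The elements of the centraliser of `x` which act on its fixed points as elements commuting also
with `y`. -/
def agreeGroup (Ω : Type u) [MulAction G Ω] (x y : G) : Subgroup G where
  carrier := {g | Commute x g ∧ ∃ g', Commute x g' ∧ Commute y g' ∧
    ∀ c : Ω, x • c = c → g • c = g' • c}
  one_mem' := ⟨Commute.one_right x, 1, Commute.one_right x, Commute.one_right y, fun _ _ => rfl⟩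
  mul_mem' := by
    rintro g k ⟨hg, g', hgx, hgy, hgc⟩ ⟨hk, k', hkx, hky, hkc⟩
    refine ⟨hg.mul_right hk, g' * k', hgx.mul_right hkx, hgy.mul_right hky, fun c hc => ?_⟩
    rw [mul_smul, mul_smul, hkc c hc, hgc _ (fix_of_commute_smul hkx hc)]
  inv_mem' := by
    rintro g ⟨hg, g', hgx, hgy, hgc⟩
    refine ⟨hg.inv_right, g'⁻¹, hgx.inv_right, hgy.inv_right, fun c hc => ?_⟩
    rw [eq_inv_smul_iff, ← hgc _ (fix_inv_of_comm hg hc), smul_inv_smul]

namespace LinearLine

variable (L : LinearLine D a x K R J)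
include L

/-- The elements of `K` centralising `x` and `y` which act on the fixed points of `x` as `R`. -/
def lineLifts (y : G) : Subgroup G where
  carrier := {g | g ∈ K ∧ Commute x g ∧ Commute y g ∧
    ∃ r ∈ R, ∀ c : Ω, x • c = c → g • c = r • c}
  one_mem' := ⟨one_mem K, Commute.one_right x, Commute.one_right y, 1, one_mem R, fun _ _ => rfl⟩
  mul_mem' := by
    rintro g k ⟨hgK, hgx, hgy, r, hr, hgc⟩ ⟨hkK, hkx, hky, s, hs, hkc⟩
    refine ⟨mul_mem hgK hkK, hgx.mul_right hkx, hgy.mul_right hky, r * s, mul_mem hr hs,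
      fun c hc => ?_⟩
    rw [mul_smul, mul_smul, hkc c hc, hgc _ (fix_of_commute_smul (L.comm s hs) hc)]
  inv_mem' := by
    rintro g ⟨hgK, hgx, hgy, r, hr, hgc⟩
    refine ⟨inv_mem hgK, hgx.inv_right, hgy.inv_right, r⁻¹, inv_mem hr, fun c hc => ?_⟩
    rw [eq_inv_smul_iff, ← hgc _ (fix_inv_of_comm hgx hc), smul_inv_smul]

variable [Finite G] [Finite Ω] (h : ClosedSetting D Ω)
include h

/-- The torus on `R` is realised in the centraliser of `x` and `y`. -/
theorem exists_lift (hy : orderOf y = 2) (hxy : Commute x y) (hyR : ∀ r ∈ R, Commute y r)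
    (hyfix : ∀ c : Ω, x • c = c → y • c = c) {j : G} (hj : j ∈ J) :
    ∃ g : G, g • a = a ∧ Commute x g ∧ Commute y g ∧ g ∈ Subgroup.normalizer (R : Set G) ∧
      ∀ r ∈ R, g * r * g⁻¹ = j * r * j⁻¹ := by
  haveI : Fact (Nat.Prime 2) := ⟨Nat.prime_two⟩
  obtain ⟨b, hb, hba⟩ := L.exists_other
  have hja := L.fix_J j hj
  have hjx := L.comm_J j hj
  -- the core
  have hcore : coreOf D (Subgroup.centralizer ({x} : Set G)) ≤ agreeGroup Ω x y := by
    refine (Subgroup.closure_le _).2 fun d hd => ?_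
    have hxd : Commute x d := (Subgroup.mem_centralizer_singleton_iff.1 hd.2).symm
    obtain ⟨c₀, hc₀⟩ := h.exists_fixed d hd.1
    have hxc₀ : x • c₀ = c₀ :=
      h.fixed_unique d hd.1 _ _ (by rw [← mul_smul, ← hxd.eq, mul_smul, hc₀]) hc₀
    obtain ⟨k, hk, hkc⟩ := h.toOnePoint.exists_centralizing_move h.covers
      (Involution.Basic.isPGroup_of_commute L.bad.1 hy hxy)
      (sup_le (Subgroup.zpowers_le.2 (mem_stabilizer_iff.2 L.fix))
        (Subgroup.zpowers_le.2 (mem_stabilizer_iff.2 (hyfix a L.fix))))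
      (sup_le (Subgroup.zpowers_le.2 (mem_stabilizer_iff.2 hxc₀))
        (Subgroup.zpowers_le.2 (mem_stabilizer_iff.2 (hyfix c₀ hxc₀))))
    have hkx : Commute x k := hk x (Subgroup.mem_sup_left (Subgroup.mem_zpowers x))
    have hky : Commute y k := hk y (Subgroup.mem_sup_right (Subgroup.mem_zpowers y))
    have hda : k⁻¹ * d * k ∈ dat D a := by
      have := h.toOnePoint.conj_mem_dat k⁻¹ (⟨hd.1, hc₀⟩ : d ∈ dat D c₀)
      rwa [inv_inv, ← hkc, inv_smul_smul] at this
    obtain ⟨r, hr, hrc⟩ := L.line_members _ hda ((hkx.inv_right.mul_right hxd).mul_right hkx)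
    refine ⟨hxd, k * r * k⁻¹, (hkx.mul_right (L.comm r hr)).mul_right hkx.inv_right,
      (hky.mul_right (hyR r hr)).mul_right hky.inv_right, fun c hc => ?_⟩
    have h1 := hrc _ (fix_inv_of_comm hkx hc)
    rw [← mul_smul, show k⁻¹ * d * k * k⁻¹ = k⁻¹ * d by group, mul_smul, inv_smul_eq_iff] at h1
    rw [h1, mul_smul, mul_smul]
  obtain ⟨-, c, hcx, hcy, hjc⟩ := hcore (L.core_J hj)
  have hca : c • a = a := by rw [← hjc a L.fix, hja]
  have hcR : ∀ r ∈ R, ∀ p : Ω, x • p = p → (c * r * c⁻¹) • p = (j * r * j⁻¹) • p := by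
    intro r hr p hp
    have hq := fix_inv_of_comm hjx hp
    have h1 : c⁻¹ • p = j⁻¹ • p := by rw [inv_smul_eq_iff, ← hjc _ hq, smul_inv_smul]
    rw [mul_smul, mul_smul, h1, mul_smul, mul_smul,
      ← hjc _ (fix_of_commute_smul (L.comm r hr) hq)]
  -- `R` is a Sylow subgroup of the lifts
  set W := L.lineLifts y with hW
  have hRW : R ≤ W := fun r hr => ⟨L.le_K hr, L.comm r hr, hyR r hr, r, hr, fun _ _ => rfl⟩
  obtain ⟨Q, hQ⟩ := (L.pgroup.of_equiv (Subgroup.subgroupOfEquivOfLe hRW).symm).exists_le_sylow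
  have hQR : ∀ q : ↥W, q ∈ (Q : Subgroup ↥W) → (q : G) ∈ R := by
    intro q hq
    have hU := L.inf_K h (Q.2.map W.subtype) (fun u hu => by
      obtain ⟨u', -, rfl⟩ := hu
      exact Subgroup.mem_centralizer_singleton_iff.2 u'.2.2.1.symm)
      (fun r hr => ⟨⟨r, hRW hr⟩, hQ hr, rfl⟩)
    exact hU.le ⟨⟨q, hq, rfl⟩, q.2.1⟩
  have hR'W : R.map (MulAut.conj c).toMonoidHom ≤ W := by
    rintro _ ⟨r, hr, rfl⟩
    exact ⟨L.point.conj c (mem_stabilizer_iff.2 hca) r (L.le_K hr),
      (hcx.mul_right (L.comm r hr)).mul_right hcx.inv_right,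
      (hcy.mul_right (hyR r hr)).mul_right hcy.inv_right, j * r * j⁻¹,
      (Subgroup.mem_normalizer_iff.1 (L.norm_J hj) r).1 hr, hcR r hr⟩
  obtain ⟨w, hw⟩ := Involution.Basic.exists_conj_le Q
    ((L.pgroup.map _).of_equiv (Subgroup.subgroupOfEquivOfLe hR'W).symm)
  obtain ⟨-, hwx, hwy, r₀, hr₀, hwc⟩ := w.2
  obtain ⟨k, hk⟩ : ∃ k, k = r₀⁻¹ * (w : G) := ⟨_, rfl⟩
  have hkx : Commute x k := hk ▸ (L.comm r₀ hr₀).inv_right.mul_right hwx
  have hky : Commute y k := hk ▸ (hyR r₀ hr₀).inv_right.mul_right hwy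
  have hkfix : ∀ p : Ω, x • p = p → k • p = p := fun p hp => by
    rw [hk, mul_smul, hwc p hp, inv_smul_smul]
  have hgfix : ∀ p : Ω, x • p = p → (k * c) • p = j • p := fun p hp => by
    rw [mul_smul, hkfix _ (fix_of_commute_smul hcx hp), hjc p hp]
  have hgmem : ∀ r ∈ R, k * c * r * (k * c)⁻¹ ∈ R := by
    intro r hr
    have hmem : c * r * c⁻¹ ∈ R.map (MulAut.conj c).toMonoidHom := ⟨r, hr, rfl⟩
    have h1 : (w : G) * (c * r * c⁻¹) * (w : G)⁻¹ ∈ R := hQR _ (hw ⟨_, hR'W hmem⟩ hmem)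
    rw [show k * c * r * (k * c)⁻¹ = r₀⁻¹ * ((w : G) * (c * r * c⁻¹) * (w : G)⁻¹) * r₀ by
      rw [hk]; group]
    exact mul_mem (mul_mem (inv_mem hr₀) h1) hr₀
  refine ⟨k * c, by rw [hgfix a L.fix, hja], hkx.mul_right hcx, hky.mul_right hcy, ?_, fun r hr => ?_⟩
  · have hle : R.map (MulAut.conj (k * c)).toMonoidHom ≤ R := by
      rintro _ ⟨r, hr, rfl⟩
      exact hgmem r hr
    exact Subgroup.mem_normalizer_iff_map_conj_eq.2 (Subgroup.eq_of_le_of_card_ge hle
      (Subgroup.card_map_of_injective (MulAut.conj (k * c)).injective).ge)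
  have hjr : j * r * j⁻¹ ∈ R := (Subgroup.mem_normalizer_iff.1 (L.norm_J hj) r).1 hr
  have hb' := fix_inv_of_comm hjx hb
  obtain ⟨g, hg⟩ : ∃ g, g = k * c := ⟨_, rfl⟩
  rw [← hg] at hgfix hgmem ⊢
  have h1 : (g * r * g⁻¹) • b = (j * r * j⁻¹) • b := by
    have e : g⁻¹ • b = j⁻¹ • b := by rw [inv_smul_eq_iff, hgfix _ hb', smul_inv_smul]
    rw [mul_smul, mul_smul g r, e, mul_smul, mul_smul,
      hgfix _ (fix_of_commute_smul (L.comm r hr) hb')]
  have h2 := L.eq_one_of_mem h (mul_mem (inv_mem hjr) (hgmem r hr))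
    (by rw [mul_smul, h1, inv_smul_smul]) hba
  exact (inv_mul_eq_one.1 h2).symm

end LinearLine

end CfsgLib.LocalEven.OnePointFront.Nonfull
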