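import Cfsg.Agent.Lib.LocalEven.OnePointFront.Nonfull.Linear.CyclicTrans
import Cfsg.Agent.Lib.LocalEven.OnePointFront.Nonfull.Linear.CyclicLift

/-!
# Linear lines: the kernel on `R` at two points

Let `V` be a 2-subgroup at `a` of the centraliser of `x` containing `R` and `x`.  Its elements fixing
a second fixed point of `x` and centralising `R` are `1` and `x`.  Otherwise `x` has a twin `y` with
`x y` a twin.  If translations centralising `R` exist this is `false_of_twins_transl`.  If not, the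
translation of `y` is a function of the translation of `x` commuting with the torus, so it is
conjugation by an element of the torus; the cocycle rule then makes it commute with the translations,
so it is the identity, and `x y` centralises all of them.
-/

set_option autoImplicit false
set_option linter.style.haveILetI false
set_option linter.unusedSectionVars false

namespace CfsgLib.LocalEven.OnePointFront.Nonfull

open MulAction CfsgLib.LocalEven.TIEndgame CfsgLib.Involution

universe u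

variable {G Ω : Type u} [Group G] [Finite G] [MulAction G Ω] [Finite Ω] {D : Set G} {a b : Ω}
  {x y : G} {K R J V P : Subgroup G}

namespace LinearLine

variable (L : LinearLine D a x K R J) (h : ClosedSetting D Ω)
include L h

/-- `x` and `y` cannot both be twins if `x y` is one and no translation centralises `R`. -/
theorem false_of_twins_no_transl
    (hno : ∀ k ∈ translGroup x K R L.sq_x, shift x k = 1)
    (T : Translations x R (moveGroup x K R L.sq_x) V P) (hb : x • b = b) (hba : b ≠ a)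
    (Wy : Twin Ω x R P y) (Wz : Twin Ω x R P (x * y)) : False := by
  classical
  set M := moveGroup x K R L.sq_x with hM
  have hPK : P ≤ K := fun p hp => (mem_moveGroup.1 (T.le hp)).1
  have hPN : ∀ p ∈ P, ∀ r ∈ R, p * r * p⁻¹ ∈ R := fun p hp r hr =>
    (Subgroup.mem_normalizer_iff.1 (mem_moveGroup.1 (T.le hp)).2.1 r).1 hr
  have hyy : y * y = 1 := Dihedral.mul_self Wy.ord
  choose p hpP hpx using T.onto
  set f : G → G := fun r => if hr : r ∈ R then shift y (p r hr) else 1 with hf
  -- the translation of `y` is a function of the translation of `x`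
  have key : ∀ k ∈ M, shift y k ∈ R → shift y k = f (shift x k) := by
    intro k hk hyk
    have hr : shift x k ∈ R := (mem_moveGroup.1 hk).2.2
    simp only [hf, dif_pos hr]
    set q := p _ hr
    have hq := hpP _ hr
    have hc : Commute x (q⁻¹ * k) := (shift_eq_iff L.sq_x).1 (hpx _ hr)
    have hqk : q⁻¹ * k ∈ K := mul_mem (inv_mem (hPK hq)) (mem_moveGroup.1 hk).1
    have e := shift_mul hyy q (q⁻¹ * k)
    rw [mul_inv_cancel_left] at e
    have h1 : shift y (q⁻¹ * k) ∈ R := by
      have h2 : q * shift y (q⁻¹ * k) * q⁻¹ ∈ R := by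
        rw [← inv_mul_eq_iff_eq_mul.2 e]
        exact mul_mem (inv_mem (Wy.shift_mem _ hq)) hyk
      exact (Subgroup.mem_normalizer_iff.1 (mem_moveGroup.1 (T.le hq)).2.1 _).2 h2
    have h2 : shift y (q⁻¹ * k) = 1 := by
      refine L.eq_one_of_mem h h1 (b := b) ?_ hba
      have hyb : y • b = b := (Wy.fix_iff b).2 hb
      have h3 : y • ((q⁻¹ * k)⁻¹ • b) = (q⁻¹ * k)⁻¹ • b :=
        (Wy.fix_iff _).2 (fix_inv_of_comm hc hb)
      rw [shift, mul_smul, mul_smul, mul_smul, h3, smul_inv_smul, hyb]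
    rw [e, h2, mul_one, mul_inv_cancel, mul_one]
  have hfmem : ∀ r ∈ R, f r ∈ R := fun r hr => by
    simp only [hf, dif_pos hr]; exact Wy.shift_mem _ (hpP r hr)
  have hf1 : f 1 = 1 := by
    have := key 1 (one_mem M) (by rw [shift_one hyy]; exact one_mem R)
    rwa [shift_one hyy, shift_one L.sq_x, eq_comm] at this
  -- it commutes with the torus
  have hfJ : ∀ j ∈ J, ∀ r ∈ R, f (j * r * j⁻¹) = j * f r * j⁻¹ := by
    intro j hj r hr
    obtain ⟨g, hga, hgx, hgy, hgR, hg⟩ := L.exists_lift h Wy.ord Wy.comm_x Wy.comm_R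
      (fun c hc => (Wy.fix_iff c).2 hc) hj
    have hk : g * p r hr * g⁻¹ ∈ M := L.conj_moveGroup hga hgx hgR (T.le (hpP r hr))
    have hfr : shift y (p r hr) = f r := by simp only [hf, dif_pos hr]
    have h1 : shift y (g * p r hr * g⁻¹) = g * f r * g⁻¹ := by rw [shift_conj hgy, hfr]
    have h2 := key _ hk (by rw [h1]; exact (Subgroup.mem_normalizer_iff.1 hgR _).1 (hfmem r hr))
    rw [h1, shift_conj hgx, hpx r hr, hg r hr, hg _ (hfmem r hr)] at h2
    exact h2.symm
  obtain ⟨e, he, -, -, he1, -, -⟩ := L.exists_pair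
  have hfe : f e ≠ 1 := by
    simp only [hf, dif_pos he]
    intro hc
    have h1 := Wy.mem_R L h T.pgroup hPK T.R_le (hpP e he) ((shift_eq_one hyy).1 hc)
    exact he1 (by rw [← hpx e he, shift_eq_one L.sq_x]; exact L.comm _ h1)
  obtain ⟨j₀, hj₀, hj₀e⟩ := L.trans_J e he _ (hfmem e he) he1 hfe
  have hfj : ∀ r ∈ R, f r = j₀ * r * j₀⁻¹ := by
    intro r hr
    by_cases hr1 : r = 1
    · rw [hr1, hf1]; group
    obtain ⟨j, hj, rfl⟩ := L.trans_J e he r hr he1 hr1
    rw [hfJ j hj e he, ← hj₀e, L.abel_J j hj j₀ hj₀ e he]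
  -- the cocycle rule
  have hcoc : ∀ q ∈ P, ∀ s ∈ R, j₀ * (q * s * q⁻¹) * j₀⁻¹ = q * (j₀ * s * j₀⁻¹) * q⁻¹ := by
    intro q hq s hs
    have hqs := mul_mem hq (hpP s hs)
    have h1 := key _ (T.le hqs) (Wy.shift_mem _ hqs)
    rw [shift_mul hyy, shift_mul L.sq_x, key q (T.le hq) (Wy.shift_mem q hq),
      key _ (T.le (hpP s hs)) (Wy.shift_mem _ (hpP s hs)), hpx s hs,
      hfj _ (mem_moveGroup.1 (T.le hq)).2.2, hfj s hs,
      hfj _ (mul_mem (mem_moveGroup.1 (T.le hq)).2.2 (hPN q hq s hs))] at h1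
    refine mul_left_cancel (a := j₀ * shift x q * j₀⁻¹) ?_
    rw [h1]
    group
  have hnormJ : ∀ {g : G}, g ∈ J → ∀ r ∈ R, g * r * g⁻¹ ∈ R := fun hg r hr =>
    (Subgroup.mem_normalizer_iff.1 (L.norm_J hg) r).1 hr
  have hfix : ∀ r ∈ R, j₀ * r * j₀⁻¹ = r := by
    intro r hr
    set q := p r hr with hq'
    have hq := hpP r hr
    have hconj : j₀ * q * j₀⁻¹ ∈ M :=
      L.conj_moveGroup (L.fix_J j₀ hj₀) (L.comm_J j₀ hj₀) (L.norm_J hj₀) (T.le hq)
    have hk : q⁻¹ * (j₀ * q * j₀⁻¹) ∈ translGroup x K R L.sq_x := by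
      refine L.mem_translGroup.2 ⟨mul_mem (inv_mem (T.le hq)) hconj, fun s hs => ?_⟩
      refine mul_inv_eq_iff_eq_mul.1 ?_
      have hs' : j₀⁻¹ * s * j₀ ∈ R :=
        (Subgroup.mem_normalizer_iff''.1 (L.norm_J hj₀) s).1 hs
      calc q⁻¹ * (j₀ * q * j₀⁻¹) * s * (q⁻¹ * (j₀ * q * j₀⁻¹))⁻¹
          = q⁻¹ * (j₀ * (q * (j₀⁻¹ * s * j₀) * q⁻¹) * j₀⁻¹) * q := by group
        _ = s := by rw [hcoc q hq _ hs']; group
    have h1 := (shift_eq_iff L.sq_x).2 ((shift_eq_one L.sq_x).1 (hno _ hk))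
    rw [shift_conj (L.comm_J j₀ hj₀), hpx r hr] at h1
    exact h1.symm
  refine L.not_all_comm T fun q hq => Wz.mem_R L h T.pgroup hPK T.R_le hq ?_
  have hr : shift x q ∈ R := (mem_moveGroup.1 (T.le hq)).2.2
  have h1 : shift y q = shift x q := by
    rw [key q (T.le hq) (Wy.shift_mem q hq), hfj _ hr, hfix _ hr]
  refine (mul_inv_eq_iff_eq_mul.1 ?_).symm
  have hyr : Commute y (shift x q) := Wy.comm_R _ hr
  calc q * (x * y) * q⁻¹ = (q * x * q⁻¹) * (q * y * q⁻¹) := by group
    _ = x * shift x q * (y * shift x q) := by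
        rw [conj_eq_mul_shift L.sq_x, conj_eq_mul_shift hyy, h1]
    _ = x * y * (shift x q * shift x q) := by
        rw [mul_assoc, ← mul_assoc (shift x q), ← hyr.eq]; group
    _ = x * y := by rw [L.sq _ hr, mul_one]

variable (hnf : NoFull D Ω)
include hnf

/-- The elements of `V` fixing `b` and centralising `R` are `1` and `x`. -/
theorem eq_one_or_eq (hmax : MaxLine Ω R x) (hV : IsPGroup 2 V)
    (hVC : V ≤ stabilizer G a ⊓ Subgroup.centralizer ({x} : Set G)) (hRV : R ≤ V) (hxV : x ∈ V)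
    (hb : x • b = b) (hba : b ≠ a) (hy : y ∈ V) (hyb : y • b = b)
    (hyR : ∀ r ∈ R, Commute y r) : y = 1 ∨ y = x := by
  by_contra hne
  push Not at hne
  have hVR : V ≤ Subgroup.normalizer (R : Set G) := L.le_normalizer h hV hVC hRV
  have hz1 : x * y ≠ 1 := fun e => hne.2 (by
    rw [← inv_eq_of_mul_eq_one_right e, Dihedral.inv_eq L.bad.1])
  have hzb : (x * y) • b = b := by rw [mul_smul, hyb, hb]
  have hzR : ∀ r ∈ R, Commute (x * y) r := fun r hr => (L.comm r hr).mul_left (hyR r hr)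
  have hVnorm : ∀ (N : Subgroup G), (∀ g : G, g • a = a → Commute x g →
      g ∈ Subgroup.normalizer (R : Set G) → ∀ k ∈ N, g * k * g⁻¹ ∈ N) →
      V ≤ Subgroup.normalizer (N : Set G) := by
    intro N hN v hv
    have hinv : ∀ v ∈ V, ∀ k ∈ N, v * k * v⁻¹ ∈ N := fun v hv =>
      hN v (mem_stabilizer_iff.1 (hVC hv).1)
        (Subgroup.mem_centralizer_singleton_iff.1 (hVC hv).2).symm (hVR hv)
    refine Subgroup.mem_normalizer_iff.2 fun k => ⟨hinv v hv k, fun hk => ?_⟩
    have := hinv v⁻¹ (inv_mem hv) _ hk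
    simpa [mul_assoc] using this
  by_cases htr : ∃ k ∈ translGroup x K R L.sq_x, shift x k ≠ 1
  · obtain ⟨k, hk, hk1⟩ := htr
    have hN : translGroup x K R L.sq_x ≤ moveGroup x K R L.sq_x := inf_le_left
    obtain ⟨P, T⟩ := L.exists_translations h hV hN L.R_le_translGroup
      (hVnorm _ fun g h1 h2 h3 k hk => L.conj_translGroup h1 h2 h3 hk)
      (fun r hr => L.transl_onto hk hk1 hr)
    exact L.false_of_twins_transl h hnf T hV hVC hxV hy hb hba hyb (L.twin_self h T hN hxV)
      (L.twin_of_mem h hmax T hN hV hVC hb hba hy hne.1 hyb hyR)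
      (L.twin_of_mem h hmax T hN hV hVC hb hba (mul_mem hxV hy) hz1 hzb hzR)
  · push Not at htr
    obtain ⟨P, T⟩ := L.exists_translations h hV (le_refl _) L.le_moveGroup
      (hVnorm _ fun g h1 h2 h3 k hk => L.conj_moveGroup h1 h2 h3 hk)
      (fun r hr => L.exists_shift h hnf hr)
    exact L.false_of_twins_no_transl h htr T hb hba
      (L.twin_of_mem h hmax T le_rfl hV hVC hb hba hy hne.1 hyb hyR)
      (L.twin_of_mem h hmax T le_rfl hV hVC hb hba (mul_mem hxV hy) hz1 hzb hzR)

end LinearLine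

end CfsgLib.LocalEven.OnePointFront.Nonfull
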