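import Cfsg.Agent.Lib.LocalEven.OnePointFront.Nonfull.Linear.CyclicTwins
import Cfsg.Agent.Lib.LocalEven.OnePointFront.Nonfull.Linear.FieldInvolution

/-!
# Linear lines with translations: only one twin at two points

Let `P` be a group of translations centralising `R`, normalised by a 2-group `V` of the centraliser
of `x`, and let `x`, `y`, `x y` be twins.  If `P` has an involution outside `R` it is elementary and
the Sylow subgroup of the point group over it, against B*.  Otherwise `P` is properly contained in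
such a Sylow subgroup, so `x` inverts all of it and `y` inverts some element outside `R`, which then
commutes with `x y`.
-/

set_option autoImplicit false
set_option linter.style.haveILetI false
set_option linter.unusedSectionVars false

namespace CfsgLib.LocalEven.OnePointFront.Nonfull

open MulAction CfsgLib.LocalEven.TIEndgame CfsgLib.Involution

universe u

variable {G Ω : Type u} [Group G] [Finite G] [MulAction G Ω] [Finite Ω] {D : Set G} {a b : Ω}
  {x y : G} {K R J V P : Subgroup G}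

theorem shift_disp (x k : G) : shift x k = disp x k := by rw [shift, disp]; group

/-- The elements of `moveGroup` centralising `R`. -/
def translGroup (x : G) (K R : Subgroup G) (hx : x * x = 1) : Subgroup G :=
  moveGroup x K R hx ⊓ Subgroup.centralizer (R : Set G)

namespace LinearLine

variable (L : LinearLine D a x K R J)
include L

theorem mem_translGroup {k : G} :
    k ∈ translGroup x K R L.sq_x ↔ k ∈ moveGroup x K R L.sq_x ∧ ∀ r ∈ R, Commute k r := by
  rw [translGroup, Subgroup.mem_inf]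
  exact and_congr_right fun _ =>
    ⟨fun hk r hr => (Subgroup.mem_centralizer_iff.1 hk r hr).symm,
      fun hk => Subgroup.mem_centralizer_iff.2 fun r hr => (hk r hr).eq.symm⟩

theorem conj_translGroup {g : G} (hga : g • a = a) (hgx : Commute x g)
    (hgR : g ∈ Subgroup.normalizer (R : Set G)) {k : G} (hk : k ∈ translGroup x K R L.sq_x) :
    g * k * g⁻¹ ∈ translGroup x K R L.sq_x := by
  obtain ⟨h1, h2⟩ := L.mem_translGroup.1 hk
  refine L.mem_translGroup.2 ⟨L.conj_moveGroup hga hgx hgR h1, fun r hr => ?_⟩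
  have hr' : g⁻¹ * r * g ∈ R := (Subgroup.mem_normalizer_iff''.1 hgR r).1 hr
  have := (h2 _ hr').map (MulAut.conj g).toMonoidHom
  simpa [mul_assoc] using this

theorem R_le_translGroup : R ≤ translGroup x K R L.sq_x := fun r hr =>
  L.mem_translGroup.2 ⟨L.le_moveGroup hr, fun _ hs => L.comm_R hr hs⟩

/-- One translation centralising `R` gives all of them. -/
theorem transl_onto {k : G} (hk : k ∈ translGroup x K R L.sq_x) (hk1 : shift x k ≠ 1) {r : G}
    (hr : r ∈ R) : ∃ g ∈ translGroup x K R L.sq_x, shift x g = r := by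
  by_cases hr1 : r = 1
  · exact ⟨1, one_mem _, (shift_one L.sq_x).trans hr1.symm⟩
  obtain ⟨j, hj, hjr⟩ := L.trans_J _ (L.mem_translGroup.1 hk).1.2.2 r hr hk1 hr1
  exact ⟨j * k * j⁻¹, L.conj_translGroup (L.fix_J j hj) (L.comm_J j hj) (L.norm_J hj) hk,
    by rw [shift_conj (L.comm_J j hj), hjr]⟩

/-- The torus in the normaliser of translations centralising `R`. -/
theorem exists_torus (T : Translations x R (translGroup x K R L.sq_x) V P) {r s : G} (hr : r ∈ R)
    (hs : s ∈ R) (hr1 : r ≠ 1) (hs1 : s ≠ 1) :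
    ∃ g : G, Commute x g ∧ g * r * g⁻¹ = s ∧ ∀ p ∈ P, g * p * g⁻¹ ∈ P := by
  haveI : Fact (Nat.Prime 2) := ⟨Nat.prime_two⟩
  obtain ⟨j, hj, hjr⟩ := L.trans_J r hr s hs hr1 hs1
  set N := translGroup x K R L.sq_x with hN
  let Q : Sylow 2 ↥N := (T.pgroup.of_equiv (Subgroup.subgroupOfEquivOfLe T.le).symm).toSylow
    (fun hd => Nat.not_even_iff_odd.2 T.sylow (even_iff_two_dvd.2 hd))
  have hjP : P.map (MulAut.conj j).toMonoidHom ≤ N := by
    rintro _ ⟨p, hp, rfl⟩
    exact L.conj_translGroup (L.fix_J j hj) (L.comm_J j hj) (L.norm_J hj) (T.le hp)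
  obtain ⟨k, hk⟩ := Involution.Basic.exists_conj_le Q
    ((T.pgroup.map _).of_equiv (Subgroup.subgroupOfEquivOfLe hjP).symm)
  obtain ⟨hkm, hkc⟩ := L.mem_translGroup.1 k.2
  obtain ⟨p₀, hp₀, hp₀k⟩ := T.onto _ hkm.2.2
  have hc : Commute x (p₀⁻¹ * k) := (shift_eq_iff L.sq_x).1 hp₀k
  refine ⟨p₀⁻¹ * k * j, hc.mul_right (L.comm_J j hj), ?_, fun p hp => ?_⟩
  · calc p₀⁻¹ * (k : G) * j * r * (p₀⁻¹ * (k : G) * j)⁻¹
        = (p₀⁻¹ * k) * (j * r * j⁻¹) * (p₀⁻¹ * k)⁻¹ := by group
      _ = s := by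
        rw [hjr, (((L.mem_translGroup.1 (T.le hp₀)).2 s hs).inv_left.mul_left (hkc s hs)).eq,
          mul_inv_cancel_right]
  · have hmem : j * p * j⁻¹ ∈ P.map (MulAut.conj j).toMonoidHom := ⟨p, hp, rfl⟩
    have h1 : (k : G) * (j * p * j⁻¹) * (k : G)⁻¹ ∈ P := hk ⟨_, hjP hmem⟩ hmem
    rw [show p₀⁻¹ * (k : G) * j * p * (p₀⁻¹ * (k : G) * j)⁻¹ =
      p₀⁻¹ * ((k : G) * (j * p * j⁻¹) * (k : G)⁻¹) * p₀ by group]
    exact mul_mem (mul_mem (inv_mem hp₀) h1) hp₀

variable (h : ClosedSetting D Ω) (hnf : NoFull D Ω)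
include h hnf

/-- `x` and `y` cannot both be twins over translations centralising `R` if `x y` is one. -/
theorem false_of_twins_transl (T : Translations x R (translGroup x K R L.sq_x) V P)
    (hV : IsPGroup 2 V) (hVC : V ≤ stabilizer G a ⊓ Subgroup.centralizer ({x} : Set G))
    (hxV : x ∈ V) (hyV : y ∈ V) (hb : x • b = b) (hba : b ≠ a) (hyb : y • b = b)
    (Wx : Twin Ω x R P x) (Wy : Twin Ω x R P y) (Wz : Twin Ω x R P (x * y)) : False := by
  haveI : Fact (Nat.Prime 2) := ⟨Nat.prime_two⟩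
  set N := translGroup x K R L.sq_x with hN
  have hNm : N ≤ moveGroup x K R L.sq_x := inf_le_left
  have hPK : P ≤ K := fun p hp => (hNm (T.le hp)).1
  have hPR : ∀ p ∈ P, ∀ r ∈ R, Commute p r := fun p hp => (L.mem_translGroup.1 (T.le hp)).2
  have hPa : P ≤ stabilizer G a := hPK.trans L.point.le
  have hsup : IsPGroup 2 ↥(P ⊔ V) := T.pgroup.to_sup_of_normal_left' hV T.inv
  obtain ⟨S, hS, hle⟩ := exists_top_two hsup (sup_le hPa (hVC.trans inf_le_left))
  have hPS : P ≤ S := le_sup_left.trans hle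
  have hVS : V ≤ S := le_sup_right.trans hle
  have hTS : IsPGroup 2 ↥(S ⊓ K) := hS.1.to_le inf_le_left
  have hPT : P ≤ S ⊓ K := le_inf hPS hPK
  have hgrow : ∀ w, Twin Ω x R P w → w ∈ S → ¬ S ⊓ K ≤ P →
      ∃ t ∈ P, t ∉ R ∧ w * t * w = t⁻¹ := by
    intro w W hwS hlt
    have hw := Dihedral.mul_self W.ord
    obtain ⟨g, hg, hgP, -, hgd⟩ := exists_growth hw hwS hS.1 (fun k hk => W.conj_K L h hk)
      (W.notMem_K L h) hPT (fun v hv => by
        have := (Subgroup.mem_normalizer_iff.1 W.norm v).1 hv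
        rwa [Dihedral.inv_eq W.ord] at this) hlt
    refine ⟨disp w g, hgd, fun hdR => hgP (W.mem_P L h T hNm hTS inf_le_right hPT hg
      (by rw [shift_disp]; exact hdR)), ?_⟩
    refine eq_inv_of_mul_eq_one_left ?_
    have h1 := conj_eq_mul_shift hw g
    rw [shift_disp] at h1
    calc w * disp w g * w * disp w g = (w * disp w g) * (w * disp w g) := by group
      _ = g * (w * w) * g⁻¹ := by rw [← h1]; group
      _ = 1 := by rw [hw, mul_one, mul_inv_cancel]
  have hconj : ∀ p ∈ P, ∀ t ∈ P, shift x t ≠ 1 → shift x p ≠ 1 →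
      ∃ g : G, Commute x g ∧ g * t * g⁻¹ ∈ P ∧ (g * t * g⁻¹)⁻¹ * p ∈ R := by
    intro p hp t ht ht1 hp1
    obtain ⟨g, hgx, hgr, hgP⟩ := L.exists_torus T (Wx.shift_mem t ht) (Wx.shift_mem p hp) ht1 hp1
    exact ⟨g, hgx, hgP t ht, T.eq_R _ (mul_mem (inv_mem (hgP t ht)) hp)
      ((shift_eq_iff L.sq_x).1 (by rw [shift_conj hgx, hgr]))⟩
  have hne1 : ∀ {t : G}, t ∈ P → t ∉ R → shift x t ≠ 1 := fun ht htR e =>
    htR (T.eq_R _ ht ((shift_eq_one L.sq_x).1 e))
  by_cases hA : ∃ e ∈ P, e ∉ R ∧ e * e = 1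
  · obtain ⟨e, he, heR, hee⟩ := hA
    -- `P` is elementary
    have hsq : ∀ p ∈ P, p * p = 1 := by
      intro p hp
      by_cases hpR : p ∈ R
      · exact L.sq p hpR
      obtain ⟨g, -, hgP, hgR⟩ := hconj p hp e he (hne1 he heR) (hne1 hp hpR)
      have e1 : p = (g * e * g⁻¹) * ((g * e * g⁻¹)⁻¹ * p) := (mul_inv_cancel_left _ _).symm
      rw [e1, (hPR _ hgP _ hgR).symm.mul_mul_mul_comm, L.sq _ hgR,
        show g * e * g⁻¹ * (g * e * g⁻¹) = g * (e * e) * g⁻¹ by group, hee]
      group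
    have hTP : S ⊓ K ≤ P := by
      by_contra hlt
      obtain ⟨t, ht, htR, hti⟩ := hgrow x Wx (hVS hxV) hlt
      rw [inv_eq_of_mul_eq_one_right (hsq t ht)] at hti
      refine htR (T.eq_R t ht ?_)
      show x * t = t * x
      calc x * t = x * t * x * x := by rw [mul_assoc _ x x, L.sq_x, mul_one]
        _ = t * x := by rw [hti]
    have hPeq : S ⊓ K = P := le_antisymm hTP hPT
    have hodd : Odd (P.relIndex K) := hPeq ▸ odd_relIndex_inf L.point.le L.point.conj hS
    have hmemZ : ∀ p ∈ P, p ∈ omCentre P := fun p hp => ⟨hp, hsq p hp, fun s hs => by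
      show p * s = s * p
      calc p * s = (p * s)⁻¹ := (inv_eq_of_mul_eq_one_right (hsq _ (mul_mem hp hs))).symm
        _ = s⁻¹ * p⁻¹ := mul_inv_rev p s
        _ = s * p := by rw [inv_eq_of_mul_eq_one_right (hsq s hs),
            inv_eq_of_mul_eq_one_right (hsq p hp)]⟩
    set U := V ⊓ stabilizer G b with hU
    have hUN : U ≤ Subgroup.normalizer (P : Set G) := inf_le_left.trans T.inv
    haveI hcyc := L.point.isCyclic_autImage h T.pgroup hPK hodd hba.symm (hV.to_le inf_le_left)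
      (le_inf (inf_le_left.trans (hVC.trans inf_le_left)) inf_le_right : U ≤ _) hUN
    set f := (omCentre P).normalizerMonoidHom with hf
    have hxU : x ∈ U := ⟨hxV, mem_stabilizer_iff.2 hb⟩
    have hyU : y ∈ U := ⟨hyV, mem_stabilizer_iff.2 hyb⟩
    have hUZ : U ≤ Subgroup.normalizer (omCentre P : Set G) :=
      hUN.trans (normalizer_le_omCentre P)
    let img : ∀ w ∈ U, ↥(autImage U (omCentre P)) := fun w hw =>
      ⟨f ⟨w, hUZ hw⟩, Subgroup.mem_map_of_mem f (show (⟨w, hUZ hw⟩ : _) ∈ U.subgroupOf _ from hw)⟩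
    have hsqi : ∀ w (hw : w ∈ U), w * w = 1 → img w hw * img w hw = 1 := fun w hw hww =>
      Subtype.ext (by
        show f ⟨w, hUZ hw⟩ * f ⟨w, hUZ hw⟩ = 1
        rw [← map_mul, show (⟨w, hUZ hw⟩ : ↥(Subgroup.normalizer (omCentre P : Set G))) *
          ⟨w, hUZ hw⟩ = 1 from Subtype.ext hww, map_one])
    have hnei : ∀ w (hw : w ∈ U), Twin Ω x R P w → img w hw ≠ 1 := fun w hw W e => by
      refine L.not_all_comm T fun p hp => W.mem_R L h T.pgroup hPK T.R_le hp ?_
      have h1 := congrArg Subtype.val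
        (DFunLike.congr_fun (congrArg Subtype.val e) ⟨p, hmemZ p hp⟩)
      simp only [img, hf, Subgroup.normalizerMonoidHom_apply_apply_coe, OneMemClass.coe_one,
        MulAut.one_apply] at h1
      exact mul_inv_eq_iff_eq_mul.1 h1
    have heq := eq_of_mul_self_cyclic (hsqi x hxU L.sq_x) (hsqi y hyU (Dihedral.mul_self Wy.ord))
      (hnei x hxU Wx) (hnei y hyU Wy)
    refine L.not_all_comm T fun p hp => Wz.mem_R L h T.pgroup hPK T.R_le hp ?_
    have h1 := congrArg Subtype.val
      (DFunLike.congr_fun (congrArg Subtype.val heq) ⟨p, hmemZ p hp⟩)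
    simp only [img, hf, Subgroup.normalizerMonoidHom_apply_apply_coe] at h1
    have hxinv : x⁻¹ = x := inv_eq_of_mul_eq_one_right L.sq_x
    show x * y * p = p * (x * y)
    calc x * y * p = x * (y * p * y⁻¹) * y := by group
      _ = x * (x * p * x⁻¹) * y := by rw [h1]
      _ = (x * x) * p * (x⁻¹ * y) := by group
      _ = p * (x * y) := by rw [L.sq_x, one_mul, hxinv]
  · push Not at hA
    have hlt : ¬ S ⊓ K ≤ P := by
      intro hTP
      refine hnf x ⟨L.bad, a, S, hS, hVS hxV, fun d hd hdS => ?_⟩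
      have hda : d • a = a := mem_stabilizer_iff.1 (hS.2.1 hdS)
      have hdP := hTP (Subgroup.mem_inf.2 ⟨hdS, L.point.dat_le d ⟨hd, hda⟩⟩)
      exact L.comm d (by_contra fun hR => hA d hdP hR (h.mul_self hd))
    obtain ⟨t, ht, htR, hti⟩ := hgrow x Wx (hVS hxV) hlt
    -- `x` inverts all of `P`
    have hinv : ∀ p ∈ P, x * p * x = p⁻¹ := by
      intro p hp
      by_cases hpR : p ∈ R
      · rw [(L.comm p hpR).eq, mul_assoc, L.sq_x, mul_one,
          inv_eq_of_mul_eq_one_right (L.sq p hpR)]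
      obtain ⟨g, hgx, hgP, hgR⟩ := hconj p hp t ht (hne1 ht htR) (hne1 hp hpR)
      set r := (g * t * g⁻¹)⁻¹ * p
      have e1 : p = (g * t * g⁻¹) * r := (mul_inv_cancel_left _ _).symm
      have e2 : x * (g * t * g⁻¹) * x = (g * t * g⁻¹)⁻¹ := by
        calc x * (g * t * g⁻¹) * x = (x * g) * t * (g⁻¹ * x) := by group
          _ = g * (x * t * x) * g⁻¹ := by rw [hgx.eq, ← hgx.inv_right.eq]; group
          _ = _ := by rw [hti]; group
      rw [e1, mul_inv_rev, inv_eq_of_mul_eq_one_right (L.sq r hgR)]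
      calc x * (g * t * g⁻¹ * r) * x = x * (g * t * g⁻¹) * (x * r) := by
            rw [mul_assoc x (g * t * g⁻¹ * r) x, mul_assoc _ r x, ← (L.comm r hgR).eq]; group
        _ = r * (g * t * g⁻¹)⁻¹ := by
            rw [← mul_assoc, e2, ((hPR _ hgP r hgR).inv_left).eq]
    obtain ⟨s, hs, hsR, hsi⟩ := hgrow y Wy (hVS hyV) hlt
    refine hsR (Wz.mem_R L h T.pgroup hPK T.R_le hs ?_)
    show x * y * s = s * (x * y)
    calc x * y * s = x * y * s * (y * y) := by rw [Dihedral.mul_self Wy.ord, mul_one]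
      _ = x * (y * s * y) * y := by group
      _ = x * s⁻¹ * y := by rw [hsi]
      _ = x * (x * s * x) * y := by rw [hinv s hs]
      _ = (x * x) * s * (x * y) := by group
      _ = s * (x * y) := by rw [L.sq_x, one_mul]

end LinearLine

end CfsgLib.LocalEven.OnePointFront.Nonfull
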