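import Cfsg.Agent.Lib.LocalEven.OnePointFront.Nonfull.Linear.CyclicBase

/-!
# Linear lines: involutions with the same fixed points as `x`

`y` is a twin of `x` over a group `P` of translations if it is an involution commuting with `x` and
`R`, has the fixed points of `x` and moves by elements of `P` only inside `y R`.  A twin induces
every translation on `P`, and in the point group only elements of `R` commute with it.  The
2-elements at two fixed points of `x` centralising `x` and `R` are twins.
-/

set_option autoImplicit false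
set_option linter.style.haveILetI false
set_option linter.unusedSectionVars false

namespace CfsgLib.LocalEven.OnePointFront.Nonfull

open MulAction CfsgLib.LocalEven.TIEndgame CfsgLib.Involution

universe u

variable {G Ω : Type u} [Group G] [MulAction G Ω] {D : Set G} {a b : Ω} {x y w : G}
  {K R J N V P : Subgroup G}

/-- An involution behaving like `x` on the translations `P`. -/
structure Twin (Ω : Type u) [MulAction G Ω] (x : G) (R P : Subgroup G) (w : G) : Prop where
  ord : orderOf w = 2
  comm_x : Commute x w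
  comm_R : ∀ r ∈ R, Commute w r
  fix_iff : ∀ c : Ω, w • c = c ↔ x • c = c
  shift_mem : ∀ p ∈ P, shift w p ∈ R
  norm : w ∈ Subgroup.normalizer (P : Set G)

namespace LinearLine

variable (L : LinearLine D a x K R J)
include L

/-- Not every translation is trivial. -/
theorem not_all_comm [Finite G] (T : Translations x R N V P) : ¬ ∀ p ∈ P, p ∈ R := by
  intro hall
  obtain ⟨r, hr, -, -, hr1, -, -⟩ := L.exists_pair
  obtain ⟨p, hp, hpr⟩ := T.onto r hr
  exact hr1 (by rw [← hpr, shift_eq_one L.sq_x]; exact L.comm p (hall p hp))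

/-- An element fixing `a` and another fixed point of `x`, centralising `R`, fixes all of them. -/
theorem fix_of_comm (hya : y • a = a) (hb : x • b = b) (hba : b ≠ a) (hyb : y • b = b)
    (hyR : ∀ r ∈ R, Commute y r) : ∀ c : Ω, x • c = c → y • c = c := by
  intro c hc
  by_cases hca : c = a
  · rw [hca, hya]
  obtain ⟨r, hr, rfl⟩ := L.trans b c hb hc hba hca
  rw [← mul_smul, (hyR r hr).eq, mul_smul, hyb]

/-- An element of `moveGroup` times `g` of the centraliser of `x` normalising `R`. -/
theorem conj_moveGroup {g : G} (hga : g • a = a) (hgx : Commute x g)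
    (hgR : g ∈ Subgroup.normalizer (R : Set G)) {k : G} (hk : k ∈ moveGroup x K R L.sq_x) :
    g * k * g⁻¹ ∈ moveGroup x K R L.sq_x := by
  obtain ⟨h1, h2, h3⟩ := mem_moveGroup.1 hk
  refine mem_moveGroup.2 ⟨L.point.conj g (mem_stabilizer_iff.2 hga) k h1,
    mul_mem (mul_mem hgR h2) (inv_mem hgR), ?_⟩
  rw [shift_conj hgx]
  exact (Subgroup.mem_normalizer_iff.1 hgR _).1 h3

end LinearLine

namespace Twin

variable [Finite G] [Finite Ω] (W : Twin Ω x R P w) (L : LinearLine D a x K R J)
  (h : ClosedSetting D Ω)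
include W L h

theorem bad : IsBad Ω w := by
  obtain ⟨-, p, q, hpq, hp, hq⟩ := L.bad
  exact ⟨W.ord, p, q, hpq, (W.fix_iff p).2 hp, (W.fix_iff q).2 hq⟩

theorem notMem_K : w ∉ K := fun hk => by
  obtain ⟨-, p, q, hpq, hp, hq⟩ := W.bad L h
  exact hpq (h.fixed_unique w (L.point.invol_mem w hk W.ord).1 p q hp hq)

theorem conj_K {k : G} (hk : k ∈ K) : w * k * w ∈ K := by
  have := L.point.conj w (mem_stabilizer_iff.2 ((W.fix_iff a).2 L.fix)) k hk
  rwa [Dihedral.inv_eq W.ord] at this

/-- A 2-element of the point group over `R` commuting with a twin is in `R`. -/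
theorem mem_R {U : Subgroup G} (hU : IsPGroup 2 U) (hUK : U ≤ K) (hRU : R ≤ U) {u : G}
    (hu : u ∈ U) (hwu : Commute w u) : u ∈ R :=
  L.mem_R h hU hUK hRU W.fix_iff hu hwu

variable {N V : Subgroup G} (T : Translations x R N V P) (hN : N ≤ moveGroup x K R L.sq_x)
include T hN

/-- A twin induces every translation. -/
theorem onto {r : G} (hr : r ∈ R) : ∃ p ∈ P, shift w p = r := by
  choose f hf hfr using T.onto
  let g : R → R := fun s => ⟨shift w (f s s.2), W.shift_mem _ (hf s s.2)⟩
  have hw := Dihedral.mul_self W.ord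
  have hg : Function.Injective g := by
    intro s t hst
    have h1 : Commute w ((f s s.2)⁻¹ * f t t.2) := (shift_eq_iff hw).1 (congrArg Subtype.val hst)
    have h2 := W.mem_R L h T.pgroup (fun p hp => (mem_moveGroup.1 (hN (T.le hp))).1) T.R_le
      (mul_mem (inv_mem (hf s s.2)) (hf t t.2)) h1
    have h3 := (shift_eq_iff L.sq_x).2 (L.comm _ h2)
    rw [hfr, hfr] at h3
    exact Subtype.ext h3
  obtain ⟨s, hs⟩ := Finite.injective_iff_surjective.1 hg ⟨r, hr⟩
  exact ⟨f s s.2, hf s s.2, congrArg Subtype.val hs⟩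

/-- In a 2-group of the point group over `P` an element moving a twin inside its translations lies
in `P`. -/
theorem mem_P {U : Subgroup G} (hU : IsPGroup 2 U) (hUK : U ≤ K) (hPU : P ≤ U) {g : G}
    (hg : g ∈ U) (hgR : shift w g ∈ R) : g ∈ P := by
  obtain ⟨p, hp, hpg⟩ := W.onto L h T hN hgR
  have h1 : Commute w (p⁻¹ * g) := (shift_eq_iff (Dihedral.mul_self W.ord)).1 hpg
  have h2 := T.R_le (W.mem_R L h hU hUK (T.R_le.trans hPU) (mul_mem (inv_mem (hPU hp)) hg) h1)
  have := mul_mem hp h2
  rwa [mul_inv_cancel_left] at this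

end Twin

namespace LinearLine

variable [Finite G] [Finite Ω] (L : LinearLine D a x K R J) (h : ClosedSetting D Ω)
include L h

/-- `x` is its own twin. -/
theorem twin_self (T : Translations x R N V P) (hN : N ≤ moveGroup x K R L.sq_x) (hxV : x ∈ V) :
    Twin Ω x R P x where
  ord := L.bad.1
  comm_x := Commute.refl x
  comm_R := L.comm
  fix_iff _ := Iff.rfl
  shift_mem p hp := (mem_moveGroup.1 (hN (T.le hp))).2.2
  norm := T.inv hxV

/-- Non-trivial elements of `V` at `a`, `b` centralising `R` are twins. -/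
theorem twin_of_mem (hmax : MaxLine Ω R x) (T : Translations x R N V P)
    (hN : N ≤ moveGroup x K R L.sq_x) (hV : IsPGroup 2 V)
    (hVC : V ≤ stabilizer G a ⊓ Subgroup.centralizer ({x} : Set G))
    (hb : x • b = b) (hba : b ≠ a) (hy : y ∈ V) (hy1 : y ≠ 1) (hyb : y • b = b)
    (hyR : ∀ r ∈ R, Commute y r) : Twin Ω x R P y := by
  have hxy : Commute x y := (Subgroup.mem_centralizer_singleton_iff.1 (hVC hy).2).symm
  have hfix := L.fix_of_comm (mem_stabilizer_iff.1 (hVC hy).1) hb hba hyb hyR
  have hPK : P ≤ K := fun p hp => (mem_moveGroup.1 (hN (T.le hp))).1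
  have hmove : ∀ p ∈ P, p⁻¹ * (y * p * y⁻¹) ∈ R := by
    intro p hp
    refine T.eq_R _ (mul_mem (inv_mem hp) ((Subgroup.mem_normalizer_iff.1 (T.inv hy) p).1 hp)) ?_
    rw [← shift_eq_iff L.sq_x, shift_conj hxy]
    rw [(hyR _ (mem_moveGroup.1 (hN (T.le hp))).2.2).eq, mul_inv_cancel_right]
  have hcomm2 : ∀ p ∈ P, Commute (y * y) p := by
    intro p hp
    have h1 := hmove p hp
    set r := p⁻¹ * (y * p * y⁻¹)
    have h2 : y * p * y⁻¹ = p * r := (mul_inv_cancel_left p _).symm
    refine mul_inv_eq_iff_eq_mul.1 ?_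
    calc y * y * p * (y * y)⁻¹ = y * (y * p * y⁻¹) * y⁻¹ := by group
      _ = y * p * (r * y⁻¹) := by rw [h2]; group
      _ = (y * p * y⁻¹) * r := by rw [← ((hyR r h1).inv_left).eq]; group
      _ = p := by rw [h2, mul_assoc, L.sq r h1, mul_one]
  have hyy : y * y = 1 := by
    by_contra hne
    obtain ⟨n, hn⟩ := hV ⟨y, hy⟩
    have hfin : ∃ m : ℕ, (y * y) ^ 2 ^ m ≠ 1 ∧ ((y * y) ^ 2 ^ m) ^ 2 = 1 := by
      have hn' : (y * y) ^ 2 ^ n = 1 := by
        rw [(Commute.refl y).mul_pow, show y ^ 2 ^ n = 1 from congrArg Subtype.val hn, one_mul]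
      classical
      have hex : ∃ m, (y * y) ^ 2 ^ m = 1 := ⟨n, hn'⟩
      have hpos : Nat.find hex ≠ 0 := fun e => hne (by
        have := Nat.find_spec hex
        rwa [e, pow_zero, pow_one] at this)
      obtain ⟨m, hm⟩ := Nat.exists_eq_succ_of_ne_zero hpos
      refine ⟨m, fun e => Nat.find_min hex (by omega) e, ?_⟩
      rw [← pow_mul, ← pow_succ, show m + 1 = Nat.find hex by omega]
      exact Nat.find_spec hex
    obtain ⟨m, hu1, hu2⟩ := hfin
    set u := (y * y) ^ 2 ^ m with hu
    have huR : ∀ r ∈ R, Commute u r := fun r hr =>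
      ((hyR r hr).mul_left (hyR r hr)).pow_left _
    have hufix : ∀ c : Ω, x • c = c → u • c = c := fun c hc => by
      have : y * y ∈ stabilizer G c := mem_stabilizer_iff.2 (by rw [mul_smul, hfix c hc, hfix c hc])
      exact mem_stabilizer_iff.1 (pow_mem this _)
    have heq := L.fixed_eq hmax (orderOf_eq_prime hu2 hu1) huR hufix
    exact L.not_all_comm T fun p hp =>
      L.mem_R h T.pgroup hPK T.R_le heq hp ((hcomm2 p hp).pow_left _)
  have hord : orderOf y = 2 := orderOf_eq_prime (by rw [pow_two, hyy]) hy1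
  refine ⟨hord, hxy, hyR, L.fixed_eq hmax hord hyR hfix, fun p hp => ?_, T.inv hy⟩
  have h1 := hmove p hp
  have h2 : shift y p = p * (p⁻¹ * (y * p * y⁻¹)) * p⁻¹ := by
    rw [shift, Dihedral.inv_eq hord]
    group
  rw [h2]
  exact (Subgroup.mem_normalizer_iff.1 (mem_moveGroup.1 (hN (T.le hp))).2.1 _).1 h1

end LinearLine

end CfsgLib.LocalEven.OnePointFront.Nonfull
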