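import Cfsg.Agent.Lib.LocalEven.OnePointFront.Nonfull.BStar

/-!
# Linear lines of bad involutions: interfaces

`K` is a point group at `a`.  The line of the bad involution `x` is linear: a group `R` of members at
`a` centralised by `x` is regular on the other fixed points of `x`, and `J` induces on `R` a group that
is commutative and transitive on the members.  The aim is that, for a suitable maximal 2-subgroup `S`,
the image of `S` modulo `K` is cyclic, against transfer.

* `OneClassHyp` is the piece "one class": some maximal 2-subgroup `S ⊇ R⟨x⟩` has a single class of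
  conjugates of `x` in `x(S ⊓ K)`.
* `CyclicHyp` is the piece "cyclic centraliser": 2-subgroups of `C(x)` at `a` are cyclic modulo `K`.
-/

set_option autoImplicit false

namespace CfsgLib.LocalEven.OnePointFront.Nonfull

open MulAction CfsgLib.LocalEven.TIEndgame

universe u v

variable {G : Type u} {Ω : Type v} [Group G] [MulAction G Ω]

/-- Two commuting members at a point of `y` commute with `y`: its line has at least four translations. -/
def BigLine (D : Set G) (Ω : Type v) [MulAction G Ω] (y : G) : Prop :=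
  ∃ c : Ω, y • c = c ∧ ∃ r ∈ dat D c, ∃ s ∈ dat D c, r ≠ s ∧ Commute r s ∧ Commute y r ∧ Commute y s

/-- `x` has the most fixed points among the bad involutions centralising its members `R`.  This holds
if `x` is chosen maximal first for the size of `R`, then for the number of fixed points. -/
def MaxLine (Ω : Type v) [MulAction G Ω] (R : Subgroup G) (x : G) : Prop :=
  ∀ y : G, IsBad Ω y → (∀ r ∈ R, Commute y r) →
    Nat.card (fixedBy Ω y) ≤ Nat.card (fixedBy Ω x)

/-- The linear line of the bad involution `x` at `a`. -/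
structure LinearLine (D : Set G) (a : Ω) (x : G) (K R J : Subgroup G) : Prop where
  bad : IsBad Ω x
  fix : x • a = a
  point : PointGroup D a K
  four : 4 ≤ Nat.card R
  sq : ∀ r ∈ R, r * r = 1
  member : ∀ r ∈ R, r ≠ 1 → r ∈ dat D a
  comm : ∀ r ∈ R, Commute x r
  /-- `R` is transitive on the other fixed points of `x` -/
  trans : ∀ b c : Ω, x • b = b → x • c = c → b ≠ a → c ≠ a → ∃ r ∈ R, r • b = c
  fix_J : ∀ j ∈ J, j • a = a
  comm_J : ∀ j ∈ J, Commute x j
  norm_J : J ≤ Subgroup.normalizer (R : Set G)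
  /-- on `R` the group `J` is commutative -/
  abel_J : ∀ i ∈ J, ∀ j ∈ J, ∀ r ∈ R, i * (j * r * j⁻¹) * i⁻¹ = j * (i * r * i⁻¹) * j⁻¹
  trans_J : ∀ r ∈ R, ∀ s ∈ R, r ≠ 1 → s ≠ 1 → ∃ j ∈ J, j * r * j⁻¹ = s
  /-- the elements at `a` centralising `x` and normalising `R` normalise `J` -/
  conj_J : ∀ g : G, g • a = a → Commute x g → g ∈ Subgroup.normalizer (R : Set G) →
    ∀ j ∈ J, g * j * g⁻¹ ∈ J
  core_J : J ≤ coreOf D (Subgroup.centralizer ({x} : Set G))
  /-- on the line the members at `a` are those in `R` -/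
  line_members : ∀ d ∈ dat D a, Commute x d → ∃ r ∈ R, ∀ c : Ω, x • c = c → d • c = r • c

/-- The conjugates of `x` by `S` lying in `x (S ⊓ K)` are conjugates by `S ⊓ K`. -/
def OneClass (K S : Subgroup G) (x : G) : Prop :=
  ∀ s ∈ S, (∃ t ∈ S ⊓ K, s * x * s⁻¹ = x * t) → ∃ t ∈ S ⊓ K, t * x * t⁻¹ = s * x * s⁻¹

/-- `V` is cyclic modulo `K`. -/
def CyclicMod (K V : Subgroup G) : Prop := ∃ c ∈ V, ∀ v ∈ V, ∃ n : ℕ, (c ^ n)⁻¹ * v ∈ K

/-- One class of conjugates for a suitable maximal 2-subgroup. -/
def OneClassHyp (D : Set G) (Ω : Type v) [MulAction G Ω] : Prop :=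
  ∀ (a : Ω) (x : G) (K R J : Subgroup G), LinearLine D a x K R J →
    ∃ S : Subgroup G, IsTopTwo S a ∧ x ∈ S ∧ R ≤ S ∧ OneClass K S x

/-- The centraliser of `x` is cyclic modulo `K`. -/
def CyclicHyp (D : Set G) (Ω : Type v) [MulAction G Ω] : Prop :=
  ∀ (a : Ω) (x : G) (K R J : Subgroup G), LinearLine D a x K R J → MaxLine Ω R x →
    ∀ V : Subgroup G, IsPGroup 2 V → V ≤ stabilizer G a ⊓ Subgroup.centralizer ({x} : Set G) →
      CyclicMod K V

end CfsgLib.LocalEven.OnePointFront.Nonfull
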