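import Cfsg.Agent.Lib.LocalEven.OnePointFront.Nonfull.Linear.Data
import Cfsg.Agent.Lib.LocalEven.OnePointFront.Line
import Cfsg.Agent.Lib.LocalEven.OnePointFront.Kernel
import Cfsg.Agent.Lib.LocalEven.TIEndgame.Line.Torus

/-!
# The big line of a bad involution

In a least configuration the core of the centraliser of a bad involution `x` with a big line at `a`
acts on the fixed points of `x` with a rank-one set-up and with a kernel of odd order.  The
involutions at `a` of the image lift to an elementary abelian group `R` of members at `a`; with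
`q = |R|` the number of fixed points is `q ^ i + 1` with `i ≤ 3`, and the line is linear if `i = 1`.
-/

set_option autoImplicit false
set_option linter.style.haveILetI false

open Cfsg

namespace CfsgLib.LocalEven.OnePointFront.Nonfull

open MulAction CfsgLib.LocalEven.TIEndgame CfsgLib.Involution CfsgLib.RankOne

universe u

/-- The group of members at `a` inducing the involutions at `a` of the line of `x`. -/
structure LineGroup {G Ω : Type u} [Group G] [MulAction G Ω] (D : Set G) (a : Ω) (x : G)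
    (R : Subgroup G) : Prop where
  four : 4 ≤ Nat.card R
  sq : ∀ r ∈ R, r * r = 1
  member : ∀ r ∈ R, r ≠ 1 → r ∈ dat D a
  comm : ∀ r ∈ R, Commute x r
  core : R ≤ coreOf D (Subgroup.centralizer ({x} : Set G))
  /-- only the identity fixes all the fixed points of `x` -/
  eq_one : ∀ r ∈ R, (∀ c : Ω, x • c = c → r • c = c) → r = 1
  line_members : ∀ d ∈ dat D a, Commute x d → ∃ r ∈ R, ∀ c : Ω, x • c = c → d • c = r • c

/-- 2-groups with the same image modulo an odd kernel are conjugate by the kernel. -/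
theorem exists_ker_conj {L M : Type*} [Group L] [Finite L] [Group M] (f : L →* M) {S T : Subgroup L}
    (hS : IsPGroup 2 S) (hT : IsPGroup 2 T) (hodd : Odd (Nat.card f.ker))
    (hle : T.map f ≤ S.map f) : ∃ k, f k = 1 ∧ ∀ t ∈ T, k * t * k⁻¹ ∈ S := by
  haveI : Fact (Nat.Prime 2) := ⟨Nat.prime_two⟩
  set E := (S.map f).comap f with hE
  have hSE : S ≤ E := fun s hs => Subgroup.mem_map_of_mem f hs
  have hTE : T ≤ E := fun t ht => hle (Subgroup.mem_map_of_mem f ht)
  have hdec : ∀ g ∈ E, ∃ s ∈ S, s⁻¹ * g ∈ f.ker := fun g hg => by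
    obtain ⟨s, hs, hsg⟩ := hg
    exact ⟨s, hs, by rw [MonoidHom.mem_ker, map_mul, map_inv, hsg, inv_mul_cancel]⟩
  have hidx : ¬ 2 ∣ (S.subgroupOf E).index := by
    set φ := f.comp E.subtype with hφ
    have hkE : f.ker ≤ E := fun k hk => by
      rw [hE, Subgroup.mem_comap, MonoidHom.mem_ker.1 hk]; exact one_mem _
    have hrange : φ.range = S.map f := by
      ext m
      constructor
      · rintro ⟨g, rfl⟩
        exact g.2
      · rintro ⟨s, hs, rfl⟩
        exact ⟨⟨s, hSE hs⟩, rfl⟩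
    have hker : Nat.card φ.ker = Nat.card f.ker := by
      rw [show φ.ker = f.ker.subgroupOf E from rfl,
        Nat.card_congr (Subgroup.subgroupOfEquivOfLe hkE).toEquiv]
    have h1 : Nat.card f.ker * Nat.card (S.map f) = Nat.card E := by
      rw [← hrange, ← Subgroup.index_ker, ← hker, Subgroup.card_mul_index]
    have h2 : Nat.card S * (S.subgroupOf E).index = Nat.card E := by
      rw [← Nat.card_congr (Subgroup.subgroupOfEquivOfLe hSE).toEquiv]
      exact Subgroup.card_mul_index _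
    have h3 : (S.subgroupOf E).index ∣ Nat.card f.ker := by
      obtain ⟨m, hm⟩ : Nat.card (S.map f) ∣ Nat.card S := S.card_map_dvd f
      refine ⟨m, ?_⟩
      haveI : Finite ↥(S.map f) := Finite.of_surjective _ (f.subgroupMap_surjective S)
      have hpos : 0 < Nat.card (S.map f) := Nat.card_pos
      rw [hm, ← h1] at h2
      exact Nat.eq_of_mul_eq_mul_left hpos (by linarith)
    exact fun h => (Nat.not_even_iff_odd.2 hodd) (even_iff_two_dvd.2 (h.trans h3))
  let P : Sylow 2 ↥E := (hS.comap_subtype (K := E)).toSylow hidx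
  obtain ⟨T', hT'⟩ := (hT.comap_subtype (K := E)).exists_le_sylow
  obtain ⟨g, hg⟩ := exists_smul_eq ↥E T' P
  obtain ⟨s, hs, hk⟩ := hdec g g.2
  refine ⟨s⁻¹ * g, hk, fun t ht => ?_⟩
  have h1 : g * (⟨t, hTE ht⟩ : ↥E) * g⁻¹ ∈ (P : Subgroup ↥E) := by
    have hm : (⟨t, hTE ht⟩ : ↥E) ∈ T' := hT' ht
    have := Subgroup.smul_mem_pointwise_smul _ (MulAut.conj g) (T' : Subgroup ↥E) hm
    rw [← hg]
    exact this
  have h2 : (g : L) * t * (g : L)⁻¹ ∈ S := h1
  rw [show s⁻¹ * (g : L) * t * (s⁻¹ * g)⁻¹ = s⁻¹ * ((g : L) * t * (g : L)⁻¹) * s by group]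
  exact mul_mem (mul_mem (inv_mem hs) h2) hs

/-- An element mapping a finite subgroup into itself normalises it. -/
theorem mem_normalizer_of_conj {L : Type*} [Group L] [Finite L] {R : Subgroup L} {g : L}
    (hg : ∀ r ∈ R, g * r * g⁻¹ ∈ R) : g ∈ Subgroup.normalizer (R : Set L) := by
  have hle : R.map (MulAut.conj g).toMonoidHom ≤ R := by
    rintro _ ⟨r, hr, rfl⟩
    exact hg r hr
  have heq := Subgroup.eq_of_le_of_card_ge hle
    (Subgroup.card_map_of_injective (MulAut.conj g).injective).ge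
  refine Subgroup.mem_normalizer_iff.2 fun y => ⟨hg y, fun hy => ?_⟩
  obtain ⟨z, hz, hzy⟩ : g * y * g⁻¹ ∈ R.map (MulAut.conj g).toMonoidHom := by rw [heq]; exact hy
  have : z = y := mul_left_cancel (mul_right_cancel hzy)
  rwa [← this]

variable {G Ω : Type u} [Group G] [Finite G] [Finite Ω] [MulAction G Ω] [FaithfulSMul G Ω]
  {D : Set G} {H : Subgroup G} {a b : Ω}

omit [Finite Ω] [FaithfulSMul G Ω] in
/-- A line at `a` gives one at each of its points. -/
theorem lineAt_move (h : ClosedSetting D Ω) (L : LineAt D H a b) {c : Ω} (hc : c ∈ ptsOf D Ω H) :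
    ∃ b' : Ω, LineAt D H c b' := by
  by_cases hca : c = a
  · exact ⟨b, hca ▸ L⟩
  obtain ⟨r, hr, s, hs, hrH, hsH, hne, hrs⟩ := L.pair
  obtain ⟨d, hd, hdH, hdc⟩ := id hc
  obtain ⟨f, hf, hfH, -⟩ := h.exists_swapper_mem (Ne.symm hca) hr hrH ⟨hd, hdc⟩ hdH
  have hmem : ∀ {y : G}, y ∈ dat D a → f * y * f⁻¹ ∈ dat D c := fun hy => by
    have := h.conj_mem_dat f hy
    rwa [show f • a = c from hf.2] at this
  exact ⟨a, L.proper, hc, L.ha, hca, f * r * f⁻¹, hmem hr, f * s * f⁻¹, hmem hs,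
    mul_mem (mul_mem hfH hrH) (inv_mem hfH), mul_mem (mul_mem hfH hsH) (inv_mem hfH),
    fun e => hne (mul_left_cancel (mul_right_cancel e)), (Commute.conj_iff f).2 hrs⟩

/-- In the core of a line the members at a point commute on the points. -/
theorem lineAt_comm (h : FrontMin G Ω D) (L : LineAt D H a b) {c : Ω} {d : G} (hd : d ∈ D)
    (hdH : d ∈ H) (hdc : d • c = c) {e : G} (he : e ∈ D) (heH : e ∈ H) (hec : e • c = c) :
    ∀ p ∈ ptsOf D Ω H, (d * e) • p = (e * d) • p := by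
  obtain ⟨b', L'⟩ := lineAt_move h.toClosedSetting L ⟨d, hd, hdH, hdc⟩
  exact L'.commute_members h ⟨hd, hdc⟩ hdH ⟨he, hec⟩ heH

/-- The kernel of the core of a line has odd order. -/
theorem lineAt_odd_kerOf (h : FrontMin G Ω D) (L : LineAt D H a b) :
    Odd (Nat.card (kerOf D Ω H)) := by
  obtain ⟨d, hd, e, he, hdH, heH, hne, hde⟩ := L.pair
  exact odd_kerOf h.toClosedSetting
    (fun _ _ hd' hdH' hdc' _ he' heH' hec' => lineAt_comm h L hd' hdH' hdc' he' heH' hec')
    (a := a) (b := b) L.hb L.ne.symm hd.1 he.1 hdH heH hd.2 he.2 hde hne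

variable {x : G}

omit [Finite Ω] in
/-- A big line is a line at each fixed point. -/
theorem exists_lineAt_of_bigLine (h : ClosedSetting D Ω) (hx : IsBad Ω x) (hbig : BigLine D Ω x)
    (hxa : x • a = a) : ∃ b : Ω, LineAt D (Subgroup.centralizer {x}) a b := by
  obtain ⟨c, hxc, r, hr, s, hs, hne, hrs, hxr, hxs⟩ := hbig
  obtain ⟨b, L⟩ := h.exists_lineAt hx hxc hr hs hxr hxs hne hrs
  exact lineAt_move h L (by rw [h.ptsOf_centralizer hx.1]; exact hxa)

/-- The members inducing the involutions at `a`, and the size of the line. -/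
theorem exists_line (h : FrontMin G Ω D) (hx : IsBad Ω x) (hbig : BigLine D Ω x) (hxa : x • a = a) :
    ∃ (R : Subgroup G) (i : ℕ), LineGroup D a x R ∧ (i = 1 ∨ i = 2 ∨ i = 3) ∧
      Nat.card (fixedBy Ω x) = Nat.card R ^ i + 1 ∧
      (i = 1 → ∃ K J : Subgroup G, LinearLine D a x K R J) := by
  haveI : Fact (Nat.Prime 2) := ⟨Nat.prime_two⟩
  have hC : ClosedSetting D Ω := h.toClosedSetting
  set H : Subgroup G := Subgroup.centralizer ({x} : Set G) with hH
  obtain ⟨b, L⟩ := exists_lineAt_of_bigLine hC hx hbig hxa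
  have hmemH : ∀ {g : G}, Commute x g → g ∈ H := fun hg =>
    Subgroup.mem_centralizer_singleton_iff.2 hg.symm.eq
  have hcommH : ∀ {g : G}, g ∈ H → Commute x g := fun hg =>
    Commute.symm (Subgroup.mem_centralizer_singleton_iff.1 hg)
  have hpts : ptsOf D Ω H = fixedBy Ω x := hC.ptsOf_centralizer hx.1
  haveI := hC.nontrivial_coreAct L.ha L.hb L.ne
  haveI : Finite ↥(hC.coreAct H) := Subtype.finite
  obtain ⟨h2, t, Q, hS⟩ := L.exists_setup h
  obtain ⟨Z, Kt, A⟩ := Small.exists_data hS h2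
  set f := hC.rho H with hf
  -- the kernel is odd
  have hodd : Odd (Nat.card f.ker) := by
    have heq : (kerOf D Ω H).subgroupOf (coreOf D H) = f.ker := by
      ext k
      rw [MonoidHom.mem_ker, hf, hC.rho_eq_one, Subgroup.mem_subgroupOf, mem_kerOf]
      exact and_iff_right k.2
    rw [← heq, Nat.card_congr (Subgroup.subgroupOfEquivOfLe
      (show kerOf D Ω H ≤ coreOf D H from inf_le_left)).toEquiv]
    exact lineAt_odd_kerOf h L
  -- the lift
  obtain ⟨S, hS2, hSZ, hlift⟩ := (hC.coreSub H).exists_lift (hC.rho_surjective H) A.isPGroup_Z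
  have hinj : ∀ g ∈ S, f g = 1 → g = 1 := fun g hg hg1 => by
    obtain ⟨k, hk⟩ := IsPGroup.exists_orderOf_eq_pow hS2 ⟨g, hg⟩
    rw [Subgroup.orderOf_mk] at hk
    have ho : Odd (orderOf g) :=
      hodd.of_dvd_nat (Subgroup.orderOf_dvd_natCard _ (MonoidHom.mem_ker.2 hg1))
    rcases k with _ | k
    · exact orderOf_eq_one_iff.1 hk
    · rw [hk] at ho
      exact absurd ho (Nat.not_odd_iff_even.2 (even_two.pow_of_ne_zero k.succ_ne_zero))
  have hinj2 : ∀ g ∈ S, ∀ g' ∈ S, f g = f g' → g = g' := fun g hg g' hg' e =>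
    mul_inv_eq_one.1 (hinj _ (mul_mem hg (inv_mem hg'))
      (by rw [map_mul, map_inv, e, mul_inv_cancel]))
  have hSf : ∀ g ∈ S, f g ∈ Z := fun g hg => hSZ ▸ Subgroup.mem_map_of_mem f hg
  have hsurj : ∀ z ∈ Z, ∃ g ∈ S, f g = z := fun z hz => by
    rw [← hSZ] at hz; exact hz
  have hfix : ∀ g ∈ S, (g : G) • a = a := fun g hg =>
    hC.rho_fix_iff.1 (mem_stabilizer_iff.1 ((A.mem_Z _).1 (hSf g hg)).1)
  have hmember : ∀ g ∈ S, g ≠ 1 → (g : G) ∈ D := by
    intro g hg hg1
    have hzz : ∀ c ∈ ptsOf D Ω H, ((g : G) * g) • c = c := hC.rho_eq_one.1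
      (show f (g * g) = 1 by rw [map_mul]; exact A.Z_sq (hSf g hg))
    rcases L.exists_member_of_sq h g.2 (hfix g hg) hzz with hall | ⟨d, hd, hdH, hdg⟩
    · exact absurd (hinj g hg (hC.rho_eq_one.2 hall)) hg1
    · have heq : f g = f ⟨d, mem_coreOf hd.1 hdH⟩ := hC.rho_eq_iff.2 hdg
      obtain ⟨k, hk, hkS⟩ := hlift ⟨d, mem_coreOf hd.1 hdH⟩ hd.1 (heq ▸ hSf g hg)
      have hgk : g = k * ⟨d, mem_coreOf hd.1 hdH⟩ * k⁻¹ := hinj2 g hg _ hkS (by
        rw [map_mul, map_mul, map_inv, hf, hk, ← hf, ← heq, inv_one, one_mul, mul_one])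
      rw [hgk]
      exact hC.conj_mem (k : G) d hd.1
  set R : Subgroup G := S.map (coreOf D H).subtype with hR
  have hmemR : ∀ {g : ↥(coreOf D H)}, (g : G) ∈ R → g ∈ S := fun hg => by
    obtain ⟨g', hg', e⟩ := hg
    exact Subtype.ext e ▸ hg'
  have hcardR : Nat.card R = Nat.card Z := by
    rw [hR, Subgroup.card_map_of_injective (coreOf D H).subtype_injective]
    refine Nat.card_eq_of_bijective (fun g : S => (⟨f g, hSf g g.2⟩ : Z))
      ⟨fun g g' e => Subtype.ext (hinj2 g g.2 g' g'.2 (congrArg Subtype.val e)), fun z => ?_⟩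
    obtain ⟨g, hg, e⟩ := hsurj z z.2
    exact ⟨⟨g, hg⟩, Subtype.ext e⟩
  have hfour : 4 ≤ Nat.card Z := by
    obtain ⟨n, hn⟩ := IsPGroup.iff_card.1 A.isPGroup_Z
    have h3 : 3 ≤ Nat.card Z := by rw [A.card_Z]; have := A.two_le_K; omega
    rcases n with _ | _ | n
    · simp [hn] at h3
    · simp [hn] at h3
    · rw [hn, pow_succ, pow_succ]; have := Nat.one_le_two_pow (n := n); omega
  have hmemberR : ∀ r ∈ R, r ≠ 1 → r ∈ dat D a := by
    rintro _ ⟨g, hg, rfl⟩ hg1
    exact ⟨hmember g hg fun e => hg1 (by rw [e]; rfl), hfix g hg⟩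
  have hline : ∀ d ∈ dat D a, Commute x d →
      ∃ r ∈ R, ∀ c : Ω, x • c = c → d • c = r • c := by
    intro d hd hxd
    have hdc := mem_coreOf hd.1 (hmemH hxd)
    obtain ⟨g, hg, e⟩ := hsurj (f ⟨d, hdc⟩) ((A.mem_Z _).2
      ⟨mem_stabilizer_iff.2 (hC.rho_fix_iff.2 hd.2), by
        rw [← map_mul, show (⟨d, hdc⟩ : ↥(coreOf D H)) * ⟨d, hdc⟩ = 1 from
          Subtype.ext (hC.mul_self hd.1), map_one]⟩)
    exact ⟨g, ⟨g, hg, rfl⟩, fun c hc => (hC.rho_eq_iff.1 e c (hpts ▸ hc : c ∈ ptsOf D Ω H)).symm⟩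
  have hG : LineGroup D a x R :=
    { four := hcardR ▸ hfour
      sq := fun r hr => by
        by_cases hr1 : r = 1
        · rw [hr1, one_mul]
        · exact hC.mul_self (hmemberR r hr hr1).1
      member := hmemberR
      comm := fun r hr => by
        obtain ⟨g, -, rfl⟩ := hr
        exact hcommH (coreOf_le D H g.2)
      core := fun r hr => by obtain ⟨g, -, rfl⟩ := hr; exact g.2
      eq_one := fun r hr hall => by
        obtain ⟨g, hg, rfl⟩ := hr
        rw [hinj g hg (hC.rho_eq_one.2 fun c hc => hall c (hpts ▸ hc : c ∈ fixedBy Ω x))]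
        rfl
      line_members := hline }
  have hcardF : Nat.card (fixedBy Ω x) = Nat.card Q + 1 := by
    rw [← hpts]
    show Nat.card ↥(hC.coreAct H) = _
    exact card_space hS
  -- the linear case
  have hlin : Nat.card Q = Nat.card Z → ∃ K J : Subgroup G, LinearLine D a x K R J := by
    intro hQZ
    have hQ : Z = Q := Subgroup.eq_of_le_of_card_ge A.Z_le_Q hQZ.le
    obtain ⟨K, hKle, hKconj, hKinv⟩ := h.good
    set J : Subgroup G := coreOf D H ⊓ stabilizer G a ⊓ Subgroup.normalizer (R : Set G) with hJ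
    have hJc : ∀ j ∈ J, j ∈ coreOf D H := fun j hj => hj.1.1
    have hJa : ∀ j ∈ J, j • a = a := fun j hj => mem_stabilizer_iff.1 hj.1.2
    -- the action on `Z` comes from the torus
    have htor : ∀ γ : ↥(hC.CoreImg H), γ • (⟨a, L.ha⟩ : ↥(hC.coreAct H)) = ⟨a, L.ha⟩ →
        ∃ d ∈ two _ (⟨a, L.ha⟩ : ↥(hC.coreAct H)) t,
          ∀ z ∈ Z, γ * z * γ⁻¹ = d * z * d⁻¹ := by
      intro γ hγ
      obtain ⟨q, hq, d, hd, rfl⟩ := exists_qd hS (mem_stabilizer_iff.2 hγ)
      refine ⟨d, hd, fun z hz => ?_⟩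
      have hcen := (A.central _ (A.conj_Z hd hz)).2 q hq
      calc q * d * z * (q * d)⁻¹ = q * (d * z * d⁻¹) * q⁻¹ := by group
        _ = d * z * d⁻¹ * q * q⁻¹ := by rw [hcen]
        _ = d * z * d⁻¹ := mul_inv_cancel_right _ _
    have hgenX : Subgroup.closure {g : ↥(hC.CoreImg H) | g * g = 1} = ⊤ :=
      top_le_iff.1 ((hC.core_gen H).symm.trans_le (Subgroup.closure_mono fun g hg =>
        (hC.coreSetting L.ha L.hb L.ne).mul_self hg))
    refine ⟨K a, J,
      { bad := hx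
        fix := hxa
        point :=
          { le := hKle a
            conj := fun g hg k hk => by
              have := hKconj g a k hk
              rwa [mem_stabilizer_iff.1 hg] at this
            dat_le := fun d hd => (hKinv a d (hC.orderOf_eq d hd.1)).2 hd
            invol_mem := fun k hk hk2 => (hKinv a k hk2).1 hk }
        four := hG.four
        sq := hG.sq
        member := hG.member
        comm := hG.comm
        trans := ?_
        fix_J := hJa
        comm_J := fun j hj => hcommH (coreOf_le D H (hJc j hj))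
        norm_J := inf_le_right
        abel_J := ?_
        trans_J := ?_
        conj_J := ?_
        core_J := hJc
        line_members := hline }⟩
    · intro p c hp hc hpa hca
      obtain ⟨γ, hγ, -⟩ := regular hS
        (b := (⟨p, show p ∈ ptsOf D Ω H by rw [hpts]; exact hp⟩ : ↥(hC.coreAct H)))
        (c := ⟨c, show c ∈ ptsOf D Ω H by rw [hpts]; exact hc⟩)
        (fun e => hpa (congrArg Subtype.val e)) fun e => hca (congrArg Subtype.val e)
      obtain ⟨g, hg, e⟩ := hsurj γ (hQ.symm ▸ γ.2)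
      refine ⟨g, ⟨g, hg, rfl⟩, ?_⟩
      have h1 := congrArg Subtype.val hγ
      rw [← e] at h1
      exact h1
    · intro i hi j hj r hr
      obtain ⟨g, hg, rfl⟩ := hr
      set i' : ↥(coreOf D H) := ⟨i, hJc i hi⟩
      set j' : ↥(coreOf D H) := ⟨j, hJc j hj⟩
      have hN : ∀ y ∈ J, ∀ r ∈ R, y * r * y⁻¹ ∈ R := fun y hy r hr =>
        (Subgroup.mem_normalizer_iff.1 hy.2 r).1 hr
      have hu : i' * (j' * g * j'⁻¹) * i'⁻¹ ∈ S :=
        hmemR (hN i hi _ (hN j hj _ ⟨g, hg, rfl⟩))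
      have hv : j' * (i' * g * i'⁻¹) * j'⁻¹ ∈ S :=
        hmemR (hN j hj _ (hN i hi _ ⟨g, hg, rfl⟩))
      refine congrArg Subtype.val (hinj2 _ hu _ hv ?_)
      obtain ⟨di, hdi, hdiz⟩ := htor (f i') (hC.rho_fix_iff.2 (hJa i hi))
      obtain ⟨dj, hdj, hdjz⟩ := htor (f j') (hC.rho_fix_iff.2 (hJa j hj))
      have hz := hSf g hg
      simp only [map_mul, map_inv]
      rw [hdjz _ hz, hdiz _ (A.conj_Z hdj hz), hdiz _ hz, hdjz _ (A.conj_Z hdi hz)]
      have hc : di * dj = dj * di := TIEndgame.Line.two_comm hS h2 hgenX hdi hdj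
      calc di * (dj * f g * dj⁻¹) * di⁻¹ = di * dj * f g * (di * dj)⁻¹ := by group
        _ = dj * di * f g * (dj * di)⁻¹ := by rw [hc]
        _ = dj * (di * f g * di⁻¹) * dj⁻¹ := by group
    · rintro _ ⟨g, hg, rfl⟩ _ ⟨g', hg', rfl⟩ hg1 hg1'
      have hne : g ≠ 1 := fun e => hg1 (by rw [e]; rfl)
      have hne' : g' ≠ 1 := fun e => hg1' (by rw [e]; rfl)
      have hinv : ∀ y ∈ S, y ≠ 1 → f y ∈ involutionsIn
          ((stabilizer ↥(hC.CoreImg H) (⟨a, L.ha⟩ : ↥(hC.coreAct H)) : Subgroup _) :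
            Set ↥(hC.CoreImg H)) := fun y hy hy1 =>
        ⟨((A.mem_Z _).1 (hSf y hy)).1, fun e => hy1 (hinj y hy e), A.Z_sq (hSf y hy)⟩
      obtain ⟨κ, hκ, hκs⟩ := exists_conj_inverted hS (hinv g hg hne) (hinv g' hg' hne')
      have hκD : κ⁻¹ ∈ two _ (⟨a, L.ha⟩ : ↥(hC.coreAct H)) t := inv_mem hκ.1
      obtain ⟨g₀, hg₀⟩ := hC.rho_surjective H κ⁻¹
      rw [← hf] at hg₀
      have hT : (S.map (MulAut.conj g₀).toMonoidHom).map f ≤ S.map f := by
        rintro _ ⟨_, ⟨y, hy, rfl⟩, rfl⟩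
        show f (g₀ * y * g₀⁻¹) ∈ S.map f
        rw [hSZ, map_mul, map_mul, map_inv, hg₀]
        exact A.conj_Z hκD (hSf y hy)
      obtain ⟨k, hk, hkS⟩ := exists_ker_conj f hS2 (hS2.map _) hodd hT
      have hconj : ∀ y ∈ S, k * g₀ * y * (k * g₀)⁻¹ ∈ S := fun y hy => by
        have := hkS _ ⟨y, hy, rfl⟩
        rw [show k * g₀ * y * (k * g₀)⁻¹ = k * (g₀ * y * g₀⁻¹) * k⁻¹ by group]
        exact this
      have hfj : f (k * g₀) = κ⁻¹ := by rw [map_mul, hk, one_mul, hg₀]
      refine ⟨((k * g₀ : ↥(coreOf D H)) : G), ⟨⟨(k * g₀).2, mem_stabilizer_iff.2 ?_⟩, ?_⟩, ?_⟩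
      · have h1 : f (k * g₀) • (⟨a, L.ha⟩ : ↥(hC.coreAct H)) = ⟨a, L.ha⟩ := by
          rw [hfj]
          exact ((mem_two hS).1 hκD).1
        exact hC.rho_fix_iff.1 h1
      · refine mem_normalizer_of_conj ?_
        rintro _ ⟨y, hy, rfl⟩
        exact ⟨_, hconj y hy, rfl⟩
      · refine congrArg Subtype.val (hinj2 _ (hconj g hg) _ hg' ?_)
        rw [map_mul, map_mul, map_inv, hfj, inv_inv, hκs]
    · intro g hga hxg hgR j hj
      have hgH := hmemH hxg
      have hgS : g ∈ stabilizer G a := mem_stabilizer_iff.2 hga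
      exact ⟨⟨hC.conj_mem_coreOf hgH hj.1.1, (stabilizer G a).mul_mem ((stabilizer G a).mul_mem hgS hj.1.2) ((stabilizer G a).inv_mem hgS)⟩,
        Subgroup.mul_mem _ (Subgroup.mul_mem _ hgR hj.2) (Subgroup.inv_mem _ hgR)⟩
  rcases TIEndgame.Line.card_translations hS h2 A with ⟨-, hc | hc⟩ | ⟨-, hc⟩
  · exact ⟨R, 1, hG, Or.inl rfl, by rw [hcardF, hc, hcardR, pow_one], fun _ => hlin hc⟩
  · exact ⟨R, 2, hG, Or.inr (Or.inl rfl), by rw [hcardF, hc, hcardR], fun e => absurd e (by omega)⟩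
  · exact ⟨R, 3, hG, Or.inr (Or.inr rfl), by rw [hcardF, hc, hcardR], fun e => absurd e (by omega)⟩

end CfsgLib.LocalEven.OnePointFront.Nonfull
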