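import Cfsg.Agent.Lib.LocalEven.OnePointFront.Nonfull.Linear.TowerClasses
import Cfsg.Agent.Lib.LocalEven.OnePointFront.Nonfull.Linear.Algebra

/-!
# The next level

An element moving `x` to another class, inverted by `x` and centralising `R`, gives a larger level:
the regular 2-group in the centraliser of `R` is abelian and inverted by `x`, as the pairings
measuring the failure are biadditive, alternating and equivariant under the torus, so trivial.
-/

set_option autoImplicit false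
set_option linter.style.haveILetI false
set_option linter.unusedSectionVars false

namespace CfsgLib.LocalEven.OnePointFront.Nonfull

open MulAction CfsgLib.LocalEven.TIEndgame CfsgLib.Involution

universe u v

variable {G : Type u} {Ω : Type v} [Group G] [MulAction G Ω] [Finite G] {D : Set G} {a : Ω} {x : G}
  {K R J A : Subgroup G} {i : ℕ}

/-- A biadditive alternating pairing on `R` commuting with the torus is trivial. -/
theorem TransLine.pairing_eq_one (L : TransLine D a x K R J) (f : G → G → G)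
    (hmem : ∀ r ∈ R, ∀ s ∈ R, f r s ∈ R)
    (hl : ∀ r ∈ R, ∀ r' ∈ R, ∀ s ∈ R, f (r * r') s = f r s * f r' s)
    (hr : ∀ r ∈ R, ∀ s ∈ R, ∀ s' ∈ R, f r (s * s') = f r s * f r s')
    (halt : ∀ r ∈ R, f r r = 1)
    (heq : ∀ j ∈ J, ∀ r ∈ R, ∀ s ∈ R, f (j * r * j⁻¹) (j * s * j⁻¹) = j * f r s * j⁻¹) :
    ∀ r ∈ R, ∀ s ∈ R, f r s = 1 := by
  letI : CommGroup R :=
    { (inferInstance : Group R) with
      mul_comm := fun r s => Subtype.ext (L.level_zero.comm r r.2 s s.2).eq }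
  let ρ : J →* MulAut R := R.normalizerMonoidHom.comp (Subgroup.inclusion L.norm_J)
  have hρ : ∀ (j : J) (r : R), ((ρ j r : R) : G) = (j : G) * r * (j : G)⁻¹ := fun _ _ => rfl
  have hJ : LinearAlgebra.Scalars ρ.range := by
    refine ⟨fun r => Subtype.ext (L.sq r r.2), ?_, fun r s hr hs => ?_⟩
    · rintro _ ⟨j, rfl⟩ _ ⟨k, rfl⟩
      refine MulEquiv.ext fun r => Subtype.ext ?_
      show ((ρ j (ρ k r) : R) : G) = ((ρ k (ρ j r) : R) : G)
      rw [hρ, hρ, hρ, hρ]
      exact L.abel_J j j.2 k k.2 r r.2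
    · obtain ⟨j, hj, e⟩ := L.trans_J r r.2 s s.2 (fun e => hr (Subtype.ext e))
        (fun e => hs (Subtype.ext e))
      exact ⟨ρ ⟨j, hj⟩, ⟨⟨j, hj⟩, rfl⟩, Subtype.ext (by rw [hρ]; exact e)⟩
  have key := hJ.phi (fun r s : R => (⟨f r s, hmem r r.2 s s.2⟩ : R))
    (fun r r' s => Subtype.ext (hl r r.2 r' r'.2 s s.2))
    (fun r s s' => Subtype.ext (hr r r.2 s s.2 s' s'.2))
    (fun r => Subtype.ext (halt r r.2)) (fun j hj r s => by
      obtain ⟨j, rfl⟩ := hj
      refine Subtype.ext ?_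
      show f ((ρ j r : R) : G) ((ρ j s : R) : G) = ((ρ j _ : R) : G)
      rw [hρ, hρ, hρ]
      exact heq j j.2 r r.2 s s.2)
  intro r hr s hs
  exact congrArg Subtype.val (key ⟨r, hr⟩ ⟨s, hs⟩)

/-- The commutator of `b` and `u`. -/
def dd (b u : G) : G := b * u * b⁻¹ * u⁻¹

namespace Level

variable (L : Level D a x K R J A i) (h : ClosedSetting D Ω) (hnf : NoFull D Ω)
include L h hnf

/-- A regular group centralising `R`, with an element of every class inverted by `x`, is a level. -/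
theorem level_of_inverted {B : Subgroup G} (hB : IsPGroup 2 B) (hAB : A ≤ B)
    (hBm : B ≤ L.moves ⊓ K) (hBR : B ≤ Subgroup.centralizer (R : Set G))
    (hτ : ∀ r ∈ R, ∃ t ∈ B, x * t * x = t⁻¹ ∧ kap x i t = r)
    (htorus : ∀ j ∈ J, ∃ g : G, g • a = a ∧ Commute x g ∧ g ∈ Subgroup.normalizer (A : Set G) ∧
      g ∈ Subgroup.normalizer (B : Set G) ∧ g ∈ Subgroup.normalizer (K : Set G) ∧
        ∀ r ∈ R, g * r * g⁻¹ = j * r * j⁻¹) :
    Level D a x K R J B (i + 1) := by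
  have hm : ∀ b ∈ B, b ∈ L.moves := fun b hb => (hBm hb).1
  have hcR : ∀ b ∈ B, ∀ r ∈ R, b * r * b⁻¹ = r := fun b hb r hr => by
    rw [← Subgroup.mem_centralizer_iff.1 (hBR hb) r hr, mul_inv_cancel_right]
  have hRc : ∀ r ∈ R, ∀ s ∈ R, r * s = s * r := fun r hr s hs =>
    (L.comm r (L.R_le hr) s (L.R_le hs)).eq
  have hzero : ∀ b ∈ B, kap x i b = 1 → b ∈ A := fun b hb e =>
    L.two_zero h hB hAB (hBm.trans inf_le_right) hb (hm b hb) e
  have hkhom : ∀ b ∈ B, ∀ c ∈ B, kap x i (b * c) = kap x i b * kap x i c := fun b hb c hc => by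
    rw [L.kap_mul (hm b hb) (hm c hc), hcR b hb _ (L.kap_mem (hm c hc))]
  have hkinv : ∀ b ∈ B, kap x i b⁻¹ = kap x i b := fun b hb => by
    have h1 := hkhom b hb b⁻¹ (inv_mem hb)
    rw [mul_inv_cancel, L.kap_one] at h1
    rw [eq_inv_of_mul_eq_one_right h1.symm,
      inv_eq_of_mul_eq_one_right (L.line.sq _ (L.kap_mem (hm b hb)))]
  have hbb : ∀ b ∈ B, b * b ∈ A := fun b hb =>
    hzero _ (mul_mem hb hb) (by rw [hkhom b hb b hb, L.line.sq _ (L.kap_mem (hm b hb))])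
  choose! τ hτB hτi hτk using hτ
  -- every element is a chosen one times an element of `A`
  have hrep : ∀ b ∈ B, (τ (kap x i b))⁻¹ * b ∈ A := fun b hb => by
    have ht := hτB _ (L.kap_mem (hm b hb))
    refine hzero _ (mul_mem (inv_mem ht) hb) ?_
    rw [← L.kap_eq_iff h (hm _ ht) (hm b hb), hτk _ (L.kap_mem (hm b hb))]
  have hnA : ∀ b ∈ B, ∀ u ∈ A, b * u * b⁻¹ ∈ A := fun b hb u hu =>
    (Subgroup.mem_normalizer_iff.1 (hm b hb).2.1 u).1 hu
  have hdA : ∀ b ∈ B, ∀ u ∈ A, dd b u ∈ A := fun b hb u hu => mul_mem (hnA b hb u hu) (inv_mem hu)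
  have hdpow : ∀ b ∈ B, ∀ u ∈ A, ∀ n : ℕ, dd b u ^ n = dd b (u ^ n) := fun b hb u hu n => by
    rw [dd, (L.comm _ (hnA b hb u hu) _ (inv_mem hu)).mul_pow, conj_pow, inv_pow]
    rfl
  have hdR : ∀ b ∈ B, ∀ r ∈ R, dd b r = 1 := fun b hb r hr => by
    rw [dd, hcR b hb r hr, mul_inv_cancel]
  -- `B` centralises `A`
  have key : ∀ j ≤ i + 1, ∀ b ∈ B, ∀ u ∈ A, dd b u ^ 2 ^ (i + 1 - j) = 1 := by
    intro j
    induction j with
    | zero => exact fun _ b hb u hu => L.exp _ (hdA b hb u hu)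
    | succ j ih =>
      intro hj b hb u hu
      rcases Nat.eq_zero_or_pos j with hj0 | hj0
      · subst hj0
        rw [show i + 1 - (0 + 1) = i by omega, hdpow b hb u hu]
        exact hdR b hb _ (L.pow_mem_R hu)
      have ih' := ih (by omega)
      rw [show i + 1 - (j + 1) = i - j by omega]
      set n := 2 ^ (i - j) with hn
      have hn2 : ∀ b ∈ B, ∀ u ∈ A, (dd b u ^ n) * (dd b u ^ n) = 1 := fun b hb u hu => by
        rw [← pow_add, ← two_mul, hn, ← pow_succ', show i - j + 1 = i + 1 - j by omega]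
        exact ih' b hb u hu
      have hβR : ∀ b ∈ B, ∀ u ∈ A, dd b u ^ n ∈ R := fun b hb u hu =>
        L.invol _ (pow_mem (hdA b hb u hu) _) (hn2 b hb u hu)
      have hright : ∀ b ∈ B, ∀ u ∈ A, ∀ v ∈ A, dd b (u * v) ^ n = dd b u ^ n * dd b v ^ n := by
        intro b hb u hu v hv
        rw [← (L.comm _ (hdA b hb u hu) _ (hdA b hb v hv)).mul_pow]
        congr 1
        calc dd b (u * v) = b * u * b⁻¹ * (dd b v * u⁻¹) := by simp only [dd]; group
          _ = _ := by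
            rw [(L.comm _ (hdA b hb v hv) _ (inv_mem hu)).eq, ← mul_assoc]
            rfl
      have hleft : ∀ b ∈ B, ∀ c ∈ B, ∀ u ∈ A, dd (b * c) u ^ n = dd c u ^ n * dd b u ^ n := by
        intro b hb c hc u hu
        have h1 := hdA c hc u hu
        have e : dd (b * c) u = dd b (dd c u) * dd c u * dd b u := by simp only [dd]; group
        rw [e, (L.comm _ (mul_mem (hdA b hb _ h1) h1) _ (hdA b hb u hu)).mul_pow,
          (L.comm _ (hdA b hb _ h1) _ h1).mul_pow, hdpow b hb _ h1 n, hdR b hb _ (hβR c hc u hu),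
          one_mul]
      have hA1 : ∀ v ∈ A, ∀ u ∈ A, dd v u ^ n = 1 := fun v hv u hu => by
        rw [dd, (L.comm v hv u hu).eq, mul_inv_cancel_right, mul_inv_cancel, one_pow]
      have hdep_b : ∀ b ∈ B, ∀ u ∈ A, dd b u ^ n = dd (τ (kap x i b)) u ^ n := by
        intro b hb u hu
        have ht := hτB _ (L.kap_mem (hm b hb))
        conv_lhs => rw [show b = τ (kap x i b) * ((τ (kap x i b))⁻¹ * b) by group]
        rw [hleft _ ht _ (hAB (hrep b hb)) u hu, hA1 _ (hrep b hb) u hu, one_mul]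
      have hdep_u : ∀ b ∈ B, ∀ u ∈ A, ∀ v ∈ A, u ^ 2 ^ i = v ^ 2 ^ i → dd b u ^ n = dd b v ^ n := by
        intro b hb u hu v hv e
        obtain ⟨w, hw, hwe⟩ := L.exists_sq (mul_mem (inv_mem hv) hu) (by
          rw [(L.comm _ (inv_mem hv) _ hu).mul_pow, inv_pow, e, inv_mul_cancel])
        rw [show u = v * (w * w) by rw [hwe, mul_inv_cancel_left],
          hright b hb v hv _ (mul_mem hw hw), hright b hb w hw w hw, hn2 b hb w hw, mul_one]
      choose! σ hσA hσr using L.root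
      have hf := L.line.pairing_eq_one (fun r s => dd (τ r) (σ s) ^ n)
        (fun r hr s hs => hβR _ (hτB r hr) _ (hσA s hs))
        (fun r hr r' hr' s hs => by
          have hb := mul_mem (hτB r hr) (hτB r' hr')
          have h1 := hdep_b _ hb _ (hσA s hs)
          rw [hkhom _ (hτB r hr) _ (hτB r' hr'), hτk r hr, hτk r' hr'] at h1
          rw [← h1, hleft _ (hτB r hr) _ (hτB r' hr') _ (hσA s hs)]
          exact hRc _ (hβR _ (hτB r' hr') _ (hσA s hs)) _ (hβR _ (hτB r hr) _ (hσA s hs)))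
        (fun r hr s hs s' hs' => by
          rw [← hright _ (hτB r hr) _ (hσA s hs) _ (hσA s' hs')]
          refine hdep_u _ (hτB r hr) _ (hσA _ (mul_mem hs hs')) _ (mul_mem (hσA s hs) (hσA s' hs')) ?_
          rw [hσr _ (mul_mem hs hs'), (L.comm _ (hσA s hs) _ (hσA s' hs')).mul_pow, hσr s hs,
            hσr s' hs'])
        (fun r hr => by
          have ht := hτB r hr
          have hu : (τ r)⁻¹ * (τ r)⁻¹ ∈ A := by
            rw [← mul_inv_rev]; exact inv_mem (hbb _ ht)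
          have he : ((τ r)⁻¹ * (τ r)⁻¹) ^ 2 ^ i = r := by
            conv_rhs => rw [← hτk r hr]
            rw [kap, disp, hτi r hr]
          rw [hdep_u _ ht _ (hσA r hr) _ hu (by rw [hσr r hr, he]),
            show dd (τ r) ((τ r)⁻¹ * (τ r)⁻¹) = 1 by simp only [dd]; group, one_pow])
        (fun k hk r hr s hs => by
          obtain ⟨g, hga, hgx, hgnA, hgnB, -, hgj⟩ := htorus k hk
          have hτg : g * τ r * g⁻¹ ∈ B := (Subgroup.mem_normalizer_iff.1 hgnB _).1 (hτB r hr)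
          have hσg : g * σ s * g⁻¹ ∈ A := (Subgroup.mem_normalizer_iff.1 hgnA _).1 (hσA s hs)
          have hr' : k * r * k⁻¹ ∈ R := hgj r hr ▸ L.normal_R hgnA hr
          have hs' : k * s * k⁻¹ ∈ R := hgj s hs ▸ L.normal_R hgnA hs
          have e1 : kap x i (g * τ r * g⁻¹) = k * r * k⁻¹ := by
            rw [L.kap_conj hgx, hτk r hr, hgj r hr]
          have h1 := hdep_b _ hτg _ hσg
          rw [e1] at h1
          rw [hdep_u _ (hτB _ hr') _ (hσA _ hs') _ hσg (by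
              rw [hσr _ hs', conj_pow, hσr s hs, hgj s hs]),
            ← h1, ← hgj _ (hβR _ (hτB r hr) _ (hσA s hs)), ← conj_pow]
          congr 1
          simp only [dd]; group)
      rw [hdep_b b hb u hu,
        hdep_u _ (hτB _ (L.kap_mem (hm b hb))) u hu _ (hσA _ (L.pow_mem_R hu))
          (hσr _ (L.pow_mem_R hu)).symm]
      exact hf _ (L.kap_mem (hm b hb)) _ (L.pow_mem_R hu)
  have hcent : ∀ b ∈ B, ∀ u ∈ A, b * u = u * b := fun b hb u hu => by
    have h1 := key (i + 1) le_rfl b hb u hu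
    rw [Nat.sub_self, pow_zero, pow_one, dd, mul_inv_eq_one, mul_inv_eq_iff_eq_mul] at h1
    exact h1
  -- the commutators
  have hγA : ∀ b ∈ B, ∀ c ∈ B, dd b c ∈ A := fun b hb c hc => by
    refine hzero _ (mul_mem (mul_mem (mul_mem hb hc) (inv_mem hb)) (inv_mem hc)) ?_
    rw [dd, hkhom _ (mul_mem (mul_mem hb hc) (inv_mem hb)) _ (inv_mem hc),
      hkhom _ (mul_mem hb hc) _ (inv_mem hb), hkhom b hb c hc, hkinv b hb, hkinv c hc]
    have hb' := L.kap_mem (hm b hb)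
    have hc' := L.kap_mem (hm c hc)
    rw [hRc _ hb' _ hc', mul_assoc (kap x i c), L.line.sq _ hb', mul_one, L.line.sq _ hc']
  have hγl : ∀ b ∈ B, ∀ c ∈ B, ∀ e ∈ B, dd (b * c) e = dd c e * dd b e := fun b hb c hc e he => by
    have h1 := hcent b hb _ (hγA c hc e he)
    calc dd (b * c) e = b * dd c e * e * b⁻¹ * e⁻¹ := by simp only [dd]; group
      _ = dd c e * b * e * b⁻¹ * e⁻¹ := by rw [h1]
      _ = _ := by simp only [dd]; group
  have hγs : ∀ b c : G, dd b c = (dd c b)⁻¹ := fun b c => by simp only [dd]; group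
  have hγr : ∀ b ∈ B, ∀ c ∈ B, ∀ e ∈ B, dd b (c * e) = dd b c * dd b e := fun b hb c hc e he => by
    rw [hγs, hγl c hc e he b hb, mul_inv_rev, ← hγs, ← hγs]
  have hγA1 : ∀ v ∈ A, ∀ b ∈ B, dd v b = 1 := fun v hv b hb => by
    rw [dd, ← hcent b hb v hv, mul_inv_cancel_right, mul_inv_cancel]
  have hγdep : ∀ b ∈ B, ∀ c ∈ B, dd b c = dd (τ (kap x i b)) c := fun b hb c hc => by
    have ht := hτB _ (L.kap_mem (hm b hb))
    conv_lhs => rw [show b = τ (kap x i b) * ((τ (kap x i b))⁻¹ * b) by group]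
    rw [hγl _ ht _ (hAB (hrep b hb)) c hc, hγA1 _ (hrep b hb) c hc, one_mul]
  have hγdep' : ∀ b ∈ B, ∀ c ∈ B, dd b c = dd b (τ (kap x i c)) := fun b hb c hc => by
    rw [hγs, hγdep c hc b hb, ← hγs]
  have hγR : ∀ r ∈ R, ∀ s ∈ R, dd (τ r) (τ s) ∈ R := by
    intro r hr s hs
    have ht := hτB r hr
    have hu := hτB s hs
    have hd := hγA _ ht _ hu
    refine L.invol _ hd ?_
    have e1 : x * dd (τ r) (τ s) * x = dd (τ r)⁻¹ (τ s)⁻¹ := by
      have hx2 := L.x_sq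
      calc x * dd (τ r) (τ s) * x
          = (x * τ r * x) * (x * τ s * x) * (x * τ r * x)⁻¹ * (x * τ s * x)⁻¹ := by
            have hxi := L.line.x_inv
            simp only [dd, mul_inv_rev, hxi]
            group
            simp [mul_assoc, hx2]
        _ = _ := by rw [hτi r hr, hτi s hs]; rfl
    have e2 : dd (τ r)⁻¹ (τ s)⁻¹ = dd (τ r) (τ s) := by
      have p1 := hγl _ ht _ (inv_mem ht) _ (inv_mem hu)
      have p2 := hγr _ ht _ hu _ (inv_mem hu)
      rw [mul_inv_cancel, show dd 1 (τ s)⁻¹ = 1 by simp [dd]] at p1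
      rw [mul_inv_cancel, show dd (τ r) 1 = 1 by simp [dd]] at p2
      rw [eq_inv_of_mul_eq_one_left p1.symm, eq_inv_of_mul_eq_one_right p2.symm, inv_inv]
    rw [L.inv _ hd, e2] at e1
    rw [mul_eq_one_iff_eq_inv]
    exact e1.symm
  have hγ1 := L.line.pairing_eq_one (fun r s => dd (τ r) (τ s)) hγR
    (fun r hr r' hr' s hs => by
      have ht := hτB r hr
      have ht' := hτB r' hr'
      have h1 := hγdep _ (mul_mem ht ht') _ (hτB s hs)
      rw [hkhom _ ht _ ht', hτk r hr, hτk r' hr'] at h1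
      rw [← h1, hγl _ ht _ ht' _ (hτB s hs)]
      exact hRc _ (hγR r' hr' s hs) _ (hγR r hr s hs))
    (fun r hr s hs s' hs' => by
      have hu := hτB s hs
      have hu' := hτB s' hs'
      have h1 := hγdep' _ (hτB r hr) _ (mul_mem hu hu')
      rw [hkhom _ hu _ hu', hτk s hs, hτk s' hs'] at h1
      rw [← h1, hγr _ (hτB r hr) _ hu _ hu'])
    (fun r _ => by simp [dd])
    (fun k hk r hr s hs => by
      obtain ⟨g, hga, hgx, hgnA, hgnB, -, hgj⟩ := htorus k hk
      have hg1 : ∀ q ∈ R, g * τ q * g⁻¹ ∈ B ∧ kap x i (g * τ q * g⁻¹) = k * q * k⁻¹ := fun q hq =>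
        ⟨(Subgroup.mem_normalizer_iff.1 hgnB _).1 (hτB q hq),
          by rw [L.kap_conj hgx, hτk q hq, hgj q hq]⟩
      have hr' : k * r * k⁻¹ ∈ R := hgj r hr ▸ L.normal_R hgnA hr
      obtain ⟨h1, h1k⟩ := hg1 r hr
      obtain ⟨h2, h2k⟩ := hg1 s hs
      have e := hγdep _ h1 _ h2
      rw [h1k, hγdep' _ (hτB _ hr') _ h2, h2k] at e
      rw [← e, ← hgj _ (hγR r hr s hs)]
      simp only [dd]; group)
  have hab : ∀ b ∈ B, ∀ c ∈ B, Commute b c := fun b hb c hc => by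
    have h1 : dd b c = 1 := by
      rw [hγdep b hb c hc, hγdep' _ (hτB _ (L.kap_mem (hm b hb))) c hc]
      exact hγ1 _ (L.kap_mem (hm b hb)) _ (L.kap_mem (hm c hc))
    rw [dd, mul_inv_eq_one, mul_inv_eq_iff_eq_mul] at h1
    exact h1
  have hinv : ∀ b ∈ B, x * b * x = b⁻¹ := fun b hb => by
    have ht := hτB _ (L.kap_mem (hm b hb))
    set t := τ (kap x i b)
    set w := t⁻¹ * b with hw
    have e : x * b * x = (x * t * x) * (x * w * x) := by
      rw [show x * t * x * (x * w * x) = x * t * (x * x) * w * x by group, L.x_sq, mul_one, hw]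
      group
    rw [e, hτi _ (L.kap_mem (hm b hb)), L.inv _ (hrep b hb), show b⁻¹ = w⁻¹ * t⁻¹ by rw [hw]; group,
      (hab _ (hAB (hrep b hb)) _ ht).inv_inv.eq]
  exact
    { line := L.line
      le := hBm.trans inf_le_right
      two := hB
      R_le := L.R_le.trans hAB
      comm := hab
      inv := hinv
      invol := fun b hb hbb' => by
        refine L.line.mem_of_commute h hB (hBm.trans inf_le_right) (L.R_le.trans hAB) hb ?_
        have h1 := hinv b hb
        rw [inv_eq_of_mul_eq_one_right hbb'] at h1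
        show x * b = b * x
        calc x * b = x * b * (x * x) := by rw [L.x_sq, mul_one]
          _ = (x * b * x) * x := by group
          _ = b * x := by rw [h1]
      root := fun r hr => ⟨(τ r)⁻¹, inv_mem (hτB r hr), by
        conv_rhs => rw [← hτk r hr]
        rw [kap, disp, hτi r hr, ← pow_two, ← pow_mul, ← pow_succ']⟩
      exp := fun b hb => by
        rw [pow_succ', pow_mul, pow_two]
        exact L.exp _ (hbb b hb)
      torus := fun j hj => by
        obtain ⟨g, hga, hgx, -, hgnB, hgK, hgj⟩ := htorus j hj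
        exact ⟨g, hga, hgx, hgnB, hgK, hgj⟩ }

/-- A 2-group of `H` over `A` is moved into a regular group `B` of `H` by an element commuting
with `x`. -/
theorem exists_conj_comm {H B W : Subgroup G} (hAH : A ≤ H) (hH : H ≤ L.moves ⊓ K)
    (hB : IsPGroup 2 B) (hAB : A ≤ B) (hBH : B ≤ H) (honto : ∀ r ∈ R, ∃ b ∈ B, kap x i b = r)
    (hmax : ∀ l : Subgroup G, IsPGroup 2 l → A ≤ l → l ≤ L.moves ⊓ K → Nat.card l ≤ Nat.card B)
    (hW : IsPGroup 2 W) (hAW : A ≤ W) (hWH : W ≤ H) :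
    ∃ c ∈ H, Commute x c ∧ ∀ y ∈ W, c * y * c⁻¹ ∈ B := by
  haveI : Fact (Nat.Prime 2) := ⟨Nat.prime_two⟩
  obtain ⟨P, hP⟩ := (hB.comap_subtype (K := H)).exists_le_sylow
  obtain ⟨Q, hQ⟩ := (hW.comap_subtype (K := H)).exists_le_sylow
  have hPB : (P : Subgroup H).map H.subtype = B := by
    refine (Subgroup.eq_of_le_of_card_ge (show B ≤ (P : Subgroup H).map H.subtype from
      fun y hy => ⟨⟨y, hBH hy⟩, hP (Subgroup.mem_subgroupOf.2 hy), rfl⟩) ?_).symm
    exact hmax _ (P.2.map _)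
      (show A ≤ (P : Subgroup H).map H.subtype from fun y hy =>
        ⟨⟨y, hAH hy⟩, hP (Subgroup.mem_subgroupOf.2 (hAB hy)), rfl⟩)
      ((Subgroup.map_subtype_le _).trans hH)
  obtain ⟨l, hl⟩ := exists_smul_eq H Q P
  have hlW : ∀ y ∈ W, (l : G) * y * (l : G)⁻¹ ∈ B := by
    intro y hy
    rw [← hPB]
    refine ⟨l * ⟨y, hWH hy⟩ * l⁻¹, ?_, rfl⟩
    have h1 : l * (⟨y, hWH hy⟩ : H) * l⁻¹ ∈ (l • Q : Sylow 2 H) := by
      rw [Sylow.smul_def]
      exact ⟨_, hQ (Subgroup.mem_subgroupOf.2 hy), rfl⟩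
    rwa [hl] at h1
  have hlm : (l : G) ∈ L.moves := (hH l.2).1
  have hBm : B ≤ L.moves ⊓ K := hBH.trans hH
  obtain ⟨b, hb, hbl⟩ := honto _ (L.kap_mem hlm)
  obtain ⟨w, hw, hwc⟩ := L.exists_comm (mul_mem (inv_mem (hBm hb).1) hlm)
    ((L.kap_eq_iff h (hBm hb).1 hlm).1 hbl)
  refine ⟨w * (b⁻¹ * l), mul_mem (hAH hw) (mul_mem (inv_mem (hBH hb)) l.2), hwc, fun y hy => ?_⟩
  rw [show w * (b⁻¹ * (l : G)) * y * (w * (b⁻¹ * (l : G)))⁻¹
    = (w * b⁻¹) * ((l : G) * y * (l : G)⁻¹) * (w * b⁻¹)⁻¹ by group]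
  have hwb := mul_mem (hAB hw) (inv_mem hb)
  exact mul_mem (mul_mem hwb (hlW y hy)) (inv_mem hwb)

/-- An inverted element centralising `R` and moving the class of `x` gives a larger level. -/
theorem exists_next {t₀ : G} (ht₀ : t₀ ∈ L.moves ⊓ K) (hinv : x * t₀ * x = t₀⁻¹)
    (hcen : ∀ r ∈ R, Commute t₀ r) (hk : kap x i t₀ ≠ 1) {V : Subgroup G} (hV : IsPGroup 2 V)
    (hVA : V ≤ Subgroup.normalizer (A : Set G))
    (hVH : V ≤ Subgroup.normalizer
      ((L.moves ⊓ K ⊓ Subgroup.centralizer (R : Set G) : Subgroup G) : Set G)) :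
    ∃ B : Subgroup G, Level D a x K R J B (i + 1) ∧ Nat.card A < Nat.card B ∧
      V ≤ Subgroup.normalizer (B : Set G) ∧ A ≤ B ∧
      B ≤ L.moves ⊓ K ⊓ Subgroup.centralizer (R : Set G) ∧ (∀ r ∈ R, ∃ b ∈ B, kap x i b = r) ∧
      ∀ l : Subgroup G, IsPGroup 2 l → A ≤ l → l ≤ L.moves ⊓ K → Nat.card l ≤ Nat.card B := by
  haveI : Fact (Nat.Prime 2) := ⟨Nat.prime_two⟩
  set H := L.moves ⊓ K ⊓ Subgroup.centralizer (R : Set G) with hH
  have hcH : ∀ g ∈ H, ∀ r ∈ R, g * r * g⁻¹ = r := fun g hg r hr => by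
    rw [← Subgroup.mem_centralizer_iff.1 hg.2 r hr, mul_inv_cancel_right]
  have hAH : A ≤ H := fun u hu => Subgroup.mem_inf.2
    ⟨Subgroup.mem_inf.2 ⟨(L.A_mem hu).1, L.le hu⟩,
      Subgroup.mem_centralizer_iff.2 fun r hr => (L.comm r (L.R_le hr) u hu).eq⟩
  have ht₀H : t₀ ∈ H := Subgroup.mem_inf.2
    ⟨ht₀, Subgroup.mem_centralizer_iff.2 fun r hr => (hcen r hr).symm.eq⟩
  -- the torus normalises `H`
  have hconjH : ∀ g : G, g • a = a → Commute x g → g ∈ Subgroup.normalizer (A : Set G) →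
      g ∈ Subgroup.normalizer (K : Set G) → ∀ y ∈ H, g * y * g⁻¹ ∈ H := by
    intro g hga hgx hgn hgK y hy
    have hm := (L.commute_mem hga hgn hgx).1
    refine Subgroup.mem_inf.2 ⟨Subgroup.mem_inf.2 ⟨mul_mem (mul_mem hm hy.1.1) (inv_mem hm),
      (Subgroup.mem_normalizer_iff.1 hgK y).1 hy.1.2⟩, ?_⟩
    refine Subgroup.mem_centralizer_iff.2 fun r hr => ?_
    have h1 := L.normal_R (inv_mem hgn) hr
    rw [inv_inv] at h1
    have h2 := (Subgroup.mem_centralizer_iff.1 hy.2 _ h1)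
    calc r * (g * y * g⁻¹) = g * ((g⁻¹ * r * g) * y) * g⁻¹ := by group
      _ = g * (y * (g⁻¹ * r * g)) * g⁻¹ := by rw [h2]
      _ = _ := by group
  have hHonto : ∀ r ∈ R, ∃ g ∈ H, kap x i g = r := by
    intro r hr
    by_cases hr1 : r = 1
    · exact ⟨1, one_mem _, by rw [L.kap_one, hr1]⟩
    obtain ⟨j, hj, e⟩ := L.line.trans_J _ (L.kap_mem ht₀.1) r hr hk hr1
    obtain ⟨g, hga, hgx, hgn, hgK, hgj⟩ := L.torus j hj
    exact ⟨g * t₀ * g⁻¹, hconjH g hga hgx hgn hgK t₀ ht₀H,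
      by rw [L.kap_conj hgx, hgj _ (L.kap_mem ht₀.1), e]⟩
  obtain ⟨B, hB, hAB, hBH, honto, hVB, hmax⟩ :=
    L.exists_regular h hnf hAH inf_le_left hHonto hV hVA hVH
  have hBm : B ≤ L.moves ⊓ K := hBH.trans inf_le_left
  have hinto := fun W hW hAW hWH =>
    L.exists_conj_comm h hnf (H := H) (W := W) hAH inf_le_left hB hAB hBH honto hmax hW hAW hWH
  have htorus : ∀ j ∈ J, ∃ g : G, g • a = a ∧ Commute x g ∧ g ∈ Subgroup.normalizer (A : Set G) ∧
      g ∈ Subgroup.normalizer (B : Set G) ∧ g ∈ Subgroup.normalizer (K : Set G) ∧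
        ∀ r ∈ R, g * r * g⁻¹ = j * r * j⁻¹ := by
    intro j hj
    obtain ⟨g, hga, hgx, hgn, hgK, hgj⟩ := L.torus j hj
    obtain ⟨c, hc, hcx, hcB⟩ := hinto (B.map (MulAut.conj g).toMonoidHom) (hB.map _)
      (fun u hu => by
        refine ⟨g⁻¹ * u * g, hAB ?_, by simp [mul_assoc]⟩
        have := (Subgroup.mem_normalizer_iff.1 (inv_mem hgn) u).1 hu
        rwa [inv_inv] at this)
      (by rintro _ ⟨y, hy, rfl⟩; exact hconjH g hga hgx hgn hgK y (hBH hy))
    have hmap : ∀ y ∈ B, (c * g) * y * (c * g)⁻¹ ∈ B := fun y hy => by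
      have := hcB _ ⟨y, hy, rfl⟩
      simpa [mul_assoc] using this
    refine ⟨c * g, by rw [mul_smul, hga, hc.1.1.1], hcx.mul_right hgx, mul_mem hc.1.1.2.1 hgn, ?_, mul_mem (Subgroup.le_normalizer hc.1.2) hgK,
      fun r hr => ?_⟩
    · have hle : B.map (MulAut.conj (c * g)).toMonoidHom ≤ B := by
        rintro _ ⟨y, hy, rfl⟩
        exact hmap y hy
      have heq := Subgroup.eq_of_le_of_card_ge hle
        (Subgroup.card_map_of_injective (MulAut.conj (c * g)).injective).ge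
      refine Subgroup.mem_normalizer_iff.2 fun y => ⟨hmap y, fun hy => ?_⟩
      obtain ⟨z, hz, hzy⟩ : c * g * y * (c * g)⁻¹ ∈ B.map (MulAut.conj (c * g)).toMonoidHom := by
        rw [heq]; exact hy
      rwa [← mul_left_cancel (mul_right_cancel hzy)]
    · rw [show c * g * r * (c * g)⁻¹ = c * (g * r * g⁻¹) * c⁻¹ by group,
        hcH c hc _ (L.normal_R hgn hr), hgj r hr]
  -- inverted elements in every class
  obtain ⟨t, htB, hti, htk⟩ : ∃ t ∈ B, x * t * x = t⁻¹ ∧ kap x i t = kap x i t₀ := by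
    have hsq : t₀ * t₀ ∈ A := by
      have := inv_mem ht₀.1.2.2
      rwa [disp, hinv, mul_inv_rev, inv_inv] at this
    let W : Subgroup G := A ⊔ Subgroup.zpowers t₀
    have hW : IsPGroup 2 (Subgroup.zpowers t₀) := by
      obtain ⟨n, hn⟩ := L.two ⟨_, hsq⟩
      have h1 : t₀ ^ 2 ^ (n + 1) = 1 := by
        rw [pow_succ', pow_mul, pow_two]; exact congrArg Subtype.val hn
      obtain ⟨m, -, hm⟩ := (Nat.dvd_prime_pow Nat.prime_two).1 (orderOf_dvd_of_pow_eq_one h1)
      exact IsPGroup.of_card (n := m) (by rw [Nat.card_zpowers, hm])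
    obtain ⟨c, hc, hcx, hcB⟩ := hinto W
      (L.two.to_sup_of_normal_left' hW (Subgroup.zpowers_le.2 ht₀.1.2.1)) le_sup_left
      (sup_le hAH (Subgroup.zpowers_le.2 ht₀H))
    refine ⟨c * t₀ * c⁻¹, hcB _ (Subgroup.mem_sup_right (Subgroup.mem_zpowers t₀)), ?_, ?_⟩
    · have e1 : x * c = c * x := hcx.eq
      have e2 : x * c⁻¹ = c⁻¹ * x := hcx.inv_right.eq
      calc x * (c * t₀ * c⁻¹) * x = (x * c) * t₀ * (c⁻¹ * x) := by group
        _ = (c * x) * t₀ * (x * c⁻¹) := by rw [e1, e2]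
        _ = c * (x * t₀ * x) * c⁻¹ := by group
        _ = _ := by rw [hinv]; group
    · rw [L.kap_conj hcx, hcH c hc _ (L.kap_mem ht₀.1)]
  have hτ : ∀ r ∈ R, ∃ t ∈ B, x * t * x = t⁻¹ ∧ kap x i t = r := by
    intro r hr
    by_cases hr1 : r = 1
    · exact ⟨1, one_mem B, by rw [mul_one, L.x_sq, inv_one], by rw [L.kap_one, hr1]⟩
    obtain ⟨j, hj, e⟩ := L.line.trans_J _ (L.kap_mem ht₀.1) r hr hk hr1
    obtain ⟨g, hga, hgx, hgnA, hgn, -, hgj⟩ := htorus j hj
    refine ⟨g * t * g⁻¹, (Subgroup.mem_normalizer_iff.1 hgn t).1 htB, ?_, ?_⟩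
    · calc x * (g * t * g⁻¹) * x = (x * g) * t * (g⁻¹ * x) := by group
        _ = (g * x) * t * (x * g⁻¹) := by rw [hgx.eq, hgx.inv_right.eq]
        _ = g * (x * t * x) * g⁻¹ := by group
        _ = _ := by rw [hti]; group
    · rw [L.kap_conj hgx, htk, hgj _ (L.kap_mem ht₀.1), e]
  refine ⟨B, L.level_of_inverted h hnf hB hAB hBm (hBH.trans inf_le_right) hτ htorus, ?_, hVB, hAB,
    hBH, honto, hmax⟩
  refine lt_of_le_of_ne (Subgroup.card_le_of_le hAB) fun e => ?_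
  rw [← Subgroup.eq_of_le_of_card_ge hAB e.ge] at htB
  exact hk (htk ▸ (L.A_mem htB).2)

end Level

end CfsgLib.LocalEven.OnePointFront.Nonfull
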